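import Cfsg.Agent.H449.Reg.OddRows_m3
import Cfsg.Agent.SM.L.Gen_m3
import Cfsg.Agent.H946.KZ.Gap
import Cfsg.Agent.SM.Sp.Enum_m3
import Cfsg.Agent.H236.RC.Ident
import Cfsg.Agent.H364.LieNam
import Cfsg.Agent.AutOrth.Final
import Cfsg.Agent.H989.Fx.Ty_m3
import Cfsg.Agent.H955.QM3
import Cfsg.Agent.H449.Reg.OddAll_m3
import Cfsg.Agent.H803.Rl.Big_m3
import Cfsg.Agent.SM.Glue_m3
import Cfsg.Agent.H190.Cov.K128_m3
import Cfsg.Agent.H325.Cov.KE7_m3
import Cfsg.Agent.H190.Cov.Two.Rad3c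
import Cfsg.Agent.H563.KG.CycFix
import Cfsg.Agent.OrdDiv.Table
import Cfsg.Agent.H563.KG.Elim_m3
import Cfsg.Agent.H946.KZ.SameF4
import Cfsg.Agent.H290.Wei.TopElt
import Cfsg.Agent.H130.F4Graph
import Cfsg.Agent.H414.IsoE8_m3
import Cfsg.Agent.H386.Rg.AlphaA_m3
import Cfsg.Agent.H394.Wei.Congr_m3
import Cfsg.Agent.H83.TorD4
import Cfsg.Agent.H357.EP.V27
import Cfsg.Agent.S4280
import Cfsg.Agent.SM.O8.M1B_m3
import Cfsg.Agent.H934.HeisF4Even
import Cfsg.Agent.S1027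
import Cfsg.Agent.S1047
import Cfsg.Agent.S1048
import Cfsg.Agent.S2178
import Cfsg.Agent.S2186
import Cfsg.Agent.SM.Asm_m3
import Cfsg.Agent.TH.Spor.InB
import Cfsg.Agent.TH.Spor.EngC
import Cfsg.Agent.H72.AdjPSL
import Cfsg.Agent.H72.Task106
import Cfsg.Agent.H153.SixOmega_m3
import Cfsg.Agent.S0778
import Cfsg.Agent.LieClassical.SympCenter
import Cfsg.Agent.DZ3.Spor.Tr_m3
import Cfsg.Agent.H367.ClsList
import Cfsg.Agent.TAB.F22.FxB_m3
import Cfsg.Agent.H715.Fpr.Row4_m3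
import Cfsg.Agent.TAB.J2.Main
import Cfsg.Agent.TAB.J4.RkD_m3
import Cfsg.Agent.TAB.Sm2.M11_m3
import Cfsg.Agent.TAB.F22.FxC_m3
import Cfsg.Agent.TAB.F24C.DMain_m3
import Cfsg.Agent.TH.Spor.EngB_m3
import Cfsg.Agent.TH.Spor.J3Tab
import Cfsg.Agent.TAB.F24C.E74_m3
import Cfsg.Agent.TAB.ON.Main
import Cfsg.Agent.TAB.F23.Tab
import Cfsg.Agent.TAB.F24.Use_m3
import Cfsg.Agent.TAB.Th.RepA_m3
import Cfsg.Agent.TAB.B.Fin.Use
import Cfsg.Agent.TAB.M.Virt_m3
import Cfsg.Agent.SM.Sp.Glue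
import Cfsg.Agent.TH.Spor.InA_m3
import Cfsg.Agent.TH.Spor.InE
import Cfsg.Agent.TAB.F23C.Main
import Cfsg.Agent.SM.SpB.Str_m3
import Cfsg.Agent.H487.SchurPerfect
import Cfsg.Agent.H219.HerAlt
import Cfsg.Agent.H352.Order120
import Cfsg.Agent.S2044
import Cfsg.Agent.S2045
import Cfsg.Agent.Lib.FastPerm
import Cfsg.Agent.FastGrp
import Cfsg.Agent.Prune
set_option linter.all false

section
prune_inst 0x7ffcbcfbabec29dedfff7e3fa6d9cffc31809fffefdff94bffece1bfabdf238209652bad89e018fe1ed6623410b87853fbffceffe26bdc7ffffd5ff41ffbee0ff5f7b508519488340f342ff703f0778e7f3fffffffffffffffffffffffffffbeffbfffffffff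

-- part: H73/Rg/KH4
section
set_option linter.all false
open scoped Cfsg.Agent.FastGrp

-- part: H73/Rg/HTblF
section
/-!
# The table of `F₄(q)`, `q ≥ 5` (helper73)
-/

set_option autoImplicit false
set_option exponentiation.threshold 7000

namespace Cfsg.Agent.H73.Rg

open Cfsg.Agent.H902 Cfsg.Agent.H290.ElTab Cfsg.Agent.H563.KG

/-- the data for the classes 8, 12 -/
def D4a : TD := ⟨.F4, 8, 12, 101, 4, 4, [], 5⟩

theorem tblH_4a : TblH 52 D4a [] 8 12 where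
  hn := by norm_num
  ok := ⟨by decide, by decide, by decide, by decide, by decide +kernel, by decide +kernel, by decide, by decide⟩
  ne := by decide
  hR := Cfsg.Agent.H73.Rg.Fast.chkR_of (by decide +kernel)
  hS := Cfsg.Agent.H73.Rg.Fast.chkS_of (by decide +kernel)
  hE := by norm_num
  hE' := by norm_num
  hE30 := by norm_num
  hE30' := by norm_num
  hA := by decide +kernel

theorem gchk_f12 : gchk 52 12 23 4 5 [] = true := by decide +kernel
theorem gchk_f8 : gchk 52 8 23 4 5 [] = true := by decide +kernel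

end Cfsg.Agent.H73.Rg
end

-- part: H73/Rg/KH4
section
/-!
# Subgroups of `F₄(q)`, `q ≥ 5`, containing at least half of the classes 8 and 12 (helper73)

`k812` : they are the whole group.
-/

set_option autoImplicit false
set_option exponentiation.threshold 7000

namespace Cfsg.Agent.H73.Rg

open Cfsg Cfsg.Agent.OrdDiv Cfsg.Agent.H436 Cfsg.Agent.H902 Cfsg.Agent.H290.ElReg Cfsg.Agent.H290.ElTab
  Cfsg.Agent.H56.Exc Cfsg.Agent.H325.Loc Cfsg.Agent.H915.GN Cfsg.Agent.H264.FKS Cfsg.Agent.H325.Same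
  Cfsg.Agent.H325.IsoExc Cfsg.Agent.H563.KG

section

variable {F : Type} [Field F] [Fintype F] {p f : ℕ}

/-- the classes 8, 12 -/
theorem big4 {q : ℕ} (hq : Fintype.card F = q) (hq1 : 1 ≤ q) {c : ℕ} (hc : c = 12 ∨ c = 8) {r : ℕ}
    (hr : Prim q c r) : Big ↥(Lie.chevF4.group F) r (Ph c q) c := by
  rcases hc with rfl | rfl
  · refine big_F4_12 hq ?_ hr
    rw [cast_Ph12 _ hq1]; ring
  · refine big_F4_8 hq ?_ hr
    rw [cast_Ph8]; ring

/-- **reducedness** -/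
theorem good4 {G : Type*} [Group G] [Finite G] (hp : p.Prime) (hf : 1 ≤ f) (hq5 : 5 ≤ p ^ f)
    (h12 : Ord G (p ^ f) 12 (Ph 12 (p ^ f))) (h8 : Ord G (p ^ f) 8 (Ph 8 (p ^ f)))
    (g12 : PP p (f * 12) ≤ (Nat.gcd (Nat.card G) (PP p (f * 12))) ^ 2)
    (g8 : PP p (f * 8) ≤ (Nat.gcd (Nat.card G) (PP p (f * 8))) ^ 2) {t : ℕ} (ht : t.Prime) : Good G 52 t := by
  have hq1 : 1 ≤ p ^ f := by omega
  by_cases h1 : t ∣ Ph 12 (p ^ f)
  · have h2 : ¬ t ∣ Ph 8 (p ^ f) := by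
      intro h2
      have h3 : Prim (p ^ f) 12 t := by
        rw [← ncl12_eq] at h1
        exact prim_of_dvd c12 hq1 ht h1
      have h4 := h2.trans (Ph_dvd c8 hq1)
      rw [h3.dvd_iff] at h4
      omega
    rcases half_gt hp hf hq5 (by norm_num) (by norm_num) (by decide +kernel) (by norm_num) (by norm_num) gchk_f8 g8 with h3 | h3
    · exact good_gt h8 hp.two_le hf (by norm_num) ht h2 h3
    · simp at h3
  · rcases half_gt hp hf hq5 (by norm_num) (by norm_num) (by decide +kernel) (by norm_num) (by norm_num) gchk_f12 g12 with h3 | h3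
    · exact good_gt h12 hp.two_le hf (by norm_num) ht h1 h3
    · simp at h3

/-- **`F₄(q)`, `q ≥ 5`, the classes 8, 12.** -/
theorem k812' (tb : OrderTable.{0}) (hcyc : CycFixSolv.{0}) (hcf : CF) [CharP F p] (hp : p.Prime) (hf : 1 ≤ f)
    (hq : Fintype.card F = p ^ f) (hq5 : 5 ≤ p ^ f) (B : Subgroup ↥(Lie.chevF4.group F)) (hoff : HOff p f [8, 12] B) :
    B = ⊤ := by
  have := Fact.mk hp
  have hfin : Finite ↥(Lie.chevF4.group F) := inferInstance
  have hT := named_f4 (F := F) tb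
  rw [hq] at hT
  have hq2 : 2 ≤ p ^ f := by omega
  have hq1 : 1 ≤ p ^ f := by omega
  have hOL : num (.f4 (p ^ f)) = OL .F4 (p ^ f) := rfl
  have hdT : Nat.card ↥(Lie.chevF4.group F) ∣ OL .F4 (p ^ f) := by
    rw [← hOL, ← hT.eq]
    exact Dvd.intro_left _ rfl
  have hmem : ∀ c ∈ [8, 12], c = 12 ∨ c = 8 := by decide
  have hcl : ∀ c ∈ [8, 12], Cls c := by
    intro c hc
    have := hmem c hc
    unfold Cls
    omega
  have hbig : ∀ c ∈ [8, 12], ∀ r, Prim (p ^ f) c r → Big ↥(Lie.chevF4.group F) r (Ph c (p ^ f)) c :=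
    fun c hc r hr => big4 hq hq1 (hmem c hc) hr
  have hord : ∀ c ∈ [8, 12], Ord ↥(Lie.chevF4.group F) (p ^ f) c (Ph c (p ^ f)) :=
    fun c hc r hr x hx => (hbig c hc r hr).card x hx
  have h8 := hoff 8 (by decide)
  have h12 := hoff 12 (by decide)
  obtain ⟨S, hS, g, hg, hch⟩ := mainH (D := D4a) (exc := []) tb hcyc hcf altAut (M := fun c => Ph c (p ^ f)) (E := fun c => c)
    tblH_4a hp hf hq5 (F := F) fth_F4 hdT hbig h8 h12
    (sepH hp hf (M := fun c => Ph c (p ^ f)) (E := fun c => c) (by decide) (by decide) h8 h12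
      (fun c hc => Ph_dvd (hcl c hc) hq1)
      (fun c hc s hs hd => le_seven' hs (n := c) (by have := hmem c hc; omega) hd) (by decide) (by decide))
    (by intro c hc; exact absurd hc (by simp [D4a])) (c₀ := 12) (by decide) (fun r hr => piso_F4 (F := F) (Or.inr rfl) (by rw [hq]; exact hr))
    (fun t ht _ _ _ _ => good4 hp hf hq5 ((hord 12 (by decide)).sub B) ((hord 8 (by decide)).sub B) h12.half h8.half ht)
    (by simp)
  have := hS.nor
  have hdS : Nat.card S ∣ num (.f4 (p ^ f)) := IsNamed.card_dvd hT S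
  rcases charp_f4_812 hp hf hg.cond hch hg.eq hdS (hS.h1 8 (by decide)) (hS.h1 12 (by decide)) with rfl | rfl
  · exact eq_top_of_name hT hg
  · exfalso
    obtain ⟨s, hs⟩ := exists_prim (q := p ^ f) (e := 8) hq2 (by norm_num) (by omega)
    exact kill_psl3 hp hg hs (((piso_F4 (F := F) (p := p) (Or.inl rfl) (by rw [hq]; exact hs)).sub B).sub S)

/-- **`F₄(q)`, `q ≥ 5`, the classes 8, 12.** -/
theorem k812 (tb : OrderTable.{0}) (hcyc : CycFixSolv.{0}) (hcf : CF) (hp : p.Prime) (hf : 1 ≤ f)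
    (hq : Fintype.card F = p ^ f) (hq5 : 5 ≤ p ^ f) (B : Subgroup ↥(Lie.chevF4.group F)) (hoff : HOff p f [8, 12] B) :
    B = ⊤ := by
  have := charP_of_card hp hq
  exact k812' tb hcyc hcf hp hf hq hq5 B hoff

end

end Cfsg.Agent.H73.Rg
end

private theorem dce_9607640b5d1a : _root_.True := by
  try have : _root_.True := by simp only [_root_.Cfsg.Agent.H73.Rg.D4a.eq_1]
  exact _root_.True.intro
end

-- part: SM/Op/AvO
section
prune_inst 0x3430454135221000001c001262001ce3b20000020048000000a401020cc10c4028000021aa300012909000c42030004003000110420000000a000400011c008000801004a0480000000086000000000000000000000000000000000000000000000000000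
set_option linter.all false
open scoped Cfsg.Agent.FastGrp

/-!
# SM (S3570), socle `PΩ⁺_{2m}(q)`: the stabiliser `Ω(v^⊥)` of a non-singular vector, `q` odd (helper95)

* `iso` : `E (res Q v^⊥) ≃* Sg Q v`;  `sq_mult` : in odd dimension the multiplier of a semisimilitude is a square;
* `exists_ext` : a semisimilitude of `v^⊥` extends;  **`boxAvO`**.
-/

set_option autoImplicit false
set_option linter.unusedSectionVars false

namespace Cfsg.Agent.SM.Op

open Module QuadraticMap Cfsg Cfsg.Geo Subgroup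
open Cfsg.Agent.LieClassical.OrthCore Cfsg.Agent.LieClassical.OrthTrans Cfsg.Agent.ClassicalGeometry.OrthSemi
open Cfsg.Agent.LieClassical.OrthForms (oddForm)
open Cfsg.Agent.ClassicalGeometry.SympAutSemi (quotAut)
open Cfsg.Agent.H449.Reg (img)
open Cfsg.Agent.H826.Rg (Sg pv mem_pv)
open Cfsg.Agent.H955 (perp res glue glue_left glue_right glue_injective polar_res)
open Cfsg.Agent.H902

namespace AvO

variable {F V : Type} [Field F] [AddCommGroup V] [Module F V] {Q : QuadraticForm F V} {v : V}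

/-- the component along `v` -/
def co (Q : QuadraticForm F V) (v : V) : V →ₗ[F] F := (2 * Q v)⁻¹ • polarBilin Q v

theorem co_mem {x : V} (hx : x ∈ pv Q v) : co Q v x = 0 := by
  rw [co, LinearMap.smul_apply, LinearMap.mem_ker.1 hx, smul_zero]

variable (h2 : (2 : F) ≠ 0) (hv : Q v ≠ 0)
include h2 hv

theorem co_self : co Q v v = 1 := by
  rw [co, LinearMap.smul_apply, polarBilin_apply_apply, polar_self, smul_eq_mul, nsmul_eq_mul, Nat.cast_ofNat,
    inv_mul_cancel₀ (mul_ne_zero h2 hv)]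

theorem sub_mem (x : V) : x - co Q v x • v ∈ pv Q v := by
  rw [mem_pv, polar_sub_left, polar_smul_left, polar_self, co, LinearMap.smul_apply, polarBilin_apply_apply, polar_comm,
    smul_eq_mul, smul_eq_mul, nsmul_eq_mul, Nat.cast_ofNat, mul_comm _ (2 * Q v), mul_inv_cancel_left₀ (mul_ne_zero h2 hv),
    sub_self]

/-- the projection -/
def pr : V →ₗ[F] pv Q v := (LinearMap.id - (co Q v).smulRight v).codRestrict _ (sub_mem h2 hv)

theorem dec (x : V) : (pr h2 hv x : V) + co Q v x • v = x := sub_add_cancel x _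

theorem pr_mem (x : pv Q v) : pr h2 hv (x : V) = x := Subtype.ext (by
  have h1 := dec h2 hv (x : V)
  rwa [co_mem x.2, zero_smul, add_zero] at h1)

theorem pr_self : pr h2 hv v = 0 := Subtype.ext (by
  have h1 := dec h2 hv v
  rw [co_self h2 hv, one_smul] at h1
  exact add_eq_right.1 h1)

theorem ext' {g h : V → V} (ga : ∀ x y, g (x + y) = g x + g y) (ha : ∀ x y, h (x + y) = h x + h y)
    (h1 : ∀ x : pv Q v, g x = h x) (h3 : ∀ t : F, g (t • v) = h (t • v)) (x : V) : g x = h x := by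
  rw [← dec h2 hv x, ga, ha, h1, h3]

theorem nd (hQ : Nondeg Q) : Nondeg (res Q (pv Q v)) := fun x hx => Subtype.ext (hQ _ fun y => by
  have h1 := hx (pr h2 hv y)
  rw [polar_res] at h1
  rw [← dec h2 hv y, polar_add_right, h1, polar_smul_right, mem_pv.1 x.2, smul_zero, add_zero])

theorem finrank_pv [FiniteDimensional F V] : finrank F (pv Q v) + 1 = finrank F V := by
  have h1 := (polarBilin Q v).finrank_range_add_finrank_ker
  have h3 : LinearMap.range (polarBilin Q v) = ⊤ := by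
    rw [LinearMap.range_eq_top]
    intro c
    refine ⟨(c * (2 * Q v)⁻¹) • v, ?_⟩
    rw [map_smul, polarBilin_apply_apply, polar_self, smul_eq_mul, nsmul_eq_mul, Nat.cast_ofNat,
      inv_mul_cancel_right₀ (mul_ne_zero h2 hv)]
  rw [h3, finrank_top, finrank_self, add_comm] at h1
  exact h1

variable [FiniteDimensional F V] (hQ : Nondeg Q)

/-- extension by the identity -/
noncomputable def jj : (pv Q v ≃ₗ[F] pv Q v) →* (V ≃ₗ[F] V) := (glue (nd h2 hv hQ)).comp (MonoidHom.inl _ _)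

theorem jj_left (T : pv Q v ≃ₗ[F] pv Q v) (x : pv Q v) : jj h2 hv hQ T x = T x := glue_left _ _ x

theorem jj_self (T : pv Q v ≃ₗ[F] pv Q v) : jj h2 hv hQ T v = v :=
  glue_right (nd h2 hv hQ) (T, 1) ⟨v, fun _ hw => mem_pv.1 hw⟩

theorem jj_injective : Function.Injective (jj h2 hv hQ) := fun _ _ e => (Prod.ext_iff.1 (glue_injective _ e)).1

theorem jj_siegel {u w : pv Q v} (hu : res Q (pv Q v) u = 0) (hw : polar (res Q (pv Q v)) u w = 0) (hu' : Q u = 0)
    (hw' : polar Q (u : V) w = 0) : jj h2 hv hQ (siegel _ u w hu hw) = siegel Q u w hu' hw' := by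
  refine LinearEquiv.ext (ext' h2 hv (map_add _) (map_add _) (fun x => ?_) fun t => ?_)
  · rw [jj_left, siegel_apply, siegel_apply, polar_res, polar_res]
    rfl
  · rw [map_smul, map_smul, jj_self, siegel_apply, mem_pv.1 u.2, mem_pv.1 w.2]
    simp

theorem map_E : (E (res Q (pv Q v))).map (jj h2 hv hQ) = Sg Q v := by
  rw [E, MonoidHom.map_closure, Sg]
  congr 1
  ext g
  constructor
  · rintro ⟨_, ⟨u, w, hu, hw, rfl⟩, rfl⟩
    exact ⟨u, w, hu, by rwa [polar_res] at hw, mem_pv.1 u.2, mem_pv.1 w.2, jj_siegel h2 hv hQ hu hw _ _⟩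
  · rintro ⟨u, w, hu, hw, h1, h3, rfl⟩
    exact ⟨_, ⟨⟨u, mem_pv.2 h1⟩, ⟨w, mem_pv.2 h3⟩, hu, by rwa [polar_res], rfl⟩, jj_siegel h2 hv hQ _ _ _ _⟩

/-- `Ω(v^⊥)` -/
noncomputable def iso : E (res Q (pv Q v)) ≃* Sg Q v :=
  ((E (res Q (pv Q v))).equivMapOfInjective _ (jj_injective h2 hv hQ)).trans (MulEquiv.subgroupCongr (map_E h2 hv hQ))

theorem iso_apply (g : E (res Q (pv Q v))) : (iso h2 hv hQ g : V ≃ₗ[F] V) = jj h2 hv hQ g := rfl

variable [Finite F]

omit h2 hv [FiniteDimensional F V] in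
theorem sq_div (σ : F ≃+* F) {a : F} (ha : a ≠ 0) : IsSquare (σ a * a⁻¹) := by
  have := Fintype.ofFinite F
  by_cases h : IsSquare a
  · exact (h.map σ).mul h.inv
  have h1 : ¬ IsSquare (σ a) := fun h1 => h (by simpa using h1.map σ.symm)
  classical
  have h3 := quadraticChar_neg_one_iff_not_isSquare.2 h
  have h4 := quadraticChar_neg_one_iff_not_isSquare.2 h1
  have h5 : IsSquare (σ a * a) :=
    (quadraticChar_one_iff_isSquare (mul_ne_zero ((map_ne_zero σ).2 ha) ha)).1 (by rw [map_mul, h3, h4]; norm_num)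
  have e : σ a * a⁻¹ = σ a * a * (a⁻¹ * a⁻¹) := by field_simp
  rw [e]
  exact h5.mul ⟨_, rfl⟩

omit hv in
/-- **odd dimension: the multiplier is a square** -/
theorem sq_mult (hQ : Nondeg Q) {k : ℕ} (hk : finrank F V = 2 * k + 1) {σ : F ≃+* F} {c : F} {M : Equiv.Perm V}
    (h : IsSS Q σ c M) : IsSquare c := by
  obtain ⟨d, hd, e, he⟩ := H955.exists_odd_equiv k Q hQ hk
  obtain ⟨N, hN⟩ := ClassicalGeometry.OrthSemiForms.odd_exists h2 k σ.symm
  rw [← AutOrth.Main.oddForm_eq] at he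
  have h1 : IsSS Q σ.symm (d * (σ.symm d)⁻¹) (e.toEquiv.trans (N.trans e.toEquiv.symm)) := by
    have hd' : σ.symm d ≠ 0 := (map_ne_zero _).2 hd
    refine ⟨mul_ne_zero hd (inv_ne_zero hd'), fun x y => ?_, fun a x => ?_, fun x => ?_⟩
    · show e.symm (N (e (x + y))) = e.symm (N (e x)) + e.symm (N (e y))
      rw [map_add, hN.add, map_add]
    · show e.symm (N (e (a • x))) = σ.symm a • e.symm (N (e x))
      rw [map_smul, hN.smul, map_smul]
    · show Q (e.symm (N (e x))) = _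
      rw [← he, ← he x, e.apply_symm_apply, hN.form, map_mul]
      field_simp
  have h3 := h.mul h1
  rw [RingEquiv.symm_trans_self] at h3
  have h4 := ClassicalGeometry.OrthSemiCount.isSquare_of_odd h2 hQ ⟨k, hk⟩ h3
  rw [map_mul, map_inv₀, σ.apply_symm_apply] at h4
  have h5 := h4.mul (sq_div σ hd).inv
  rwa [mul_inv_cancel_right₀ (mul_ne_zero ((map_ne_zero σ).2 hd) (inv_ne_zero hd))] at h5

include hQ in
/-- **extension of semisimilitudes** -/
theorem exists_ext {k : ℕ} (hk : finrank F (pv Q v) = 2 * k + 1) (M : Gam (res Q (pv Q v))) :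
    ∃ (γ : Gam Q) (σ : F ≃+* F) (l : F), l ≠ 0 ∧ (∀ x : pv Q v, γ.1 x = M.1 x) ∧ ∀ t : F, γ.1 (t • v) = (σ t * l) • v := by
  obtain ⟨σ, c, hM⟩ := M.2
  obtain ⟨l, hl⟩ := (sq_mult h2 (nd h2 hv hQ) hk hM).mul (sq_div σ hv)
  have hl0 : l ≠ 0 := fun e => mul_ne_zero hM.ne (mul_ne_zero ((map_ne_zero σ).2 hv) (inv_ne_zero hv)) (by rw [hl, e, mul_zero])
  let f : V → V := fun x => (M.1 (pr h2 hv x) : V) + (σ (co Q v x) * l) • v
  have hadd : ∀ x y, f (x + y) = f x + f y := fun x y => by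
    simp only [f, map_add, hM.add, Submodule.coe_add, add_mul, add_smul]
    abel
  have hsmul : ∀ (a : F) x, f (a • x) = σ a • f x := fun a x => by
    simp only [f, map_smul, hM.smul, Submodule.coe_smul, smul_eq_mul, map_mul, smul_add, smul_smul, mul_assoc]
  have hQa : ∀ (x : pv Q v) (t : F), Q ((x : V) + t • v) = Q x + t * t * Q v := fun x t => by
    rw [QuadraticMap.map_add Q, polar_smul_right, mem_pv.1 x.2, smul_zero, add_zero, QuadraticMap.map_smul, smul_eq_mul]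
  have hform : ∀ x, Q (f x) = c * σ (Q x) := fun x => by
    have h1 : Q (M.1 (pr h2 hv x) : V) = c * σ (Q (pr h2 hv x : V)) := hM.form _
    have h3 : l * l * Q v = c * σ (Q v) := by
      rw [← hl]
      field_simp
    conv_rhs => rw [← dec h2 hv x]
    rw [hQa, hQa, h1, map_add, map_mul, map_mul]
    linear_combination σ (co Q v x) * σ (co Q v x) * h3
  have hinj : Function.Injective f := by
    intro x y e
    have h1 := congrArg (co Q v) e
    simp only [f, map_add, map_smul, co_mem (Subtype.prop _), co_self h2 hv, zero_add, smul_eq_mul, mul_one] at h1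
    have h3 : co Q v x = co Q v y := σ.injective (mul_right_cancel₀ hl0 h1)
    simp only [f, h3, add_left_inj] at e
    rw [← dec h2 hv x, ← dec h2 hv y, h3, M.1.injective (Subtype.ext e)]
  have : Finite V := Module.finite_of_finite F
  refine ⟨⟨Equiv.ofBijective f (Finite.injective_iff_bijective.1 hinj), σ, c, hM.ne, hadd, hsmul, hform⟩, σ, l, hl0,
    fun x => ?_, fun t => ?_⟩
  · show f x = _
    simp only [f, pr_mem, co_mem x.2, map_zero, zero_mul, zero_smul, add_zero]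
  · show f _ = _
    simp only [f, map_smul, pr_self, co_self h2 hv, smul_zero, hM.map_zero, smul_eq_mul, mul_one, Submodule.coe_zero, zero_add]

end AvO

open AvO in
/-- **[AVO]** -/
theorem boxAvO : BoxAvO := by
  intro F V _ _ _ _ _ Q m hP h2 v hv
  have hQ := hP.good.nondeg
  have hm := hP.five
  have hd : finrank F (pv Q v) = 2 * (m - 1) + 1 := by
    have h1 := finrank_pv h2 hv
    rw [hP.dim] at h1
    omega
  have hN := nd h2 hv hQ
  have hG : Good (res Q (pv Q v)) := LieClassical.OrthFinite.good_of_finite hN (by omega)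
  have hc := H807.IF.center_odd hG h2 ⟨_, hd⟩
  refine ⟨?_, fun p f hp hF => ?_, fun α => ?_⟩
  · have := H807.IF.simple_odd h2 hN ⟨_, hd⟩ (by omega)
    exact (iso h2 hv hQ).symm.isSimpleGroup
  · rw [Nat.card_eq_fintype_card] at hF
    have hf : 1 ≤ f := by
      rcases Nat.eq_zero_or_pos f with rfl | hf
      · have := Fintype.one_lt_card (α := F)
        rw [hF, pow_zero] at this
        omega
      · exact hf
    rw [← Nat.card_congr (iso h2 hv hQ).toEquiv, ← Nat.card_congr (H807.IF.quotOdd hc).toEquiv]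
    rcases H236.RC.ident hG with h | h | h | ⟨k, h1, h3, h4, ⟨e⟩⟩ | ⟨k, -, h, -⟩ | ⟨k, -, h, -⟩
    · omega
    · omega
    · omega
    · obtain rfl : k = m - 1 := by omega
      rw [Nat.card_congr e.toEquiv]
      exact Names.oodd_real hp hf hF h1 (hF ▸ h4)
    · omega
    · omega
  · let β : MulAut (E (res Q (pv Q v))) := (iso h2 hv hQ).trans (α.trans (iso h2 hv hQ).symm)
    obtain ⟨M, hM⟩ := AutOrth.Final.surjective_of_no_four hG (by omega) (fun h => by omega) (quotAut β)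
    have h1 : conjE _ M = β := by
      rw [← mul_inv_eq_one]
      refine eq_one_of_quotAut (commutator_E hG) _ ?_
      rw [map_mul, map_inv, mul_inv_eq_one]
      exact hM
    obtain ⟨γ, σ, l, hl, h3, h4⟩ := exists_ext h2 hv hQ hd M
    refine ⟨γ, ?_, fun t => ?_⟩
    · ext x
      rw [H449.Reg.mem_img, Submodule.mem_span_singleton]
      constructor
      · rintro ⟨y, hy, rfl⟩
        obtain ⟨t, rfl⟩ := Submodule.mem_span_singleton.1 hy
        exact ⟨_, (h4 t).symm⟩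
      · rintro ⟨t, rfl⟩
        refine ⟨σ.symm (t * l⁻¹) • v, Submodule.mem_span_singleton.2 ⟨_, rfl⟩, ?_⟩
        rw [h4, σ.apply_symm_apply, inv_mul_cancel_right₀ hl]
    · obtain ⟨s, rfl⟩ := (iso h2 hv hQ).surjective t
      have h5 : α (iso h2 hv hQ s) = iso h2 hv hQ (conjE _ M s) := by
        rw [h1]
        exact ((iso h2 hv hQ).apply_symm_apply _).symm
      rw [h5, iso_apply, iso_apply, coe_conjE]
      refine LinearEquiv.ext fun x => ?_
      obtain ⟨x, rfl⟩ := γ.1.surjective x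
      rw [conjLin_apply']
      refine ext' h2 hv (g := fun x => γ.1 (jj h2 hv hQ s x)) (h := fun x => jj h2 hv hQ (conjLin M s) (γ.1 x))
        (fun x y => by rw [map_add, add_of_mem γ.2]) (fun x y => by rw [add_of_mem γ.2, map_add]) (fun x => ?_) (fun t => ?_) x
      · rw [jj_left, h3, h3, jj_left, conjLin_apply']
      · rw [map_smul, jj_self, h4, map_smul, jj_self]

end Cfsg.Agent.SM.Op

private theorem dce_58fe25dc83d3 : _root_.True := by
  try have : _root_.True := by simp only [_root_.Cfsg.Agent.SM.Op.AvO.pr.congr_simp]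
  try have : _root_.True := by simp only [_root_.Cfsg.Agent.SM.Op.AvO.co.eq_1]
  exact _root_.True.intro
end

-- part: SM/Ex/NoFac_mg
section
prune_inst 0x343045411d62120000040592410020a5640001000020000111a401420807d3288d0021404c001802184ca28000400000031000d0421000000a0004000005002080aa520433740c04a4008f803086000000000000000000000000000000041004000000000
set_option linter.all false
open scoped Cfsg.Agent.FastGrp

-- part: SM/Ex/HMain
section
/-!
# S3570, exceptional `S`: half classes without exactness (helper93)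

The proofs of `H73/Rg/HCore`, `H73/Rg/HMain`, with the hypothesis `HAt` reduced to the field `half`.
-/

set_option autoImplicit false

set_option exponentiation.threshold 7000

namespace Cfsg.Agent.SM.Ex.Rg

open Cfsg.Agent.H73.Rg

/-- `B` contains at least half of the class `c` -/
structure HAt (p f c : ℕ) {K : Type*} [Group K] (B : Subgroup K) : Prop where
  half : PP p (f * c) ≤ (Nat.gcd (Nat.card B) (PP p (f * c))) ^ 2

/-- `B` contains at least half of the classes of the list -/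
def HOff (p f : ℕ) (cls : List ℕ) {K : Type*} [Group K] (B : Subgroup K) : Prop := ∀ c ∈ cls, HAt p f c B

open Cfsg Cfsg.Agent.OrdDiv Cfsg.Agent.H436 Cfsg.Agent.H902 Cfsg.Agent.H902.Names Cfsg.Agent.H915.GN
  Cfsg.Agent.H290.ElReg Cfsg.Agent.H290.ElTab Cfsg.Agent.H290.ElCross Cfsg.Agent.H264.FKS Cfsg.Agent.H56.Exc
  Cfsg.Agent.H325.Loc Cfsg.Agent.H563.KG

variable {n p f : ℕ} {fam : List ℕ} {M E : ℕ → ℕ}

theorem HAt.exists_prim {c : ℕ} {K : Type*} [Group K] {B : Subgroup K} (h : HAt p f c B) (hp : 2 ≤ p) (hf : 1 ≤ f)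
    (hc : 5 ≤ c) (hc6 : c ≠ 6) : ∃ r, Prim p (f * c) r ∧ r ∣ Nat.card B :=
  exists_of_half hp (by have : 1 * c ≤ f * c := Nat.mul_le_mul_right _ hf
                        omega) (fun h6 => mul6 hf hc hc6 h6.2) h.half

variable {D : _root_.Cfsg.Agent.H73.Rg.TD} {exc : List (Art.Sh × ℕ × ℕ)} {EE EE' N N' : ℕ}

end Cfsg.Agent.SM.Ex.Rg

namespace Cfsg.Agent.SM.Ex.Rg

open Cfsg.Agent.H73.Rg

open Cfsg Cfsg.Agent.OrdDiv Cfsg.Agent.H436 Cfsg.Agent.H902 Cfsg.Agent.H902.Names Cfsg.Agent.H915.GN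
  Cfsg.Agent.H290.ElReg Cfsg.Agent.H290.ElTab Cfsg.Agent.H290.ElCross Cfsg.Agent.H264.FKS Cfsg.Agent.H56.Exc
  Cfsg.Agent.H325.Loc Cfsg.Agent.H563.KG

variable {n p f : ℕ} {fam : List ℕ} {M E : ℕ → ℕ}

/-- **Two half classes.** -/
theorem mainR (tb : OrderTable.{0}) (hcyc : CycFixSolv.{0})
    (hcfsg : ∀ (S : Type) [Group S] [Finite S] [IsSimpleGroup S], IsKnownSimple' S) (haut : AltAut)
    {D : _root_.Cfsg.Agent.H73.Rg.TD} {exc : List (Art.Sh × ℕ × ℕ)} (ht : TblH n D exc (E D.e) (E D.e'))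
    (hp : p.Prime) (hf : 1 ≤ f) (hq : D.q₀ ≤ p ^ f) {F : Type} [Field F] [CharP F p]
    {T : Type} [Group T] [Finite T] (hrep : Fth n F T) (hdT : Nat.card T ∣ OL D.Y (p ^ f))
    (hbig : ∀ c ∈ [D.e, D.e'], ∀ r, Prim (p ^ f) c r → Big T r (M c) (E c))
    {B : Subgroup T} (h1 : HAt p f D.e B) (h2 : HAt p f D.e' B)
    (hsep : ∀ c ∈ [D.e, D.e'], ¬ Nat.card B ∣ E c * M c)
    (hex : ∀ c ∈ D.exs, ∃ s, Prim p (f * c) s ∧ s ∣ Nat.card B ∧ ¬ s ∣ E D.e * M D.e)
    (hred : Red ↥B (Pr (FmH p f [D.e, D.e'] M E (Nat.card B))))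
    (hexc : ∀ (S : Subgroup B), ConH p f M E D.e D.e' S → ∀ g l X a, l.Prime → IsNamed g S → IsLie g X l a →
      (X, (l, a)) ∈ exc → False) :
    ∃ S : Subgroup B, ConH p f M E D.e D.e' S ∧ ∃ g, IsNamed g S ∧ HasChar p g := by
  have h5 := ht.ok.e7
  have h5' := ht.ok.e7'
  have h6 := ht.ok.ne6
  have h6' := ht.ok.ne6'
  have hH : ∀ c ∈ [D.e, D.e'], HAt p f c B := by
    intro c hc
    simp only [List.mem_cons, List.not_mem_nil, or_false] at hc
    rcases hc with rfl | rfl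
    · exact h1
    · exact h2
  have hc5 : ∀ c ∈ [D.e, D.e'], 5 ≤ c ∧ c ≠ 6 := by
    intro c hc
    simp only [List.mem_cons, List.not_mem_nil, or_false] at hc
    rcases hc with rfl | rfl
    · exact ⟨by omega, h6⟩
    · exact ⟨by omega, h6'⟩
  obtain ⟨S, hSn, hSs, hSna, hidx, hbS⟩ := coreR hcyc hf hbig (by simp) hsep
    (fun c hc => (hH c hc).exists_prim hp.two_le hf (hc5 c hc).1 (hc5 c hc).2) hred
  have hc3 : ∀ c ∈ [D.e, D.e'], 3 ≤ f * c := by
    intro c hc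
    have h7 := (hc5 c hc).1
    have : 1 * c ≤ f * c := Nat.mul_le_mul_right _ hf
    omega
  have hhalf : ∀ c ∈ [D.e, D.e'], PP p (f * c) ≤ (Nat.gcd (Nat.card S) (PP p (f * c))) ^ 2 := fun c hc =>
    half_S hp.two_le (hc3 c hc) S (hH c hc).half fun r hr hrB => (hbS c hc r hr hrB).2.2
  have hcon : ConH p f M E D.e D.e' S := ⟨hSn, hSs, hSna, hidx, hbS, hhalf, fun c hc =>
    exists_of_half hp.two_le (hc3 c hc) (fun h8 => mul6 hf (hc5 c hc).1 (hc5 c hc).2 h8.2) (hhalf c hc)⟩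
  have hSs' : IsSimpleGroup S := hSs
  have hdS : Nat.card S ∣ OL D.Y (p ^ f) :=
    ((Subgroup.card_subgroup_dvd_card S).trans (Subgroup.card_subgroup_dvd_card B)).trans hdT
  have me : D.e ∈ [D.e, D.e'] := by simp
  have me' : D.e' ∈ [D.e, D.e'] := by simp
  refine ⟨S, hcon, nameH (N := M D.e) (N' := M D.e') tb haut ht hp hf hq hSna (hcfsg S)
    ((hrep.sub B.subtype B.subtype_injective).sub S.subtype S.subtype_injective) hdS (hhalf _ me) (hhalf _ me') ?_ ?_ ?_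
    (hexc S hcon)⟩
  · intro c hc
    obtain ⟨s, hs, hsB, hsn⟩ := hex c hc
    refine ⟨s, hs, ?_⟩
    rw [← S.card_mul_index] at hsB
    rcases hs.prime.dvd_mul.1 hsB with h | h
    · exact h
    · exact absurd (h.trans (hidx _ me)) hsn
  · exact fun r hr hrS => (hbS _ me r hr (hrS.trans (Subgroup.card_subgroup_dvd_card S))).1
  · exact fun r hr hrS => (hbS _ me' r hr (hrS.trans (Subgroup.card_subgroup_dvd_card S))).1

/-- **Two half classes, reducedness by `Good`.** -/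
theorem mainH (tb : OrderTable.{0}) (hcyc : CycFixSolv.{0})
    (hcfsg : ∀ (S : Type) [Group S] [Finite S] [IsSimpleGroup S], IsKnownSimple' S) (haut : AltAut)
    {D : _root_.Cfsg.Agent.H73.Rg.TD} {exc : List (Art.Sh × ℕ × ℕ)} (ht : TblH n D exc (E D.e) (E D.e'))
    (hp : p.Prime) (hf : 1 ≤ f) (hq : D.q₀ ≤ p ^ f) {F : Type} [Field F] [CharP F p]
    {T : Type} [Group T] [Finite T] (hrep : Fth n F T) (hdT : Nat.card T ∣ OL D.Y (p ^ f))
    (hbig : ∀ c ∈ [D.e, D.e'], ∀ r, Prim (p ^ f) c r → Big T r (M c) (E c))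
    {B : Subgroup T} (h1 : HAt p f D.e B) (h2 : HAt p f D.e' B)
    (hsep : ∀ c ∈ [D.e, D.e'], ¬ Nat.card B ∣ E c * M c)
    (hex : ∀ c ∈ D.exs, ∃ s, Prim p (f * c) s ∧ s ∣ Nat.card B ∧ ¬ s ∣ E D.e * M D.e)
    {c₀ : ℕ} (hc₀ : c₀ ∈ [D.e, D.e']) (hpiso : ∀ r, Prim (p ^ f) c₀ r → PIso p r T)
    (hgood : ∀ t : ℕ, t.Prime → t ≠ p → ¬ Prim p (f * D.e) t → ¬ Prim p (f * D.e') t → t ∣ Nat.card B → _root_.Cfsg.Agent.H563.KG.Good B n t)
    (hexc : ∀ (S : Subgroup B), ConH p f M E D.e D.e' S → ∀ g l X a, l.Prime → IsNamed g S → IsLie g X l a →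
      (X, (l, a)) ∈ exc → False) :
    ∃ S : Subgroup B, ConH p f M E D.e D.e' S ∧ ∃ g, IsNamed g S ∧ HasChar p g := by
  have hH : HAt p f c₀ B ∧ 5 ≤ c₀ ∧ c₀ ≠ 6 := by
    simp only [List.mem_cons, List.not_mem_nil, or_false] at hc₀
    rcases hc₀ with rfl | rfl
    · exact ⟨h1, by have := ht.ok.e7; omega, ht.ok.ne6⟩
    · exact ⟨h2, by have := ht.ok.e7'; omega, ht.ok.ne6'⟩
  obtain ⟨r₀, hr₀, hr₀B⟩ := hH.1.exists_prim hp.two_le hf hH.2.1 hH.2.2
  exact mainR tb hcyc hcfsg haut ht hp hf hq hrep hdT hbig h1 h2 hsep hex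
    (redH hcyc hp hf hrep hbig hc₀ hr₀ (hpiso r₀ (prim_q hf hr₀)) hr₀B fun t ht1 htp htc htB =>
      hgood t ht1 htp (htc _ (by simp)) (htc _ (by simp)) htB) hexc

/-- the separation hypothesis for two classes not dividing each other -/
theorem sepH {e e' : ℕ} (hp : p.Prime) (hf : 1 ≤ f) {T : Type} [Group T] [Finite T] {B : Subgroup T}
    (h7 : 7 ≤ e) (h7' : 7 ≤ e') (h1 : HAt p f e B) (h2 : HAt p f e' B)
    (hM : ∀ c ∈ [e, e'], M c ∣ (p ^ f) ^ c - 1)
    (hE : ∀ c ∈ [e, e'], ∀ s, s.Prime → s ∣ E c → s ≤ 7) (hnd : ¬ e' ∣ e) (hnd' : ¬ e ∣ e') :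
    ∀ c ∈ [e, e'], ¬ Nat.card B ∣ E c * M c := by
  have key : ∀ c c', 7 ≤ c' → HAt p f c' B → M c ∣ (p ^ f) ^ c - 1 → (∀ s, s.Prime → s ∣ E c → s ≤ 7) → ¬ c' ∣ c →
      ¬ Nat.card B ∣ E c * M c := by
    intro c c' hc7 hc' hMc hEc hnd hcon
    obtain ⟨s, hs, hsB⟩ := hc'.exists_prim hp.two_le hf (by omega) (by omega)
    have hs' := prim_q hf hs
    have hq2 : 2 ≤ p ^ f := hp.two_le.trans (Nat.le_self_pow (by omega) p)
    rcases hs.prime.dvd_mul.1 (hsB.trans hcon) with h3 | h3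
    · have h4 := hEc s hs.prime h3
      have h5 := lt_of_prim hq2 (by omega) hs'
      omega
    · exact hnd ((hs'.dvd_iff c).1 (h3.trans hMc))
  intro c hc
  have hc' := hc
  simp only [List.mem_cons, List.not_mem_nil, or_false] at hc'
  rcases hc' with rfl | rfl
  · exact key _ _ h7' h2 (hM _ hc) (hE _ hc) hnd
  · exact key _ _ h7 h1 (hM _ hc) (hE _ hc) hnd'

end Cfsg.Agent.SM.Ex.Rg
end

-- part: SM/Ex/KH8
section
/-!
# S3570, exceptional `S`: half classes without exactness (helper93)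

The proofs of `H73/Rg/KH8`, with the hypothesis `HAt` reduced to the field `half`.
-/

set_option autoImplicit false

set_option exponentiation.threshold 7000

namespace Cfsg.Agent.SM.Ex.Rg

open Cfsg.Agent.H73.Rg

open Cfsg Cfsg.Agent.OrdDiv Cfsg.Agent.H436 Cfsg.Agent.H902 Cfsg.Agent.H290.ElReg Cfsg.Agent.H290.ElTab
  Cfsg.Agent.H56.Exc Cfsg.Agent.H325.Loc Cfsg.Agent.H915.GN Cfsg.Agent.H264.FKS Cfsg.Agent.H325.IsoExc

open Cfsg.Agent.H563.KG hiding Ph cc ncl Cls cast_Ph20 cast_Ph24 Ph_pos not_sq_dvd cc_prime ncl_mul ncl_dvd_Ph ncl_pos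
  not_dvd_ncl Ph_le prim_of_dvd Ph_dvd good_one

open Cfsg.Agent.H290.Cov30

open Cfsg.Agent.H325.Same (sub_pos' cancel_prime pos_of_dvd)

section

variable {F : Type} [Field F] [Fintype F] {p f : ℕ}

/-- the common part -/
theorem main8 (tb : OrderTable.{0}) (hcyc : CycFixSolv.{0}) (hcf : CF) [CharP F p] (hp : p.Prime) (hf : 1 ≤ f)
    (hq : Fintype.card F = p ^ f) {D : _root_.Cfsg.Agent.H73.Rg.TD} (hY : D.Y = .E8) (hq0 : D.q₀ = 2) (hxs : D.exs = [])
    (ht : TblH 248 D [] D.e D.e') (hc : D.e = 20 ∨ D.e = 24) (hc' : D.e' = 24 ∨ D.e' = 30) (hne : D.e ≠ D.e')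
    (B : Subgroup ↥(Lie.chevE8.group F)) (h1 : HAt p f D.e B) (h2 : HAt p f D.e' B) :
    ∃ S : Subgroup B, ConH p f (fun c => Ph c (p ^ f)) (fun c => c) D.e D.e' S ∧ ∃ g, IsNamed g S ∧ HasChar p g := by
  have := Fact.mk hp
  have hfin : Finite ↥(Lie.chevE8.group F) := inferInstance
  have hT := named_e8 (F := F) tb
  rw [hq] at hT
  have hq2 : 2 ≤ p ^ f := hp.two_le.trans (Nat.le_self_pow (by omega) p)
  have hq1 : 1 ≤ p ^ f := by omega
  have hOL : num (.e8 (p ^ f)) = OL .E8 (p ^ f) := rfl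
  have hdT : Nat.card ↥(Lie.chevE8.group F) ∣ OL .E8 (p ^ f) := by
    rw [← hOL, ← hT.eq]
    exact Dvd.intro_left _ rfl
  have hmem : ∀ c ∈ [D.e, D.e'], c = 20 ∨ c = 24 ∨ c = 30 := by
    intro c hc
    simp only [List.mem_cons, List.not_mem_nil, or_false] at hc
    omega
  have hbig : ∀ c ∈ [D.e, D.e'], ∀ r, Prim (p ^ f) c r → Big ↥(Lie.chevE8.group F) r (Ph c (p ^ f)) c :=
    fun c hc r hr => big8 hq hq1 (hmem c hc) hr
  have hord : ∀ c ∈ [D.e, D.e'], _root_.Cfsg.Agent.H563.KG.Ord ↥(Lie.chevE8.group F) (p ^ f) c (Ph c (p ^ f)) :=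
    fun c hc r hr x hx => (hbig c hc r hr).card x hx
  have me : D.e ∈ [D.e, D.e'] := by simp
  have me' : D.e' ∈ [D.e, D.e'] := by simp
  refine mainH tb hcyc hcf altAut (M := fun c => Ph c (p ^ f)) (E := fun c => c) ht hp hf (by rw [hq0]; exact hq2)
    (F := F) fth_E8 (by rw [hY]; exact hdT) hbig h1 h2 ?_ (by simp only [hxs, _root_.List.not_mem_nil, _root_.IsEmpty.forall_iff, _root_.implies_true]) me (fun r hr => ?_) (fun t ht htp htc htc' _ => ?_)
    (by simp)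
  · exact sepH hp hf (M := fun c => Ph c (p ^ f)) (E := fun c => c) (by omega) (by omega) h1 h2
      (fun c hc => Ph_dvd (show Cls c from hmem c hc) hq1) (fun c hc s hs hd => le_seven'' hs (hmem c hc) hd)
      (fun h => by have := Nat.le_of_dvd (by omega) h; omega) (fun h => by
        rcases hc with hc | hc <;> rcases hc' with hc' | hc' <;> rw [hc, hc'] at h <;> omega)
  · exact piso_E8 (F := F) hc (by rw [hq]; exact hr)
  · exact good8 hp hf (hmem _ me) (hmem _ me') hne ((hord _ me).sub B) ((hord _ me').sub B)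
      ((Subgroup.card_subgroup_dvd_card B).trans hdT) h1.half h2.half ht htc htc'

/-- **`E₈(q)`, the classes 24, 30.** -/
theorem KH8a (tb : OrderTable.{0}) (hcyc : CycFixSolv.{0}) (hcf : CF) [CharP F p] (hp : p.Prime) (hf : 1 ≤ f)
    (hq : Fintype.card F = p ^ f) (B : Subgroup ↥(Lie.chevE8.group F)) (hoff : HOff p f [24, 30] B) : B = ⊤ := by
  have := Fact.mk hp
  have hT := named_e8 (F := F) tb
  rw [hq] at hT
  obtain ⟨S, hS, g, hg, hch⟩ := main8 tb hcyc hcf hp hf hq (D := D8a) rfl rfl rfl tblH_8a (Or.inr rfl) (Or.inr rfl)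
    (by decide) B (hoff 24 (by decide)) (hoff 30 (by decide))
  have := hS.nor
  have hdS : Nat.card S ∣ num (.e8 (p ^ f)) := IsNamed.card_dvd hT S
  obtain ⟨r, hr, hrS⟩ := hS.h1 24 (by decide)
  have hr' := prim_q hf hr
  have hpiso : PIso p r S :=
    ((piso_E8 (F := F) (Or.inr rfl) (by rw [hq]; exact hr') : PIso p r ↥(Lie.chevE8.group F)).sub B).sub S
  rcases Cfsg.Agent.H72.Same.charp_e8_2430 hp hf hg.cond hch hg.eq hdS (hS.h1 24 (by decide)) (hS.h1 30 (by decide)) with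
    rfl | rfl | rfl | rfl | rfl | rfl
  · exact (kill_psl5 hp hg hr' hrS hpiso).elim
  · have h6 : Nat.gcd 2 (p ^ (f * 3) - 1) * Nat.card S = (p ^ (f * 3)) ^ (5 ^ 2) * prB (p ^ (f * 3)) 5 := hg.eq
    exact (kill_q3 hp hf (Nat.gcd_pos_of_pos_left _ (by norm_num))
      ((Nat.gcd_le_left _ (by norm_num)).trans (by norm_num)) h6 hdS).elim
  · have h6 : 2 * Nat.card S = (p ^ (f * 3)) ^ (5 ^ 2) * prB (p ^ (f * 3)) 5 := hg.eq
    exact (kill_q3 hp hf (by norm_num) (by norm_num) h6 hdS).elim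
  · have h6 : Nat.gcd 4 ((p ^ (f * 3)) ^ 6 - 1) * Nat.card S =
        (p ^ (f * 3)) ^ (6 * (6 - 1)) * (((p ^ (f * 3)) ^ 6 - 1) * prB (p ^ (f * 3)) (6 - 1)) := hg.eq
    rw [← mul_assoc] at h6
    exact (kill_q3 hp hf (Nat.gcd_pos_of_pos_left _ (by norm_num))
      (Nat.gcd_le_left _ (by norm_num)) h6 hdS).elim
  · exact (kill_ominus5 hp hg hr' hrS hpiso).elim
  · exact eq_top_of_name hT hg

/-- **`E₈(q)`, the classes 20, 30.** -/
theorem KH8b (tb : OrderTable.{0}) (hcyc : CycFixSolv.{0}) (hcf : CF) [CharP F p] (hp : p.Prime) (hf : 1 ≤ f)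
    (hq : Fintype.card F = p ^ f) (B : Subgroup ↥(Lie.chevE8.group F)) (hoff : HOff p f [20, 30] B) : B = ⊤ := by
  have := Fact.mk hp
  have hT := named_e8 (F := F) tb
  rw [hq] at hT
  obtain ⟨S, hS, g, hg, hch⟩ := main8 tb hcyc hcf hp hf hq (D := D8b) rfl rfl rfl tblH_8b (Or.inl rfl) (Or.inr rfl)
    (by decide) B (hoff 20 (by decide)) (hoff 30 (by decide))
  have := hS.nor
  have hdS : Nat.card S ∣ num (.e8 (p ^ f)) := IsNamed.card_dvd hT S
  obtain ⟨r, hr, hrS⟩ := hS.h1 20 (by decide)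
  have hr' := prim_q hf hr
  have hpiso : PIso p r S :=
    ((piso_E8 (F := F) (Or.inl rfl) (by rw [hq]; exact hr') : PIso p r ↥(Lie.chevE8.group F)).sub B).sub S
  rcases Cfsg.Agent.H72.Same.charp_e8_2030 hp hf hg.cond hch hg.eq hdS (hS.h1 20 (by decide)) (hS.h1 30 (by decide)) with
    rfl | rfl | rfl | rfl | rfl | ⟨k, hk, rfl⟩ | rfl
  · exact (kill_psl3' hp hg hr' hrS hpiso).elim
  · have h6 : Nat.gcd 2 (p ^ (f * 5) - 1) * Nat.card S = (p ^ (f * 5)) ^ (3 ^ 2) * prB (p ^ (f * 5)) 3 := hg.eq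
    exact (kill_q5 hp hf (Nat.gcd_pos_of_pos_left _ (by norm_num))
      ((Nat.gcd_le_left _ (by norm_num)).trans (by norm_num)) h6 hdS).elim
  · have h6 : 2 * Nat.card S = (p ^ (f * 5)) ^ (3 ^ 2) * prB (p ^ (f * 5)) 3 := hg.eq
    exact (kill_q5 hp hf (by norm_num) (by norm_num) h6 hdS).elim
  · exact (kill_psu4q5 hp hf hg.eq hdS).elim
  · have h6 : Nat.gcd 4 ((p ^ (f * 5)) ^ 4 - 1) * Nat.card S =
        (p ^ (f * 5)) ^ (4 * (4 - 1)) * (((p ^ (f * 5)) ^ 4 - 1) * prB (p ^ (f * 5)) (4 - 1)) := hg.eq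
    rw [← mul_assoc] at h6
    exact (kill_q5 hp hf (Nat.gcd_pos_of_pos_left _ (by norm_num))
      (Nat.gcd_le_left _ (by norm_num)) h6 hdS).elim
  · exact (kill_f4q5 hp hf hk hg.eq hdS).elim
  · exact eq_top_of_name hT hg

/-- **`E₈(q)`, the classes 20, 24.** -/
theorem KH8c (tb : OrderTable.{0}) (hcyc : CycFixSolv.{0}) (hcf : CF) [CharP F p] (hp : p.Prime) (hf : 1 ≤ f)
    (hq : Fintype.card F = p ^ f) (B : Subgroup ↥(Lie.chevE8.group F)) (hoff : HOff p f [20, 24] B) : B = ⊤ := by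
  have := Fact.mk hp
  have hT := named_e8 (F := F) tb
  rw [hq] at hT
  obtain ⟨S, hS, g, hg, hch⟩ := main8 tb hcyc hcf hp hf hq (D := D8c) rfl rfl rfl tblH_8c (Or.inl rfl) (Or.inl rfl)
    (by decide) B (hoff 20 (by decide)) (hoff 24 (by decide))
  have := hS.nor
  have hdS : Nat.card S ∣ num (.e8 (p ^ f)) := IsNamed.card_dvd hT S
  obtain rfl := Cfsg.Agent.H72.Same.charp_e8_2024 hp hf hg.cond hch hg.eq hdS (hS.h1 20 (by decide)) (hS.h1 24 (by decide))
  exact eq_top_of_name hT hg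

end

end Cfsg.Agent.SM.Ex.Rg
end

-- part: SM/Ex/KH7
section
/-!
# S3570, exceptional `S`: half classes without exactness (helper93)

The proofs of `H95/Rg/RedH7`, `H95/Rg/KH7`, with the hypothesis `HAt` reduced to the field `half`.
-/

set_option autoImplicit false

namespace Cfsg.Agent.SM.Ex.Rg

open Cfsg.Agent.H95.Rg

open Cfsg Cfsg.Agent.OrdDiv Cfsg.Agent.H436 Cfsg.Agent.H902 Cfsg.Agent.H290.ElReg Cfsg.Agent.H290.ElTab
  Cfsg.Agent.H56.Exc Cfsg.Agent.H325.Loc Cfsg.Agent.H563.KG Cfsg.Agent.H325.Cov Cfsg.Agent.H73.Rg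
  Cfsg.Agent.H325.IsoExc Cfsg.Agent.H325.IsoFree

section

variable {F : Type} [Field F] [Fintype F] {p f : ℕ}

theorem z_or (hp : p.Prime) (hf : 1 ≤ f) [CharP F p] (hq : Fintype.card F = p ^ f)
    (hdT : Nat.card ↥(Lie.chevE7.group F) ∣ OL .E7 (p ^ f)) {c : ℕ} (hc : c = 7 ∨ c = 9 ∨ c = 14 ∨ c = 18)
    {B : Subgroup ↥(Lie.chevE7.group F)} (h : HAt p f c B) {t : ℕ} (ht : t.Prime) (htp : t ≠ p)
    (htc : ¬ Prim p (f * c) t) {A : Subgroup B} (hAn : A.Normal) (hA : ∀ a ∈ A, ∀ b ∈ A, a * b = b * a)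
    (hAt : ∀ a ∈ A, a ^ t = 1) :
    Zc (p ^ f) c A ∨ ((∃ r, (f * c, p, r) ∈ exl) ∧ ∀ r, (f * c, p, r) ∈ exl → ¬ Bdk r t (p ^ f) = true) := by
  by_cases hZ : Zc (p ^ f) c A
  · exact Or.inl hZ
  right
  have hfin : Finite ↥(Lie.chevE7.group F) := inferInstance
  have hfc : 1 * c ≤ f * c := Nat.mul_le_mul_right _ hf
  have key : ∀ r, Prim p (f * c) r → r ∣ Nat.card B →
      ¬ (133 < r ^ (Nat.card B).factorization r ∨ ∀ k, 0 < k → t ^ k ∣ Nat.card B → ¬ r ∣ t ^ k - 1) := by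
    intro r hr hrB hcon
    exact hZ ⟨r, prim_q hf hr, cent_syl hp (fth_E7 (F := F)) ht htp (fun h => htc (h ▸ hr))
      (big7 hc hq (prim_q hf hr)) hrB hAn hA hAt hcon⟩
  have hdB : Nat.card ↥B ∣ OL .E7 (p ^ f) := (Subgroup.card_subgroup_dvd_card B).trans hdT
  have hpr : ∀ r, r.Prime → r ∣ Nat.gcd (Nat.card B) (PP p (f * c)) → Prim p (f * c) r ∧ r ∣ Nat.card B :=
    fun r hr hrd => ⟨prim_of_dvd_PP hp.two_le (by omega) hr (hrd.trans (Nat.gcd_dvd_right _ _)),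
      hrd.trans (Nat.gcd_dvd_left _ _)⟩
  obtain ⟨h1, h2⟩ := exc_of (k := f * c) hp (by
      rcases hc with rfl | rfl | rfl | rfl
      · exact Or.inl (Dvd.intro_left _ rfl)
      · exact Or.inr (Dvd.intro_left _ rfl)
      · exact Or.inl ⟨f * 2, by ring⟩
      · exact Or.inr ⟨f * 2, by ring⟩) (by omega) (Nat.gcd_dvd_right (Nat.card B) _) h.half (fun r hr hrd => by
      obtain ⟨h1, h2⟩ := hpr r hr hrd
      have h3 : r ^ (Nat.card B).factorization r ≤ 133 := by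
        by_contra hcon
        exact key r h1 h2 (Or.inl (by omega))
      have h4 : 1 ≤ (Nat.card B).factorization r := (hr.dvd_iff_one_le_factorization Nat.card_pos.ne').1 h2
      refine ⟨?_, fun h5 => ?_⟩
      · calc r = r ^ 1 := (pow_one r).symm
          _ ≤ r ^ (Nat.card B).factorization r := Nat.pow_le_pow_right hr.pos h4
          _ ≤ 133 := h3
      · have h6 : 2 ≤ (Nat.card B).factorization r :=
          (hr.pow_dvd_iff_le_factorization Nat.card_pos.ne').1 (h5.trans (Nat.gcd_dvd_left _ _))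
        have h7 : r ^ 2 ≤ 133 := (Nat.pow_le_pow_right hr.pos h6).trans h3
        have h8 := Nat.le_of_dvd (by have := hr.two_le; omega) (mod_of_prim' hp.two_le h1)
        have h9 : r ≤ 11 := by
          by_contra hcon
          have : 12 * 12 ≤ r * r := Nat.mul_le_mul (by omega) (by omega)
          rw [sq] at h7
          omega
        have h10 : c ∣ r - 1 := (Dvd.intro_left _ rfl).trans (mod_of_prim' hp.two_le h1)
        have h11 : r = 8 ∨ r = 9 ∨ r = 10 ∨ r = 11 := by (clear * - hc hfc h8 h9; omega)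
        rcases h11 with rfl | rfl | rfl | rfl
        · exact absurd hr (by norm_num)
        · exact absurd hr (by norm_num)
        · exact absurd hr (by norm_num)
        · rcases hc with rfl | rfl | rfl | rfl <;> omega)
  refine ⟨h1, fun r hr hbd => ?_⟩
  have hrp : r.Prime := by
    have := List.all_eq_true.1 exl_prime _ hr
    simpa using this
  obtain ⟨h3, h4⟩ := hpr r hrp (h2 r hr)
  exact key r h3 h4 (Or.inr fun k hk hkd => bdk_spec hbd hk (hkd.trans hdB))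

/-- a normal elementary abelian subgroup is centralised by both classes -/
theorem z_both (hp : p.Prime) (hf : 1 ≤ f) [CharP F p] (hq : Fintype.card F = p ^ f)
    (hdT : Nat.card ↥(Lie.chevE7.group F) ∣ OL .E7 (p ^ f)) {c c' : ℕ} (hcc : (c, c') ∈ prs5)
    {B : Subgroup ↥(Lie.chevE7.group F)} (h : HAt p f c B) (h' : HAt p f c' B) {t : ℕ} (ht : t.Prime) (htp : t ≠ p)
    (htc : ¬ Prim p (f * c) t) (htc' : ¬ Prim p (f * c') t) {A : Subgroup B} (hAn : A.Normal)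
    (hA : ∀ a ∈ A, ∀ b ∈ A, a * b = b * a) (hAt : ∀ a ∈ A, a ^ t = 1) {a : B} (haA : a ∈ A) (hat : orderOf a = t) :
    Zc (p ^ f) c A ∧ Zc (p ^ f) c' A := by
  have hfin : Finite ↥(Lie.chevE7.group F) := inferInstance
  have hcm : (c = 7 ∨ c = 9 ∨ c = 14 ∨ c = 18) ∧ (c' = 7 ∨ c' = 9 ∨ c' = 14 ∨ c' = 18) := by
    have h1 : ∀ x ∈ prs5, (x.1 = 7 ∨ x.1 = 9 ∨ x.1 = 14 ∨ x.1 = 18) ∧ (x.2 = 7 ∨ x.2 = 9 ∨ x.2 = 14 ∨ x.2 = 18) := by
      decide
    exact h1 _ hcc
  obtain ⟨hc, hc'⟩ := hcm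
  have htB : t ∣ Nat.card B := hat ▸ orderOf_dvd_natCard a
  have htO : t ∣ OL .E7 (p ^ f) := (htB.trans (Subgroup.card_subgroup_dvd_card B)).trans hdT
  have hck := List.all_eq_true.1 ck_all _ hcc
  simp only [Bool.and_eq_true] at hck
  obtain ⟨⟨k1, k2⟩, k3⟩ := hck
  -- one class centralises, the other not
  have key : ∀ {e e' : ℕ}, (e = 7 ∨ e = 9 ∨ e = 14 ∨ e = 18) → (e' = 7 ∨ e' = 9 ∨ e' = 14 ∨ e' = 18) →
      ck1 e e' = true → ¬ Prim p (f * e') t → Zc (p ^ f) e' A →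
      ((∃ r, (f * e, p, r) ∈ exl) ∧ ∀ r, (f * e, p, r) ∈ exl → ¬ Bdk r t (p ^ f) = true) → False := by
    rintro e e' he he' hk hte hZ ⟨⟨r, hr⟩, hbd⟩
    have he0 : 0 < e := by omega
    have h1 := List.all_eq_true.1 hk _ hr
    have h2 : f * e % e = 0 := Nat.mul_mod_left f e
    have h3 : f * e / e = f := Nat.mul_div_cancel f he0
    simp only [h2, h3, beq_self_eq_true, Bool.not_true, Bool.false_or, Bool.and_eq_true, beq_iff_eq,
      List.all_eq_true, Bool.or_eq_true, Bool.not_eq_true', beq_eq_false_iff_ne] at h1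
    obtain ⟨⟨⟨a1, a2⟩, a3⟩, a4⟩ := h1
    have h4 := zc_dvd he' hq haA hat hZ
    rw [a2] at h4
    have hfe : 1 * e' ≤ f * e' := Nat.mul_le_mul_right _ hf
    have hP : ¬ t ∣ pc p (f * e') := by
      rw [← PP_eq (by simpa [okk] using a1) hp.two_le]
      exact fun h => hte (prim_of_dvd_PP hp.two_le (by omega) ht h)
    have h5 := (ht.dvd_mul.1 h4).resolve_right hP
    have h6 := mem_of_dvd_psp ht a3 h5
    rcases a4 t h6 with h7 | h7
    · exact h7 (Nat.mod_eq_zero_of_dvd h5)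
    · unfold Bde at h7
      rw [List.any_eq_true] at h7
      obtain ⟨⟨k, p', r'⟩, hy, h8⟩ := h7
      simp only [Bool.and_eq_true, beq_iff_eq] at h8
      obtain ⟨⟨rfl, rfl⟩, h9⟩ := h8
      exact hbd _ hy h9
  rcases z_or hp hf hq hdT hc h ht htp htc hAn hA hAt with z | z
  · refine ⟨z, ?_⟩
    rcases z_or hp hf hq hdT hc' h' ht htp htc' hAn hA hAt with z' | z'
    · exact z'
    · exact (key hc' hc k2 htc z z').elim
  · exfalso
    rcases z_or hp hf hq hdT hc' h' ht htp htc' hAn hA hAt with z' | z'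
    · exact key hc hc' k1 htc' z' z
    · obtain ⟨⟨r, hr⟩, hbd⟩ := z
      obtain ⟨⟨r', hr'⟩, hbd'⟩ := z'
      have h1 := List.all_eq_true.1 (List.all_eq_true.1 k3 _ hr) _ hr'
      have hc0 : 0 < c := by omega
      have hc0' : 0 < c' := by omega
      have b1 : f * c % c = 0 := Nat.mul_mod_left f c
      have b2 : f * c' % c' = 0 := Nat.mul_mod_left f c'
      have b3 : f * c / c = f := Nat.mul_div_cancel f hc0
      have b4 : f * c' / c' = f := Nat.mul_div_cancel f hc0'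
      simp only [b1, b2, b3, b4, beq_self_eq_true, Bool.and_self, Bool.not_true, Bool.false_or, Bool.and_eq_true,
        beq_iff_eq, List.all_eq_true, Bool.or_eq_true, Bool.not_eq_true', beq_eq_false_iff_ne] at h1
      obtain ⟨⟨⟨a1, a1'⟩, a2⟩, a3⟩ := h1
      have hfe : 1 * c ≤ f * c := Nat.mul_le_mul_right _ hf
      have hfe' : 1 * c' ≤ f * c' := Nat.mul_le_mul_right _ hf
      have hmem := mem_of_dvd_psp ht a2 htO
      rcases a3 t hmem with ((((h2 | h2) | h2) | h2) | h2) | h2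
      · exact h2 (Nat.mod_eq_zero_of_dvd htO)
      · exact htp h2
      · refine htc (prim_of_dvd_PP hp.two_le (by (clear * - hc hfe; omega)) ht ?_)
        rw [PP_eq (by simpa [okk] using a1) hp.two_le]
        exact Nat.dvd_of_mod_eq_zero h2
      · refine htc' (prim_of_dvd_PP hp.two_le (by omega) ht ?_)
        rw [PP_eq (by simpa [okk] using a1') hp.two_le]
        exact Nat.dvd_of_mod_eq_zero h2
      · unfold Bde at h2
        rw [List.any_eq_true] at h2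
        obtain ⟨⟨k, p', r'⟩, hy, h8⟩ := h2
        simp only [Bool.and_eq_true, beq_iff_eq] at h8
        obtain ⟨⟨rfl, rfl⟩, h9⟩ := h8
        exact hbd _ hy h9
      · unfold Bde at h2
        rw [List.any_eq_true] at h2
        obtain ⟨⟨k, p', r'⟩, hy, h8⟩ := h2
        simp only [Bool.and_eq_true, beq_iff_eq] at h8
        obtain ⟨⟨rfl, rfl⟩, h9⟩ := h8
        exact hbd' _ hy h9

/-- **Reducedness.** -/
theorem red7 (hcyc : CycFixSolv.{0}) (hp : p.Prime) (hf : 1 ≤ f) [CharP F p] (hq : Fintype.card F = p ^ f)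
    (hdT : Nat.card ↥(Lie.chevE7.group F) ∣ OL .E7 (p ^ f)) {c c' : ℕ} (hcc : (c, c') ∈ prs5)
    {B : Subgroup ↥(Lie.chevE7.group F)} (h : HAt p f c B) (h' : HAt p f c' B)
    {c₀ r₀ : ℕ} (hc₀ : c₀ ∈ [c, c']) (hr₀ : Prim p (f * c₀) r₀) (hpiso : PIso p r₀ ↥(Lie.chevE7.group F))
    (hr₀B : r₀ ∣ Nat.card B) :
    Red ↥B (Pr (FmH p f [c, c'] (M7 (p ^ f)) E7 (Nat.card B))) := by
  intro N hN hNr
  by_contra hne
  have hfin : Finite ↥(Lie.chevE7.group F) := inferInstance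
  have := Fact.mk hr₀.prime
  have := Fact.mk hp
  have hcm : (c = 7 ∨ c = 9 ∨ c = 14 ∨ c = 18) ∧ (c' = 7 ∨ c' = 9 ∨ c' = 14 ∨ c' = 18) := by
    have h1 : ∀ x ∈ prs5, (x.1 = 7 ∨ x.1 = 9 ∨ x.1 = 14 ∨ x.1 = 18) ∧ (x.2 = 7 ∨ x.2 = 9 ∨ x.2 = 14 ∨ x.2 = 18) := by
      decide
    exact h1 _ hcc
  have hc₀m : c₀ = 7 ∨ c₀ = 9 ∨ c₀ = 14 ∨ c₀ = 18 := by
    simp only [List.mem_cons, List.not_mem_nil, or_false] at hc₀
    rcases hc₀ with rfl | rfl
    · exact hcm.1
    · exact hcm.2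
  have hPr : Pr (FmH p f [c, c'] (M7 (p ^ f)) E7 (Nat.card B)) r₀ := pr_fmH.2 ⟨c₀, hc₀, hr₀, hr₀B⟩
  -- `N` is solvable
  have hsolv : Group.IsSolvable N := by
    obtain ⟨x, hx⟩ := exists_prime_orderOf_dvd_card' r₀ hr₀B
    apply hcyc N (MulAut.conjNormal (H := N) x) r₀ hr₀.prime _ (hNr r₀ hPr)
    · refine ⟨(Subgroup.centralizer {x}).comap N.subtype, ?_, fun a ha => ?_⟩
      · have := ((big7 (F := F) hc₀m hq (prim_q hf hr₀)).subgroup B).cyc x hx
        let g : ↥((Subgroup.centralizer {x}).comap N.subtype) →* ↥(Subgroup.centralizer {x}) :=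
          (N.subtype.comp ((Subgroup.centralizer {x}).comap N.subtype).subtype).codRestrict _ fun y => y.2
        exact isCyclic_of_injective g fun a b hab => by
          have h3 : ((a : N) : B) = ((b : N) : B) :=
            congrArg (fun z : ↥(Subgroup.centralizer {x}) => (z : B)) hab
          exact Subtype.ext (Subtype.ext h3)
      · rw [Subgroup.mem_comap, Subgroup.mem_centralizer_singleton_iff]
        have h2 := congrArg Subtype.val ha
        rw [MulAut.conjNormal_apply, mul_inv_eq_iff_eq_mul] at h2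
        exact h2.symm
    · rw [← map_pow, ← hx, pow_orderOf_eq_one, map_one]
  obtain ⟨t, ht, A, hAn, hAN, hA0, hAc, hAt⟩ := exists_elem' hN hsolv hne
  have hPt : IsPGroup t A := fun a => ⟨1, by rw [pow_one]; exact Subtype.ext (hAt a a.2)⟩
  have := Fact.mk ht
  obtain ⟨k, hk⟩ := IsPGroup.iff_card.1 hPt
  have hk0 : k ≠ 0 := by
    rintro rfl
    rw [pow_zero, Subgroup.card_eq_one] at hk
    exact hA0 hk
  have htN : t ∣ Nat.card N := (hk ▸ dvd_pow_self t hk0 : t ∣ Nat.card A).trans (Subgroup.card_dvd_of_le hAN)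
  have htp : t ≠ p := by
    rintro rfl
    exact hA0 (pcore_of_piso (hpiso.sub B) hr₀B A hAn hPt)
  have hnp : ∀ e ∈ [c, c'], ¬ Prim p (f * e) t := fun e he hpe =>
    hNr t (pr_fmH.2 ⟨e, he, hpe, htN.trans (Subgroup.card_subgroup_dvd_card N)⟩) htN
  obtain ⟨a, haA, ha1⟩ : ∃ a ∈ A, a ≠ 1 := by
    by_contra hcon
    push Not at hcon
    exact hA0 ((Subgroup.eq_bot_iff_forall A).2 hcon)
  have hat : orderOf a = t := orderOf_eq_prime (hAt a haA) ha1
  obtain ⟨z, z'⟩ := z_both hp hf hq hdT hcc h h' ht htp (hnp c (by simp)) (hnp c' (by simp)) hAn hAc hAt haA hat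
  exact no_z_both hp hq hcc ht htp haA hat z z'

end

end Cfsg.Agent.SM.Ex.Rg

namespace Cfsg.Agent.SM.Ex.Rg

open Cfsg.Agent.H95.Rg

open Cfsg Cfsg.Agent.OrdDiv Cfsg.Agent.H436 Cfsg.Agent.H902 Cfsg.Agent.H902.Names Cfsg.Agent.H290.ElReg
  Cfsg.Agent.H290.ElTab Cfsg.Agent.H56.Exc Cfsg.Agent.H325.Loc Cfsg.Agent.H915.GN Cfsg.Agent.H264.FKS
  Cfsg.Agent.H563.KG Cfsg.Agent.H325.Cov Cfsg.Agent.H325.Same Cfsg.Agent.H73.Rg Cfsg.Agent.H325.IsoExc
  Cfsg.Agent.H325.IsoFree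

section

variable {F : Type} [Field F] [Fintype F] {p f : ℕ}

/-- the simple normal subgroup -/
theorem nameK7 (tb : OrderTable.{0}) (hcyc : CycFixSolv.{0}) (hcf : CF) (hp : p.Prime) (hf : 1 ≤ f)
    (hq : Fintype.card F = p ^ f) {D : _root_.Cfsg.Agent.H73.Rg.TD} {exc : List (Art.Sh × ℕ × ℕ)} (ht : TblH 133 D exc (E7 D.e) (E7 D.e'))
    (hDY : D.Y = .E7) (hq₀ : D.q₀ ≤ 2) (hcc : (D.e, D.e') ∈ prs5)
    {B : Subgroup ↥(Lie.chevE7.group F)} (h1 : HAt p f D.e B) (h2 : HAt p f D.e' B)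
    (hsep : ∀ c ∈ [D.e, D.e'], ¬ Nat.card B ∣ E7 c * M7 (p ^ f) c)
    (hex : ∀ c ∈ D.exs, ∃ s, Prim p (f * c) s ∧ s ∣ Nat.card B ∧ ¬ s ∣ E7 D.e * M7 (p ^ f) D.e)
    (hexc : ∀ (S : Subgroup B), ConH p f (M7 (p ^ f)) E7 D.e D.e' S → ∀ g l X a, l.Prime → IsNamed g S →
      IsLie g X l a → (X, (l, a)) ∈ exc → False) :
    ∃ S : Subgroup B, ConH p f (M7 (p ^ f)) E7 D.e D.e' S ∧ ∃ g, IsNamed g S ∧ HasChar p g ∧
      Nat.card S ∣ num (.e7 (p ^ f)) := by
  have := Fact.mk hp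
  have hchar : CharP F p := charP_of hp hf hq
  have hfin : Finite ↥(Lie.chevE7.group F) := inferInstance
  have hT := named_e7 (F := F) tb
  rw [hq] at hT
  have hq2 : 2 ≤ p ^ f := hp.two_le.trans (Nat.le_self_pow (by omega) p)
  have hOL : num (.e7 (p ^ f)) = OL .E7 (p ^ f) := rfl
  have hdT : Nat.card ↥(Lie.chevE7.group F) ∣ OL .E7 (p ^ f) := by
    rw [← hOL, ← hT.eq]
    exact Dvd.intro_left _ rfl
  have hcm : ((D.e = 7 ∨ D.e = 9 ∨ D.e = 14 ∨ D.e = 18) ∧ (D.e' = 7 ∨ D.e' = 9 ∨ D.e' = 14 ∨ D.e' = 18)) ∧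
      (D.e = 18 ∨ D.e' = 14 ∨ D.e' = 18) := by
    have h1 : ∀ x ∈ prs5, ((x.1 = 7 ∨ x.1 = 9 ∨ x.1 = 14 ∨ x.1 = 18) ∧ (x.2 = 7 ∨ x.2 = 9 ∨ x.2 = 14 ∨ x.2 = 18)) ∧
      (x.1 = 18 ∨ x.2 = 14 ∨ x.2 = 18) := by
      decide
    exact h1 _ hcc
  have hmem : ∀ c ∈ [D.e, D.e'], c = 7 ∨ c = 9 ∨ c = 14 ∨ c = 18 := by
    intro c hc
    simp only [List.mem_cons, List.not_mem_nil, or_false] at hc
    rcases hc with rfl | rfl
    · exact hcm.1.1
    · exact hcm.1.2
  have hbig : ∀ c ∈ [D.e, D.e'], ∀ r, Prim (p ^ f) c r → Big ↥(Lie.chevE7.group F) r (M7 (p ^ f) c) (E7 c) :=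
    fun c hc r hr => big7 (hmem c hc) hq hr
  have hred : Red ↥B (Pr (FmH p f [D.e, D.e'] (M7 (p ^ f)) E7 (Nat.card B))) := by
    have key : ∀ c₀ ∈ [D.e, D.e'], HAt p f c₀ B → (c₀ = 14 ∨ c₀ = 18) →
        Red ↥B (Pr (FmH p f [D.e, D.e'] (M7 (p ^ f)) E7 (Nat.card B))) := by
      intro c₀ hc₀ hH h3
      obtain ⟨r₀, hr₀, hr₀B⟩ := hH.exists_prim hp.two_le hf (by omega) (by omega)
      have hpiso : PIso p r₀ ↥(Lie.chevE7.group F) := by
        rcases h3 with rfl | rfl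
        · exact piso_E7 (F := F) (by rw [hq]; exact prim_q hf hr₀)
        · exact piso_E7_18 (F := F) (by rw [hq]; exact prim_q hf hr₀)
      exact red7 hcyc hp hf hq hdT hcc h1 h2 hc₀ hr₀ hpiso hr₀B
    rcases hcm.2 with h3 | h3 | h3
    · exact key D.e (by simp) h1 (Or.inr h3)
    · exact key D.e' (by simp) h2 (Or.inl h3)
    · exact key D.e' (by simp) h2 (Or.inr h3)
  obtain ⟨S, hS, g, hg, hch⟩ := mainR tb hcyc hcf (fun {S} _ _ {m r N e} h Φ h5 hd => Cfsg.Agent.H427.Rg.alt_aut h Φ h5 hd)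
    ht hp hf (hq₀.trans hq2) (F := F) fth_E7 (by rw [hDY]; exact hdT) hbig h1 h2 hsep hex hred hexc
  exact ⟨S, hS, g, hg, hch, IsNamed.card_dvd hT S⟩

variable (tb : OrderTable.{0}) (hcyc : CycFixSolv.{0}) (hcf : CF)

include tb hcyc hcf

/-- **`E₇(q)`, half of the classes 9, 14.** -/
theorem KH_9_14 (hp : p.Prime) (hf : 1 ≤ f) (hq : Fintype.card F = p ^ f)
    (B : Subgroup ↥(Lie.chevE7.group F)) (h : HOff p f [9, 14] B) : B = ⊤ := by
  have hq1 : 1 ≤ p ^ f := Nat.one_le_pow _ _ hp.pos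
  have hT := named_e7 (F := F) tb
  rw [hq] at hT
  have h1 := h 9 (by simp)
  have h2 := h 14 (by simp)
  have hsep : ∀ c ∈ [9, 14], ¬ Nat.card B ∣ E7 c * M7 (p ^ f) c :=
    sepH (e := 9) (e' := 14) hp hf (M := M7 (p ^ f)) (E := E7) (by norm_num) (by norm_num) h1 h2
      (fun c hc => m7_dvd (mem4 (by omega) (by omega) c hc) hq1) (fun c _ s hs hd => e7_le_seven hs hd)
      (by norm_num) (by norm_num)
  obtain ⟨S, hS, g, hg, hch, hdS⟩ := nameK7 tb hcyc hcf hp hf hq (D := D9_14) tblH_914 rfl (by decide) (by decide)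
    (B := B) h1 h2 hsep
    (fun c hc => absurd hc (by simp [D9_14]))
    (fun S hS g l X a _ hg hX hex => kill_113 hp hS hg hX hex)
  obtain rfl := Cfsg.Agent.H72.Same.charp_e7_914 hp hf hg.cond hch hg.eq hdS (hS.h1 9 (by simp [D9_14])) (hS.h1 14 (by simp [D9_14]))
  exact eq_top_of_name hT hg

/-- **`E₇(q)`, half of the classes 18, 7.** -/
theorem KH_18_7 (hp : p.Prime) (hf : 1 ≤ f) (hq : Fintype.card F = p ^ f)
    (B : Subgroup ↥(Lie.chevE7.group F)) (h : HOff p f [18, 7] B) : B = ⊤ := by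
  have hq1 : 1 ≤ p ^ f := Nat.one_le_pow _ _ hp.pos
  have hT := named_e7 (F := F) tb
  rw [hq] at hT
  have h1 := h 18 (by simp)
  have h2 := h 7 (by simp)
  have hsep : ∀ c ∈ [18, 7], ¬ Nat.card B ∣ E7 c * M7 (p ^ f) c :=
    sepH (e := 18) (e' := 7) hp hf (M := M7 (p ^ f)) (E := E7) (by norm_num) (by norm_num) h1 h2
      (fun c hc => m7_dvd (mem4 (by omega) (by omega) c hc) hq1) (fun c _ s hs hd => e7_le_seven hs hd)
      (by norm_num) (by norm_num)
  obtain ⟨S, hS, g, hg, hch, hdS⟩ := nameK7 tb hcyc hcf hp hf hq (D := D18_7) tblH_187 rfl (by decide) (by decide)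
    (B := B) h1 h2 hsep
    (fun c hc => absurd hc (by simp [D18_7]))
    (fun S hS g l X a _ hg hX hex => absurd hex (by simp))
  obtain rfl := Cfsg.Agent.H72.Same.charp_e7_718 hp hf hg.cond hch hg.eq hdS (hS.h1 7 (by simp [D18_7])) (hS.h1 18 (by simp [D18_7]))
  exact eq_top_of_name hT hg

/-- **`E₇(q)`, half of the classes 18, 14.** -/
theorem KH_18_14 (hp : p.Prime) (hf : 1 ≤ f) (hq : Fintype.card F = p ^ f)
    (B : Subgroup ↥(Lie.chevE7.group F)) (h : HOff p f [18, 14] B) : B = ⊤ := by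
  have hq1 : 1 ≤ p ^ f := Nat.one_le_pow _ _ hp.pos
  have hT := named_e7 (F := F) tb
  rw [hq] at hT
  have h1 := h 18 (by simp)
  have h2 := h 14 (by simp)
  have hsep : ∀ c ∈ [18, 14], ¬ Nat.card B ∣ E7 c * M7 (p ^ f) c :=
    sepH (e := 18) (e' := 14) hp hf (M := M7 (p ^ f)) (E := E7) (by norm_num) (by norm_num) h1 h2
      (fun c hc => m7_dvd (mem4 (by omega) (by omega) c hc) hq1) (fun c _ s hs hd => e7_le_seven hs hd)
      (by norm_num) (by norm_num)
  obtain ⟨S, hS, g, hg, hch, hdS⟩ := nameK7 tb hcyc hcf hp hf hq (D := D18_14) tblH_1814 rfl (by decide) (by decide)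
    (B := B) h1 h2 hsep
    (fun c hc => absurd hc (by simp [D18_14]))
    (fun S hS g l X a _ hg hX hex => absurd hex (by simp))
  have hMp : ¬ p ∣ M7 (p ^ f) 14 := by
    intro h
    have h1 := h.trans (m7_dvd (c := 14) (by omega) hq1)
    have h2 : p ∣ (p ^ f) ^ 14 := dvd_pow (dvd_pow_self p (by omega)) (by norm_num)
    have h3 : p ∣ (p ^ f) ^ 14 - ((p ^ f) ^ 14 - 1) := Nat.dvd_sub h2 h1
    have h4 : 1 ≤ (p ^ f) ^ 14 := Nat.one_le_pow _ _ (by omega)
    rw [Nat.sub_sub_self h4] at h3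
    exact hp.one_lt.ne' (Nat.dvd_one.1 h3)
  have a14 := hS.h1 14 (by simp [D18_14])
  obtain ⟨r, hr, hrS⟩ := id a14
  have hb := (hS.prs 14 (by simp [D18_14]) r hr (hrS.trans (Subgroup.card_subgroup_dvd_card S))).1
  rcases Cfsg.Agent.H72.Same.charp_e7_1418 hp hf hg.cond hch hg.eq hdS a14 (hS.h1 18 (by simp [D18_14])) with
    rfl | rfl | rfl
  · exact (kill_psu9 hp hf (Or.inl rfl) hg (prim_q hf hr) hb hMp).elim
  · exact (kill_psu9 hp hf (Or.inr rfl) hg (prim_q hf hr) hb hMp).elim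
  · exact eq_top_of_name hT hg

/-- **`E₇(q)`, half of the classes 9, 18 and a prime of class 5.** -/
theorem KH_9_18 {s : ℕ} (hp : p.Prime) (hf : 1 ≤ f) (hq : Fintype.card F = p ^ f)
    (B : Subgroup ↥(Lie.chevE7.group F)) (h : HOff p f [9, 18] B) (hs : Prim p (f * 5) s) (hsB : s ∣ Nat.card B) :
    B = ⊤ := by
  have hq2 : 2 ≤ p ^ f := hp.two_le.trans (Nat.le_self_pow (by omega) p)
  have hT := named_e7 (F := F) tb
  rw [hq] at hT
  have hs5 : Prim (p ^ f) 5 s := prim_q hf hs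
  obtain ⟨S, hS, g, hg, hch, hdS⟩ := nameK7 tb hcyc hcf hp hf hq (D := D9_18) tblH_918 rfl (by decide) (by decide)
    (B := B) (h 9 (by simp)) (h 18 (by simp))
    (fun c hc hd => five_not_dvd hq2 hs5 (mem4 (c := 9) (c' := 18) (by omega) (by omega) c hc) (hsB.trans hd))
    (fun c hc => by
      obtain rfl : c = 5 := by simpa [D9_18] using hc
      exact ⟨s, hs, hsB, five_not_dvd hq2 hs5 (c := 9) (by omega)⟩)
    (fun S hS g l X a _ hg hX hex => absurd hex (by simp))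
  have hsS : s ∣ Nat.card S := five_dvd hq2 hs5 (c := 9) (by omega) (hS.idx 9 (by simp [D9_18]))
    (S.card_mul_index).symm hsB
  obtain rfl := Cfsg.Agent.H72.Same.charp_e7_918 hp hf hg.cond hch hg.eq hdS ⟨s, hs, hsS⟩ (hS.h1 9 (by simp [D9_18]))
    (hS.h1 18 (by simp [D9_18]))
  exact eq_top_of_name hT hg

/-- **`E₇(q)`, half of the classes 7, 14 and a prime of class 5.** -/
theorem KH_7_14 {s : ℕ} (hp : p.Prime) (hf : 1 ≤ f) (hq : Fintype.card F = p ^ f)
    (B : Subgroup ↥(Lie.chevE7.group F)) (h : HOff p f [7, 14] B) (hs : Prim p (f * 5) s) (hsB : s ∣ Nat.card B) :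
    B = ⊤ := by
  have hq2 : 2 ≤ p ^ f := hp.two_le.trans (Nat.le_self_pow (by omega) p)
  have hT := named_e7 (F := F) tb
  rw [hq] at hT
  have hs5 : Prim (p ^ f) 5 s := prim_q hf hs
  obtain ⟨S, hS, g, hg, hch, hdS⟩ := nameK7 tb hcyc hcf hp hf hq (D := D7_14) tblH_714 rfl (by decide) (by decide)
    (B := B) (h 7 (by simp)) (h 14 (by simp))
    (fun c hc hd => five_not_dvd hq2 hs5 (mem4 (c := 7) (c' := 14) (by omega) (by omega) c hc) (hsB.trans hd))
    (fun c hc => by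
      obtain rfl : c = 5 := by simpa [D7_14] using hc
      exact ⟨s, hs, hsB, five_not_dvd hq2 hs5 (c := 7) (by omega)⟩)
    (fun S hS g l X a _ hg hX hex => absurd hex (by simp))
  have hsS : s ∣ Nat.card S := five_dvd hq2 hs5 (c := 7) (by omega) (hS.idx 7 (by simp [D7_14]))
    (S.card_mul_index).symm hsB
  obtain rfl := Cfsg.Agent.H72.Same.charp_e7_714 hp hf hg.cond hch hg.eq hdS ⟨s, hs, hsS⟩ (hS.h1 7 (by simp [D7_14]))
    (hS.h1 14 (by simp [D7_14]))
  exact eq_top_of_name hT hg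

end

end Cfsg.Agent.SM.Ex.Rg
end

-- part: SM/Ex/KH6
section
/-!
# S3570, exceptional `S`: half classes without exactness (helper93)

The proofs of `H290/Rg/KH6`, `H851/Rg/RowE6`, with the hypothesis `HAt` reduced to the field `half`.
-/

set_option autoImplicit false

set_option exponentiation.threshold 7000

set_option linter.unusedSectionVars false

namespace Cfsg.Agent.SM.Ex.Rg.KH6

open Cfsg.Agent.H290.Rg Cfsg.Agent.H290.Rg.KH6

open Cfsg Cfsg.Agent.OrdDiv Cfsg.Agent.H436 Cfsg.Agent.H902 Cfsg.Agent.H902.Names Cfsg.Agent.H915.GN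
  Cfsg.Agent.H290.ElReg Cfsg.Agent.H290.ElTab Cfsg.Agent.H290.ElCross Cfsg.Agent.H264.FKS Cfsg.Agent.H56.Exc
  Cfsg.Agent.H325.Loc Cfsg.Agent.H563.KG Cfsg.Agent.H73.Rg Cfsg.Agent.H190.Odd Cfsg.Agent.H325.IsoExc
  Cfsg.Agent.H325.IsoFree Cfsg.Agent.H563.KG.Kill Cfsg.Agent.H72.Same

section num

variable {q : ℕ}

end num

section

variable {F : Type} [Field F] [Fintype F] {p f : ℕ} [CharP F p]

variable (tb : OrderTable.{0}) (hcyc : CycFixSolv.{0}) (hcf : CF)

include tb hcyc hcf in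
/-- **The simple normal subgroup.** -/
theorem half6 {D : _root_.Cfsg.Agent.H73.Rg.TD} {c c' : ℕ} (ht : TblH 78 D [] c c') (hY : D.Y = .E6) (he : D.e = c) (he' : D.e' = c')
    (hex : D.exs = []) (hc : Cl6 c) (hc' : Cl6 c') (hne : c ≠ c') (hp : p.Prime) (hf : 1 ≤ f)
    (hq : Fintype.card F = p ^ f) (hq0 : D.q₀ ≤ p ^ f) (B : Subgroup ↥(Lie.chevE6.group F)) (hB : HOff p f [c, c'] B)
    (hgood : ∀ t : ℕ, t.Prime → t ≠ p → ¬ Prim p (f * c) t → ¬ Prim p (f * c') t → t ∣ Nat.card B →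
      _root_.Cfsg.Agent.H563.KG.Good B 78 t ∨ KillB B t) :
    ∃ (S : Subgroup B) (_ : S.Normal) (_ : IsSimpleGroup S), S.index ∣ c * M6 (p ^ f) c ∧ S.index ∣ c' * M6 (p ^ f) c' ∧
      (∀ d, (d = c ∨ d = c') → ∀ r, Prim p (f * d) r → r ∣ Nat.card B →
        Big S r (M6 (p ^ f) d) d ∧ r ∣ Nat.card S ∧ ¬ r ∣ S.index) ∧
      ∃ g, IsNamed g S ∧ HasChar p g := by
  have hp2 := hp.two_le
  have hq1 : 1 ≤ p ^ f := Nat.one_le_pow _ _ hp.pos
  have hT := named_e6 (F := F) tb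
  rw [hq] at hT
  have hdT : Nat.card ↥(Lie.chevE6.group F) ∣ OL .E6 (p ^ f) := by
    rw [← show num (.e6 (p ^ f)) = OL .E6 (p ^ f) from rfl, ← hT.eq]
    exact Dvd.intro_left _ rfl
  have hall : ∀ d ∈ [c, c'], Cl6 d := by
    intro d hd
    have hd' : d = c ∨ d = c' := by simpa using hd
    rcases hd' with rfl | rfl
    · exact hc
    · exact hc'
  have h8 : ∀ d, Cl6 d → 8 ≤ d := by rintro d (rfl | rfl | rfl) <;> norm_num
  have hex1 : ∀ d ∈ [c, c'], ∃ r, Prim p (f * d) r ∧ r ∣ Nat.card B := fun d hd =>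
    (hB d hd).exists_prim hp2 hf (by have := h8 d (hall d hd); omega) (by have := h8 d (hall d hd); omega)
  -- a class for the parabolic subgroups
  obtain ⟨c₀, hc₀, hc₀'⟩ : ∃ c₀ ∈ [c, c'], c₀ = 9 ∨ c₀ = 12 := by
    rcases hc with rfl | rfl | rfl
    · exact ⟨c', by simp, hc'.resolve_left (fun h => hne h.symm)⟩
    · exact ⟨9, by simp, Or.inl rfl⟩
    · exact ⟨12, by simp, Or.inr rfl⟩
  obtain ⟨r₀, hr₀, hr₀B⟩ := hex1 c₀ hc₀
  obtain ⟨S, hSn, hSs, hSna, hidx, hbS⟩ := coreK (n := 78) hcyc hp hf (F := F) (fam := [c, c']) (M := M6 (p ^ f))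
    (E := fun d => d) fth_E6 (fun d hd r hr => big6 hp hq (hall d hd) hr) hc₀ hr₀
    (piso6 hp hq hc₀' (prim_q hf hr₀)) hr₀B (fun d hd => by
      -- separation
      obtain ⟨d', hd', hdd⟩ : ∃ d' ∈ [c, c'], d ≠ d' := by
        have hd' : d = c ∨ d = c' := by simpa using hd
        rcases hd' with rfl | rfl
        · exact ⟨c', by simp, hne⟩
        · exact ⟨c, by simp, hne.symm⟩
      obtain ⟨r, hr, hrB⟩ := hex1 d' hd'
      exact sep_of hf hr hrB (not_dvd_pair (hall d hd) (hall d' hd') hdd) (M6_dvd hq1 (hall d hd))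
        (not_dvd_cl hp2 hf (hall d hd) (hall d' hd') hr)) hex1
    (fun t ht htp htn htB => hgood t ht htp (htn c (by simp)) (htn c' (by simp)) htB)
  have hS2 : ∀ d ∈ [c, c'], PP p (f * d) ≤ (Nat.gcd (Nat.card S) (PP p (f * d))) ^ 2 := fun d hd =>
    half_S hp2 (by have h1 := h8 d (hall d hd)
                   have h2 : 1 * d ≤ f * d := Nat.mul_le_mul_right _ hf
                   omega) S (hB d hd).half fun r hr hrB => (hbS d hd r hr hrB).2.2
  have hdS : Nat.card S ∣ OL .E6 (p ^ f) :=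
    ((Subgroup.card_subgroup_dvd_card S).trans (Subgroup.card_subgroup_dvd_card B)).trans hdT
  refine ⟨S, hSn, hSs, hidx c (by simp), hidx c' (by simp), fun d hd => hbS d (by simpa using hd), ?_⟩
  refine nameH (EE := c) (EE' := c') (N := M6 (p ^ f) c) (N' := M6 (p ^ f) c') tb
    (fun {_} _ _ {_ _ _ _} h Φ h5 hd => Cfsg.Agent.H427.Rg.alt_aut h Φ h5 hd) ht hp hf hq0 (F := F) (S := S) hSna (hcf S)
    ((fth_E6.sub B.subtype B.subtype_injective).sub S.subtype S.subtype_injective)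
    (by rw [hY]; exact hdS) (by rw [he]; exact hS2 c (by simp)) (by rw [he']; exact hS2 c' (by simp))
    (by rw [hex]; intro d hd; cases hd)
    (fun r hr hrS => (hbS c (by simp) r (he ▸ hr) (hrS.trans (Subgroup.card_subgroup_dvd_card S))).1)
    (fun r hr hrS => (hbS c' (by simp) r (he' ▸ hr) (hrS.trans (Subgroup.card_subgroup_dvd_card S))).1)
    (fun g l X a _ _ _ h => by cases h)

end

section

variable {F : Type} [Field F] [Fintype F] {p f : ℕ} [CharP F p]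

variable (tb : OrderTable.{0}) (hcyc : CycFixSolv.{0}) (hcf : CF)

theorem h1_of {c : ℕ} (hp : p.Prime) (hf : 1 ≤ f) {B : Subgroup ↥(Lie.chevE6.group F)} (hB : HAt p f c B) (hc : 8 ≤ c)
    {S : Subgroup B} (h : ∀ r, Prim p (f * c) r → r ∣ Nat.card B →
      Big S r (M6 (p ^ f) c) c ∧ r ∣ Nat.card S ∧ ¬ r ∣ S.index) : H1 p f c (Nat.card S) := by
  obtain ⟨r, hr, hrB⟩ := hB.exists_prim hp.two_le hf (by omega) (by omega)
  exact ⟨r, hr, (h r hr hrB).2.1⟩

include tb hcyc hcf in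
/-- **The classes 9, 8.** -/
theorem k98 (hp : p.Prime) (hf : 1 ≤ f) (hq : Fintype.card F = p ^ f) (hq3 : 3 ≤ p ^ f)
    (B : Subgroup ↥(Lie.chevE6.group F)) (hB : HOff p f [9, 8] B) (hg : GoodB p f 9 8 B) : B = ⊤ := by
  have hT := named_e6 (F := F) tb
  rw [hq] at hT
  obtain ⟨S, _, _, -, -, hbS, g, hgS, hch⟩ := half6 tb hcyc hcf tbl98 rfl rfl rfl rfl (Or.inr (Or.inl rfl)) (Or.inl rfl)
    (by norm_num) hp hf hq hq3 B hB hg
  obtain rfl := charp_e6_89 hp hf hgS.cond hch hgS.eq (card_le6 hT S)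
    (h1_of hp hf (hB 8 (by simp)) (by norm_num) (hbS 8 (Or.inr rfl)))
    (h1_of hp hf (hB 9 (by simp)) (by norm_num) (hbS 9 (Or.inl rfl)))
  exact eq_top_of_name hT hgS

include tb hcyc hcf in
/-- **The classes 9, 12.** -/
theorem k912 (hp : p.Prime) (hf : 1 ≤ f) (hq : Fintype.card F = p ^ f) (hq3 : 3 ≤ p ^ f)
    (B : Subgroup ↥(Lie.chevE6.group F)) (hB : HOff p f [9, 12] B) (hg : GoodB p f 9 12 B) : B = ⊤ := by
  have := Fact.mk hp
  have hT := named_e6 (F := F) tb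
  rw [hq] at hT
  obtain ⟨S, _, _, -, -, hbS, g, hgS, hch⟩ := half6 tb hcyc hcf tbl912 rfl rfl rfl rfl (Or.inr (Or.inl rfl))
    (Or.inr (Or.inr rfl)) (by norm_num) hp hf hq hq3 B hB hg
  obtain ⟨r, hr, hrB⟩ := (hB 9 (by simp)).exists_prim hp.two_le hf (by norm_num) (by norm_num)
  have hr' := prim_q hf hr
  rcases charp_e6_reg hp hf hgS.cond hch hgS.eq (card_le6 hT S)
    (h1_of hp hf (hB 12 (by simp)) (by norm_num) (hbS 12 (Or.inr rfl)))
    (h1_of hp hf (hB 9 (by simp)) (by norm_num) (hbS 9 (Or.inl rfl))) with rfl | rfl | ⟨f₁, hf₁, rfl⟩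
  · exact eq_top_of_name hT hgS
  · exfalso
    exact kill_psl4 hp hf hgS hr' fun x hx => (hbS 9 (Or.inl rfl) r hr hrB).1.card x hx
  · exfalso
    exact Cfsg.Agent.H325.Same.kill_ominus4 hp hf hf₁ hgS (by rw [mul_comm]; exact hr) (hbS 9 (Or.inl rfl) r hr hrB).2.1
      (((piso_E6 (F := F) (by rw [hq]; exact hr')).sub B).sub S)

include tb hcyc hcf in
/-- **The classes 8, 12.** -/
theorem k812 (hp : p.Prime) (hf : 1 ≤ f) (hq : Fintype.card F = p ^ f) (hq3 : 3 ≤ p ^ f)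
    (B : Subgroup ↥(Lie.chevE6.group F)) (hB : HOff p f [8, 12] B) (hg : GoodB p f 8 12 B) (hBt : B ≠ ⊤) :
    (∀ r, Prim (p ^ f) 9 r → ¬ r ∣ Nat.card B) ∧ ∀ r, Prim (p ^ f) 5 r → ¬ r ∣ Nat.card B := by
  have hq1 : 1 ≤ p ^ f := Nat.one_le_pow _ _ hp.pos
  have hT := named_e6 (F := F) tb
  rw [hq] at hT
  obtain ⟨S, hSn, hSs, hidx, -, hbS, g, hgS, hch⟩ := half6 tb hcyc hcf tbl812 rfl rfl rfl rfl (Or.inl rfl)
    (Or.inr (Or.inr rfl)) (by norm_num) hp hf hq (le_trans (by decide) hq3) B hB hg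
  have hcs := charp_e6_812 hp hf hgS.cond hch hgS.eq (card_le6 hT S)
    (h1_of hp hf (hB 8 (by simp)) (by norm_num) (hbS 8 (Or.inl rfl)))
    (h1_of hp hf (hB 12 (by simp)) (by norm_num) (hbS 12 (Or.inr rfl)))
  have hg' : g = .f4 (p ^ f) ∨ g = .psl 3 ((p ^ f) ^ 4) := by
    rcases hcs with rfl | rfl | rfl
    · exact absurd (eq_top_of_name hT hgS) hBt
    · exact Or.inl rfl
    · right
      rw [mul_comm 4 f, pow_mul]
  exact ⟨fun r hr => not_dvd_B hq1 (Or.inl rfl) hr hgS hg' hidx, fun r hr => not_dvd_B hq1 (Or.inr rfl) hr hgS hg' hidx⟩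

end

end Cfsg.Agent.SM.Ex.Rg.KH6

namespace Cfsg.Agent.SM.Ex.Rg

open Cfsg.Agent.H851.Rg

open Cfsg Cfsg.Lie Cfsg.Agent.H454.Reg Cfsg.Agent.H73.Rg Cfsg.Agent.H436 Cfsg.Agent.H563.KG

open Cfsg.Agent.OrdDiv (OrderTable)

open Cfsg.Agent.H290.Rg.KH6 (GoodB big6 ord6)

universe u

section

variable {F : Type} [Field F] [Fintype F] {p f : ℕ}

theorem good912 (tb : OrderTable.{0}) (hp : p.Prime) (hf : 1 ≤ f) (hq : Fintype.card F = p ^ f) (hq3 : 3 ≤ p ^ f)
    {B : Subgroup ↥(Lie.chevE6.group F)} (h : HOff p f [9, 12] B) : GoodB p f 9 12 B := by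
  intro t ht htp hn hn' htB
  have := charP_e6 hp hq
  have hfin : Finite ↥(Lie.chevE6.group F) := inferInstance
  exact Cfsg.Agent.H70.Rg.good_e6_9_12 hp hf hq3 ((ordE9 hp hq).sub B) ((ord6 (c := 12) hp hq (Or.inr (Or.inr rfl))).sub B)
    ((Subgroup.card_subgroup_dvd_card B).trans (card_e6_dvd tb hq)) (h 9 (by simp)).half (h 12 (by simp)).half ht hn hn'

theorem good98 (tb : OrderTable.{0}) (hp : p.Prime) (hf : 1 ≤ f) (hq : Fintype.card F = p ^ f) (hq3 : 3 ≤ p ^ f)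
    {B : Subgroup ↥(Lie.chevE6.group F)} (h : HOff p f [9, 8] B) : GoodB p f 9 8 B := by
  intro t ht htp hn hn' htB
  have := charP_e6 hp hq
  have hfin : Finite ↥(Lie.chevE6.group F) := inferInstance
  exact Cfsg.Agent.H70.Rg.good_e6_9_8 hp hf hq3 ((ordE9 hp hq).sub B) ((ord6 (c := 8) hp hq (Or.inl rfl)).sub B)
    ((Subgroup.card_subgroup_dvd_card B).trans (card_e6_dvd tb hq)) (h 9 (by simp)).half (h 8 (by simp)).half ht hn hn'

theorem good812 (tb : OrderTable.{0}) (hp : p.Prime) (hf : 1 ≤ f) (hq : Fintype.card F = p ^ f) (hq3 : 3 ≤ p ^ f)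
    {B : Subgroup ↥(Lie.chevE6.group F)} (h : HOff p f [8, 12] B) : GoodB p f 8 12 B := by
  intro t ht htp hn hn' htB
  have := charP_e6 hp hq
  have hfin : Finite ↥(Lie.chevE6.group F) := inferInstance
  refine Cfsg.Agent.H70.Rg.good_e6_8_12 hp hf hq3 ((ord6 (c := 8) hp hq (Or.inl rfl)).sub B) ?_
    ((ord6 (c := 12) hp hq (Or.inr (Or.inr rfl))).sub B) ?_ ((Subgroup.card_subgroup_dvd_card B).trans (card_e6_dvd tb hq))
    (h 8 (by simp)).half (h 12 (by simp)).half ht htp hn hn' htB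
  · intro r hr x hx
    exact ((big6 (c := 8) hp hq (Or.inl rfl) hr).subgroup B).cyc x hx
  · intro h3 r hr x hx h
    exact (Cfsg.Agent.H190.Odd.exact_e6_12 hq h3 hr (x := (x : ↥(Lie.chevE6.group F)))
      (by rw [Subgroup.orderOf_coe]; exact hx)).2 (h.trans (Cfsg.Agent.H190.Odd.card_centralizer_sub B x))

end

end Cfsg.Agent.SM.Ex.Rg
end

-- part: SM/Ex/KT6
section
/-!
# S3570, exceptional `S`: half classes without exactness (helper93)

The proofs of `H70/Rg/GoodH6`, `H851/Rg/KTE6`, `H70/Rg/RedT6`, with the hypothesis `HAt` reduced to the field `half`.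
-/

set_option autoImplicit false

namespace Cfsg.Agent.SM.Ex.Rg

open Cfsg.Agent.H70.Rg

open Cfsg Cfsg.Agent.OrdDiv Cfsg.Agent.H436 Cfsg.Agent.H902 Cfsg.Agent.H902.Names Cfsg.Agent.H915.GN
  Cfsg.Agent.H290.ElReg Cfsg.Agent.H290.ElTab Cfsg.Agent.H290.ElCross Cfsg.Agent.H264.FKS Cfsg.Agent.H56.Exc
  Cfsg.Agent.H325.Loc Cfsg.Agent.H563.KG Cfsg.Agent.H190.Odd Cfsg.Agent.H73.Rg

section main

variable {n p f : ℕ} {fam : List ℕ} {M E : ℕ → ℕ}

end main

section tools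

variable {p f : ℕ}

end tools

section good

variable {p f : ℕ} {G : Type*} [Group G] [Finite G] {t : ℕ}

end good

end Cfsg.Agent.SM.Ex.Rg

namespace Cfsg.Agent.SM.Ex.Rg

open Cfsg.Agent.H851.Rg

open Cfsg Cfsg.Agent.OrdDiv Cfsg.Agent.H436 Cfsg.Agent.H902 Cfsg.Agent.H902.Names Cfsg.Agent.H915.GN
  Cfsg.Agent.H290.ElReg Cfsg.Agent.H290.ElTab Cfsg.Agent.H290.ElCross Cfsg.Agent.H264.FKS Cfsg.Agent.H56.Exc
  Cfsg.Agent.H325.Loc Cfsg.Agent.H325.IsoExc Cfsg.Agent.H325.IsoFree Cfsg.Agent.H563.KG Cfsg.Agent.H73.Rg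
  Cfsg.Agent.H190.Cov

section

variable {F : Type} [Field F] [Fintype F] {p f : ℕ}

/-- reducedness -/
def RedT (F : Type) [Field F] [Fintype F] (p f c c' : ℕ) : Prop :=
  ∀ B : Subgroup ↥(Lie.twistedE6 F (p ^ f)), HAt p f c B → HAt p f c' B →
    Red ↥B (Pr (FmH p f [c, c'] (MtE (p ^ f)) EtE (Nat.card B)))

/-- **the classes 18, 12** -/
theorem k1T (tb : OrderTable.{0}) (hcyc : CycFixSolv.{0}) (hcf : CF) (hp : p.Prime) (hf : 1 ≤ f)
    (hK : Fintype.card F = (p ^ f) ^ 2) (hq3 : 3 ≤ p ^ f) (hred : RedT F p f 18 12)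
    (B : Subgroup ↥(Lie.twistedE6 F (p ^ f))) (h : HOff p f [18, 12] B) : B = ⊤ := by
  have := charP_te6 hp hf hK
  have hfin : Finite ↥(Lie.twistedE6 F (p ^ f)) := inferInstance
  have hq : IsPrimePow (p ^ f) := hp.isPrimePow.pow (by omega)
  have hT := named_te6 (F := F) tb hq hK
  have hq1 : 1 ≤ p ^ f := by omega
  have h18 : HAt p f 18 B := h 18 (by simp)
  have h12 : HAt p f 12 B := h 12 (by simp)
  have hmem : ∀ c ∈ [18, 12], c = 18 ∨ c = 12 ∨ c = 8 := by decide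
  have hsep : ∀ c ∈ [18, 12], ¬ Nat.card B ∣ EtE c * MtE (p ^ f) c :=
    sepH hp hf (by norm_num) (by norm_num) h18 h12 (fun c hc => mtE_dvd hq1 (hmem c hc))
      (fun c hc s hs hd => etE_le (hmem c hc) hs hd) (by norm_num) (by norm_num)
  obtain ⟨S, hcon, g, hg, hch⟩ := mainR (E := EtE) (M := MtE (p ^ f)) tb hcyc hcf altAut (D := Dt6b) tblH_t6b hp hf hq3
    (F := F) (fth_TE6 _) (card_te6_dvd tb hp hf hK) (fun c hc r hr => bigTE (hmem c hc) hp hf hK hr) h18 h12 hsep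
    (by intro c hc; exact absurd hc List.not_mem_nil) (hred B h18 h12)
    (fun S hcon g l X a hl hg hgl hx => exc73 hcon hp hf hl hg hgl hx)
  have hdS : Nat.card S ∣ num (.te6 (p ^ f)) := IsNamed.card_dvd hT S
  have hh1 : Cfsg.Agent.H72.Same.H1 p f 18 (Nat.card S) := hcon.h1 18 (by simp [Dt6b])
  have hh2 : Cfsg.Agent.H72.Same.H1 p f 12 (Nat.card S) := hcon.h1 12 (by simp [Dt6b])
  rcases Cfsg.Agent.H72.Same.charp_te6_reg hp hf hg.cond hch hg.eq hdS hh1 hh2 with rfl | rfl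
  · exact eq_top_of_name hT hg
  · exfalso
    obtain ⟨r, hr, hrS⟩ := hh1
    exact kill_psu4 hp hf hg (prim_q hf hr)
      (hcon.prs 18 (by simp [Dt6b]) r hr (hrS.trans (Subgroup.card_subgroup_dvd_card S))).1.card

/-- **the classes 18, 8** -/
theorem k2T (tb : OrderTable.{0}) (hcyc : CycFixSolv.{0}) (hcf : CF) (hp : p.Prime) (hf : 1 ≤ f)
    (hK : Fintype.card F = (p ^ f) ^ 2) (hq3 : 3 ≤ p ^ f) (hred : RedT F p f 18 8)
    (B : Subgroup ↥(Lie.twistedE6 F (p ^ f))) (h : HOff p f [18, 8] B) : B = ⊤ := by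
  have := charP_te6 hp hf hK
  have hfin : Finite ↥(Lie.twistedE6 F (p ^ f)) := inferInstance
  have hq : IsPrimePow (p ^ f) := hp.isPrimePow.pow (by omega)
  have hT := named_te6 (F := F) tb hq hK
  have hq1 : 1 ≤ p ^ f := by omega
  have h18 : HAt p f 18 B := h 18 (by simp)
  have h8 : HAt p f 8 B := h 8 (by simp)
  have hmem : ∀ c ∈ [18, 8], c = 18 ∨ c = 12 ∨ c = 8 := by decide
  have hsep : ∀ c ∈ [18, 8], ¬ Nat.card B ∣ EtE c * MtE (p ^ f) c :=
    sepH hp hf (by norm_num) (by norm_num) h18 h8 (fun c hc => mtE_dvd hq1 (hmem c hc))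
      (fun c hc s hs hd => etE_le (hmem c hc) hs hd) (by norm_num) (by norm_num)
  obtain ⟨S, hcon, g, hg, hch⟩ := mainR (E := EtE) (M := MtE (p ^ f)) tb hcyc hcf altAut (D := Dt6a) tblH_t6a hp hf hq3
    (F := F) (fth_TE6 _) (card_te6_dvd tb hp hf hK) (fun c hc r hr => bigTE (hmem c hc) hp hf hK hr) h18 h8 hsep
    (by intro c hc; exact absurd hc List.not_mem_nil) (hred B h18 h8)
    (fun S hcon g l X a hl hg hgl hx => absurd hx (by simp))
  have hdS : Nat.card S ∣ num (.te6 (p ^ f)) := IsNamed.card_dvd hT S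
  have hh1 : Cfsg.Agent.H72.Same.H1 p f 18 (Nat.card S) := hcon.h1 18 (by simp [Dt6a])
  have hh2 : Cfsg.Agent.H72.Same.H1 p f 8 (Nat.card S) := hcon.h1 8 (by simp [Dt6a])
  obtain rfl := Cfsg.Agent.H72.Same.charp_te6_818 hp hf hg.cond hch hg.eq hdS hh2 hh1
  exact eq_top_of_name hT hg

/-- **the classes 8, 12** -/
theorem k3T (tb : OrderTable.{0}) (hcyc : CycFixSolv.{0}) (hcf : CF) (hp : p.Prime) (hf : 1 ≤ f)
    (hK : Fintype.card F = (p ^ f) ^ 2) (hq3 : 3 ≤ p ^ f) (hred : RedT F p f 8 12)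
    (B : Subgroup ↥(Lie.twistedE6 F (p ^ f))) (hne : B ≠ ⊤) (h : HOff p f [8, 12] B) :
    (∀ r, Prim (p ^ f) 18 r → ¬ r ∣ Nat.card B) ∧ ∀ r, Prim (p ^ f) 10 r → ¬ r ∣ Nat.card B := by
  have := charP_te6 hp hf hK
  have hfin : Finite ↥(Lie.twistedE6 F (p ^ f)) := inferInstance
  have hq : IsPrimePow (p ^ f) := hp.isPrimePow.pow (by omega)
  have hT := named_te6 (F := F) tb hq hK
  have hq1 : 1 ≤ p ^ f := by omega
  have h8 : HAt p f 8 B := h 8 (by simp)
  have h12 : HAt p f 12 B := h 12 (by simp)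
  have hmem : ∀ c ∈ [8, 12], c = 18 ∨ c = 12 ∨ c = 8 := by decide
  have hsep : ∀ c ∈ [8, 12], ¬ Nat.card B ∣ EtE c * MtE (p ^ f) c :=
    sepH hp hf (by norm_num) (by norm_num) h8 h12 (fun c hc => mtE_dvd hq1 (hmem c hc))
      (fun c hc s hs hd => etE_le (hmem c hc) hs hd) (by norm_num) (by norm_num)
  obtain ⟨S, hcon, g, hg, hch⟩ := mainR (E := EtE) (M := MtE (p ^ f)) tb hcyc hcf altAut (D := Dt6c) tblH_t6c hp hf hq3
    (F := F) (fth_TE6 _) (card_te6_dvd tb hp hf hK) (fun c hc r hr => bigTE (hmem c hc) hp hf hK hr) h8 h12 hsep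
    (by intro c hc; exact absurd hc List.not_mem_nil) (hred B h8 h12)
    (fun S hcon g l X a hl hg hgl hx => absurd hx (by simp))
  have hdS : Nat.card S ∣ num (.te6 (p ^ f)) := IsNamed.card_dvd hT S
  have hh1 : Cfsg.Agent.H72.Same.H1 p f 8 (Nat.card S) := hcon.h1 8 (by simp [Dt6c])
  have hh2 : Cfsg.Agent.H72.Same.H1 p f 12 (Nat.card S) := hcon.h1 12 (by simp [Dt6c])
  rcases Cfsg.Agent.H72.Same.charp_te6_812 hp hf hg.cond hch hg.eq hdS hh1 hh2 with rfl | rfl | rfl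
  · exact absurd (eq_top_of_name hT hg) hne
  · have key : ∀ r d, (d = 18 ∨ d = 10) → Prim (p ^ f) d r → ¬ r ∣ Nat.card B := by
      intro r d hd hr hrB
      rw [← S.card_mul_index] at hrB
      have hd8 : ¬ d ∣ 8 := by rcases hd with rfl | rfl <;> norm_num
      rcases hr.prime.dvd_mul.1 hrB with h1 | h1
      · exact not_dvd_f4 hr hd (hg.eq ▸ h1.mul_left _)
      · have h2 := h1.trans (hcon.idx 8 (by simp [Dt6c]))
        rcases hr.prime.dvd_mul.1 h2 with h3 | h3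
        · have h4 : r ∣ 2 ^ 3 := h3
          have h5 := Nat.le_of_dvd (by norm_num) (hr.prime.dvd_of_dvd_pow h4)
          have h6 := lt_of_prim (by omega) (by omega) hr
          omega
        · exact hd8 ((hr.dvd_iff 8).1 (h3.trans (mtE_dvd hq1 (by omega))))
    exact ⟨fun r hr => key r 18 (Or.inl rfl) hr, fun r hr => key r 10 (Or.inr rfl) hr⟩
  · exfalso
    obtain ⟨r, hr, hrS⟩ := hh1
    exact kill_psl3_big hp hf hg (prim_q hf hr)
      (hcon.prs 8 (by simp [Dt6c]) r hr (hrS.trans (Subgroup.card_subgroup_dvd_card S))).1.card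

end

end Cfsg.Agent.SM.Ex.Rg

namespace Cfsg.Agent.SM.Ex.Rg

open Cfsg.Agent.H70.Rg

open Cfsg Cfsg.Agent.OrdDiv Cfsg.Agent.H436 Cfsg.Agent.H902 Cfsg.Agent.H902.Names Cfsg.Agent.H915.GN
  Cfsg.Agent.H290.ElReg Cfsg.Agent.H290.ElTab Cfsg.Agent.H290.ElCross Cfsg.Agent.H264.FKS Cfsg.Agent.H56.Exc
  Cfsg.Agent.H325.Loc Cfsg.Agent.H325.IsoExc Cfsg.Agent.H325.IsoFree Cfsg.Agent.H563.KG Cfsg.Agent.H73.Rg
  Cfsg.Agent.H190.Cov Cfsg.Agent.H190.Odd Cfsg.Agent.H851.Rg

section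

variable {F : Type} [Field F] [Fintype F] {p f : ℕ}

/-- the frame -/
theorem redT_of (hcyc : CycFixSolv.{0}) (hp : p.Prime) (hf : 1 ≤ f) (hK : Fintype.card F = (p ^ f) ^ 2) {c c' : ℕ}
    (hm : ∀ e ∈ [c, c'], e = 18 ∨ e = 12 ∨ e = 8) {c₀ : ℕ} (hc₀ : c₀ ∈ [c, c']) (h₀ : c₀ = 12 ∨ c₀ = 18)
    (hg : ∀ B : Subgroup ↥(Lie.twistedE6 F (p ^ f)), HAt p f c B → HAt p f c' B → ∀ t : ℕ, t.Prime → t ≠ p →
      ¬ Prim p (f * c) t → ¬ Prim p (f * c') t → t ∣ Nat.card B → _root_.Cfsg.Agent.H563.KG.Good B 78 t ∨ KillB B t) : RedT F p f c c' := by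
  intro B h1 h2
  have := Fact.mk hp
  have := charP_te6 hp hf hK
  have hfin : Finite ↥(Lie.twistedE6 F (p ^ f)) := inferInstance
  have hH : HAt p f c₀ B := by
    simp only [List.mem_cons, List.not_mem_nil, or_false] at hc₀
    rcases hc₀ with rfl | rfl
    · exact h1
    · exact h2
  obtain ⟨r₀, hr₀, hr₀B⟩ := hH.exists_prim hp.two_le hf (by omega) (by omega)
  exact redK (n := 78) hcyc hp hf (F := F) (fth_TE6 _) (fun e he r hr => bigTE (hm e he) hp hf hK hr) hc₀ hr₀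
    (piso_twE6 (hp.isPrimePow.pow (by omega)) hK h₀ (prim_q hf hr₀)) hr₀B
    fun t ht htp htn htB => hg B h1 h2 t ht htp (htn c (by simp)) (htn c' (by simp)) htB

theorem redT_18_12 (tb : OrderTable.{0}) (hcyc : CycFixSolv.{0}) (hp : p.Prime) (hf : 1 ≤ f)
    (hK : Fintype.card F = (p ^ f) ^ 2) (hq3 : 3 ≤ p ^ f) : RedT F p f 18 12 :=
  redT_of hcyc hp hf hK (by decide) (c₀ := 18) (by simp) (Or.inr rfl) fun B h1 h2 t ht htp hn hn' htB => by
    have hfin : Finite ↥(Lie.twistedE6 F (p ^ f)) := inferInstance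
    exact good_te6_18_12 hp hf hq3 ((ordT18 hp hf hK).sub B) ((ordT12 hp hf hK).sub B)
      ((Subgroup.card_subgroup_dvd_card B).trans (card_te6_dvd tb hp hf hK)) h1.half h2.half ht hn hn'

theorem redT_18_8 (tb : OrderTable.{0}) (hcyc : CycFixSolv.{0}) (hp : p.Prime) (hf : 1 ≤ f)
    (hK : Fintype.card F = (p ^ f) ^ 2) (hq3 : 3 ≤ p ^ f) : RedT F p f 18 8 :=
  redT_of hcyc hp hf hK (by decide) (c₀ := 18) (by simp) (Or.inr rfl) fun B h1 h2 t ht htp hn hn' htB => by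
    have hfin : Finite ↥(Lie.twistedE6 F (p ^ f)) := inferInstance
    exact good_te6_18_8 hp hf hq3 ((ordT18 hp hf hK).sub B) ((ordT8 hp hf hK).sub B)
      ((Subgroup.card_subgroup_dvd_card B).trans (card_te6_dvd tb hp hf hK)) h1.half h2.half ht hn hn'

theorem redT_8_12 (tb : OrderTable.{0}) (hcyc : CycFixSolv.{0}) (hp : p.Prime) (hf : 1 ≤ f)
    (hK : Fintype.card F = (p ^ f) ^ 2) (hq3 : 3 ≤ p ^ f) : RedT F p f 8 12 :=
  redT_of hcyc hp hf hK (by decide) (c₀ := 12) (by simp) (Or.inl rfl) fun B h1 h2 t ht htp hn hn' htB => by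
    have hfin : Finite ↥(Lie.twistedE6 F (p ^ f)) := inferInstance
    refine good_te6_8_12 hp hf hq3 ((ordT8 hp hf hK).sub B) ?_ ((ordT12 hp hf hK).sub B) ?_
      ((Subgroup.card_subgroup_dvd_card B).trans (card_te6_dvd tb hp hf hK)) h1.half h2.half ht htp hn hn' htB
    · intro r hr x hx
      exact ((bigTE (c := 8) (by omega) hp hf hK hr).subgroup B).cyc x hx
    · intro h3 r hr x hx h
      exact (exact_te6_12 (hp.isPrimePow.pow (by omega)) hK h3 hr (x := (x : ↥(Lie.twistedE6 F (p ^ f))))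
        (by rw [Subgroup.orderOf_coe]; exact hx)).2 (h.trans (card_centralizer_sub B x))

/-- **the classes 18, 12** -/
theorem te6_18_12 (tb : OrderTable.{0}) (hcyc : CycFixSolv.{0}) (hcf : CF) (hp : p.Prime) (hf : 1 ≤ f)
    (hK : Fintype.card F = (p ^ f) ^ 2) (hq3 : 3 ≤ p ^ f)
    (B : Subgroup ↥(Lie.twistedE6 F (p ^ f))) (h : HOff p f [18, 12] B) : B = ⊤ :=
  k1T tb hcyc hcf hp hf hK hq3 (redT_18_12 tb hcyc hp hf hK hq3) B h

/-- **the classes 18, 8** -/
theorem te6_18_8 (tb : OrderTable.{0}) (hcyc : CycFixSolv.{0}) (hcf : CF) (hp : p.Prime) (hf : 1 ≤ f)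
    (hK : Fintype.card F = (p ^ f) ^ 2) (hq3 : 3 ≤ p ^ f)
    (B : Subgroup ↥(Lie.twistedE6 F (p ^ f))) (h : HOff p f [18, 8] B) : B = ⊤ :=
  k2T tb hcyc hcf hp hf hK hq3 (redT_18_8 tb hcyc hp hf hK hq3) B h

/-- **the classes 8, 12** -/
theorem te6_8_12 (tb : OrderTable.{0}) (hcyc : CycFixSolv.{0}) (hcf : CF) (hp : p.Prime) (hf : 1 ≤ f)
    (hK : Fintype.card F = (p ^ f) ^ 2) (hq3 : 3 ≤ p ^ f)
    (B : Subgroup ↥(Lie.twistedE6 F (p ^ f))) (hne : B ≠ ⊤) (h : HOff p f [8, 12] B) :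
    (∀ r, Prim (p ^ f) 18 r → ¬ r ∣ Nat.card B) ∧ ∀ r, Prim (p ^ f) 10 r → ¬ r ∣ Nat.card B :=
  k3T tb hcyc hcf hp hf hK hq3 (redT_8_12 tb hcyc hp hf hK hq3) B hne h

end

end Cfsg.Agent.SM.Ex.Rg
end

-- part: SM/Ex/NoFac
section
/-!
# S3570, exceptional `S`: `E₈(q)`, `E₇(q)`, `E₆(q)`, `²E₆(q)` (`q ≥ 3` for the last two) have no factorization (helper93)

`Dv X Y` : the order of the group divides `|X| |Y|`.
-/

set_option autoImplicit false

namespace Cfsg.Agent.SM.Ex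

open Cfsg Subgroup Cfsg.Lie Cfsg.Agent.H436 Cfsg.Agent.H56.Exc Cfsg.Agent.H563.KG Cfsg.Agent.SM.Ex.Rg
open Cfsg.Agent.H73.Rg (PP PP_pos)
open Cfsg.Agent.H813.Rg (Cl cl_E8 cl_E7 cl_E6 cl_TE6 five_E7 five_E6 ten_TE6 exists_prim_class prim_of_prim)

universe v

/-- the order of the group divides `|X| |Y|` -/
def Dv {K : Type v} [Group K] (X Y : Subgroup K) : Prop := Nat.card K ∣ Nat.card X * Nat.card Y

section

variable {K : Type v} [Group K] {X Y : Subgroup K} {p f : ℕ}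

theorem Dv.symm (h : Dv X Y) : Dv Y X := by
  unfold Dv at *
  rwa [mul_comm]

/-- one factor contains half of a divisor -/
theorem Dv.half' (h : Dv X Y) {N : ℕ} (hN : 0 < N) (hd : N ∣ Nat.card K) :
    N ≤ (Nat.gcd (Nat.card X) N) ^ 2 ∨ N ≤ (Nat.gcd (Nat.card Y) N) ^ 2 := by
  have h3 : N ∣ Nat.card X * Nat.card Y := hd.trans h
  have h4 := Nat.gcd_mul_right_dvd_mul_gcd N (Nat.card X) (Nat.card Y)
  rw [Nat.gcd_eq_left h3] at h4
  have h1 := Nat.le_of_dvd (Nat.mul_pos (Nat.gcd_pos_of_pos_left _ hN) (Nat.gcd_pos_of_pos_left _ hN)) h4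
  rw [Nat.gcd_comm N, Nat.gcd_comm N] at h1
  rcases le_total (Nat.gcd (Nat.card Y) N) (Nat.gcd (Nat.card X) N) with h2 | h2
  · left
    rw [sq]
    exact h1.trans (Nat.mul_le_mul_left _ h2)
  · right
    rw [sq]
    exact h1.trans (Nat.mul_le_mul_right _ h2)

theorem Dv.half (h : Dv X Y) {c : ℕ} (hp : p.Prime) (hf : 1 ≤ f) (hc : 5 ≤ c) (hd : PP p (f * c) ∣ Nat.card K) :
    HAt p f c X ∨ HAt p f c Y := by
  have hfc : 3 ≤ f * c := by nlinarith
  exact (h.half' (PP_pos hp.two_le (by omega)) hd).imp (fun h => ⟨h⟩) fun h => ⟨h⟩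

theorem Dv.prime (h : Dv X Y) {s : ℕ} (hs : s.Prime) (hd : s ∣ Nat.card K) : s ∣ Nat.card X ∨ s ∣ Nat.card Y :=
  hs.dvd_mul.1 (hd.trans h)

/-- the index of one factor divides the order of the other -/
theorem Dv.index_dvd [Finite K] (h : Dv X Y) : X.index ∣ Nat.card Y := by
  unfold Dv at h
  rw [← X.card_mul_index] at h
  exact Nat.dvd_of_mul_dvd_mul_left Nat.card_pos h

theorem hoff2 {B : Subgroup K} {a b : ℕ} (ha : HAt p f a B) (hb : HAt p f b B) : HOff p f [a, b] B := by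
  intro c hc
  rcases List.mem_cons.1 hc with rfl | hc
  · exact ha
  · rw [List.mem_singleton] at hc
    subst hc
    exact hb

end

/-- **`E₈(q)`** -/
theorem noFac_e8 (hcf : CF) {F : Type} [Field F] [Fintype F] {X Y : Subgroup ↥(chevE8.group F)} (h : Dv X Y) :
    X = ⊤ ∨ Y = ⊤ := by
  obtain ⟨p, f, _, hp, hf, hF⟩ := exists_pf F
  have tb := Cfsg.Agent.OrdDiv.table.{0}
  have k1 := fun B hB => KH8a (F := F) tb cycFixSolv hcf hp hf hF B hB
  have k2 := fun B hB => KH8b (F := F) tb cycFixSolv hcf hp hf hF B hB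
  have k3 := fun B hB => KH8c (F := F) tb cycFixSolv hcf hp hf hF B hB
  rcases h.half hp hf (by norm_num) (cl_E8 hp hf hF (Or.inl rfl)).dvd with h20 | h20 <;>
  rcases h.half hp hf (by norm_num) (cl_E8 hp hf hF (Or.inr (Or.inl rfl))).dvd with h24 | h24
  · exact Or.inl (k3 _ (hoff2 h20 h24))
  · rcases h.half hp hf (by norm_num) (cl_E8 hp hf hF (Or.inr (Or.inr rfl))).dvd with h30 | h30
    · exact Or.inl (k2 _ (hoff2 h20 h30))
    · exact Or.inr (k1 _ (hoff2 h24 h30))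
  · rcases h.half hp hf (by norm_num) (cl_E8 hp hf hF (Or.inr (Or.inr rfl))).dvd with h30 | h30
    · exact Or.inl (k1 _ (hoff2 h24 h30))
    · exact Or.inr (k2 _ (hoff2 h20 h30))
  · exact Or.inr (k3 _ (hoff2 h20 h24))

theorem noFac_e7_aux (hcf : CF) {F : Type} [Field F] [Fintype F] {p f : ℕ} [CharP F p] (hp : p.Prime) (hf : 1 ≤ f)
    (hF : Fintype.card F = p ^ f) {X Y : Subgroup ↥(chevE7.group F)} (h : Dv X Y) (h18 : HAt p f 18 X) :
    X = ⊤ ∨ Y = ⊤ := by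
  have tb := Cfsg.Agent.OrdDiv.table.{0}
  by_contra hcon
  push Not at hcon
  obtain ⟨hX, hY⟩ := hcon
  have h14 := (h.half hp hf (by norm_num) (cl_E7 hp hf hF (Or.inr (Or.inr (Or.inl rfl)))).dvd).resolve_left
    fun h14 => hX (KH_18_14 tb cycFixSolv hcf hp hf hF _ (hoff2 h18 h14))
  have h7 := (h.half hp hf (by norm_num) (cl_E7 hp hf hF (Or.inl rfl)).dvd).resolve_left
    fun h7 => hX (KH_18_7 tb cycFixSolv hcf hp hf hF _ (hoff2 h18 h7))
  have h9 := (h.half hp hf (by norm_num) (cl_E7 hp hf hF (Or.inr (Or.inl rfl))).dvd).resolve_right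
    fun h9 => hY (KH_9_14 tb cycFixSolv hcf hp hf hF _ (hoff2 h9 h14))
  obtain ⟨s, hs⟩ := exists_prim_class hp hf (c := 5) le_rfl (by norm_num)
  rcases h.prime hs.prime (five_E7 hp hf hF hs).1 with h3 | h3
  · exact hX (KH_9_18 tb cycFixSolv hcf hp hf hF _ (hoff2 h9 h18) hs h3)
  · exact hY (KH_7_14 tb cycFixSolv hcf hp hf hF _ (hoff2 h7 h14) hs h3)

/-- **`E₇(q)`** -/
theorem noFac_e7 (hcf : CF) {F : Type} [Field F] [Fintype F] {X Y : Subgroup ↥(chevE7.group F)} (h : Dv X Y) :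
    X = ⊤ ∨ Y = ⊤ := by
  obtain ⟨p, f, _, hp, hf, hF⟩ := exists_pf F
  rcases h.half hp hf (by norm_num) (cl_E7 hp hf hF (Or.inr (Or.inr (Or.inr rfl)))).dvd with h18 | h18
  · exact noFac_e7_aux hcf hp hf hF h h18
  · exact (noFac_e7_aux hcf hp hf hF h.symm h18).symm

/-- the abstract argument: the classes `a`, `b`, `c` and a prime `s` -/
theorem noFac_aux {K : Type v} [Group K] [Finite K] {X Y : Subgroup K} {p f a b c d s : ℕ}
    (k1 : ∀ B : Subgroup K, HOff p f [a, b] B → B = ⊤)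
    (k2 : ∀ B : Subgroup K, HOff p f [a, c] B → B = ⊤)
    (k3 : ∀ B : Subgroup K, B ≠ ⊤ → HOff p f [c, b] B → (∀ r, Prim (p ^ f) a r → ¬ r ∣ Nat.card B) ∧
      ∀ r, Prim (p ^ f) d r → ¬ r ∣ Nat.card B)
    (k4 : ∀ B : Subgroup K, (∀ r, Prim (p ^ f) a r → ¬ r ∣ Nat.card (Cfsg.Out K) → ¬ r ∣ B.index) →
      (∃ s, Prim p (f * d) s ∧ s ∣ Nat.card B) → B = ⊤)
    (hp : p.Prime) (hf : 1 ≤ f) (hb : 5 ≤ b) (hc : 5 ≤ c) (clb : Cl p f K b) (clc : Cl p f K c)
    (hs : Prim p (f * d) s) (hsK : s ∣ Nat.card K) (h : Dv X Y) (hX : HAt p f a X) : X = ⊤ ∨ Y = ⊤ := by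
  by_contra hcon
  push Not at hcon
  obtain ⟨hXt, hYt⟩ := hcon
  have hYb := (h.half hp hf hb clb.dvd).resolve_left fun h1 => hXt (k1 _ (hoff2 hX h1))
  have hYc := (h.half hp hf hc clc.dvd).resolve_left fun h1 => hXt (k2 _ (hoff2 hX h1))
  obtain ⟨h1, h2⟩ := k3 _ hYt (hoff2 hYc hYb)
  refine hXt (k4 _ (fun r hr _ h3 => h1 r hr (h3.trans h.index_dvd)) ⟨s, hs, ?_⟩)
  exact (h.prime hs.prime hsK).resolve_right (h2 s (prim_of_prim hf hs))

/-- **`E₆(q)`, `q ≥ 3`** -/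
theorem noFac_e6_three (hcf : CF) {F : Type} [Field F] [Fintype F] (h3 : 3 ≤ Fintype.card F)
    {X Y : Subgroup ↥(chevE6.group F)} (h : Dv X Y) : X = ⊤ ∨ Y = ⊤ := by
  obtain ⟨p, f, _, hp, hf, hF⟩ := exists_pf F
  have tb := Cfsg.Agent.OrdDiv.table.{0}
  have hfin : Finite ↥(chevE6.group F) := inferInstance
  rw [hF] at h3
  obtain ⟨s, hs⟩ := exists_prim_class hp hf (c := 5) le_rfl (by norm_num)
  have hs1 := (five_E6 hp hf hF hs).1
  have cl9 := cl_E6 hp hf hF (c := 9) (Or.inr (Or.inl rfl))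
  have cl12 := cl_E6 hp hf hF (c := 12) (Or.inr (Or.inr rfl))
  have cl8 := cl_E6 hp hf hF (c := 8) (Or.inl rfl)
  have k1 := fun B h => KH6.k912 (F := F) tb cycFixSolv hcf hp hf hF h3 B h (good912 tb hp hf hF h3 h)
  have k2 := fun B h => KH6.k98 (F := F) tb cycFixSolv hcf hp hf hF h3 B h (good98 tb hp hf hF h3 h)
  have k3 := fun B hne h => KH6.k812 (F := F) tb cycFixSolv hcf hp hf hF h3 B h (good812 tb hp hf hF h3 h) hne
  have k4 := Cfsg.Agent.H72.Rg2.facts_e6_k4 tb cycFixSolv hcf F p f hp hf hF h3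
  rcases h.half hp hf (by norm_num) cl9.dvd with h9 | h9
  · exact noFac_aux k1 k2 k3 k4 hp hf (by norm_num) (by norm_num) cl12 cl8 hs hs1 h h9
  · exact (noFac_aux k1 k2 k3 k4 hp hf (by norm_num) (by norm_num) cl12 cl8 hs hs1 h.symm h9).symm

/-- **`²E₆(q)`, `q ≥ 3`** -/
theorem noFac_te6_three (hcf : CF) {F : Type} [Field F] [Fintype F] {p f : ℕ} (hp : p.Prime) (hf : 1 ≤ f)
    (hF : Fintype.card F = (p ^ f) ^ 2) (h3 : 3 ≤ p ^ f)
    {X Y : Subgroup ↥(twistedE6 F (p ^ f))} (h : Dv X Y) : X = ⊤ ∨ Y = ⊤ := by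
  have tb := Cfsg.Agent.OrdDiv.table.{0}
  have hfin : Finite ↥(twistedE6 F (p ^ f)) := inferInstance
  obtain ⟨s, hs⟩ := exists_prim_class hp hf (c := 10) (by norm_num) (by norm_num)
  have hs1 := (ten_TE6 hp hf hF hs).1
  have cl18 := cl_TE6 hp hf hF (c := 18) (Or.inr (Or.inr rfl))
  have cl12 := cl_TE6 hp hf hF (c := 12) (Or.inr (Or.inl rfl))
  have cl8 := cl_TE6 hp hf hF (c := 8) (Or.inl rfl)
  have k1 := fun B h => te6_18_12 (F := F) tb cycFixSolv hcf hp hf hF h3 B h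
  have k2 := fun B h => te6_18_8 (F := F) tb cycFixSolv hcf hp hf hF h3 B h
  have k3 := fun B hne h => te6_8_12 (F := F) tb cycFixSolv hcf hp hf hF h3 B hne h
  have k4 := Cfsg.Agent.H72.Rg2.facts_te6_k4 tb cycFixSolv hcf F p f hp hf hF h3
  rcases h.half hp hf (by norm_num) cl18.dvd with h9 | h9
  · exact noFac_aux k1 k2 k3 k4 hp hf (by norm_num) (by norm_num) cl12 cl8 hs hs1 h h9
  · exact (noFac_aux k1 k2 k3 k4 hp hf (by norm_num) (by norm_num) cl12 cl8 hs hs1 h.symm h9).symm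

end Cfsg.Agent.SM.Ex
end

-- part: SM/Ex/FDefs2
section
/-!
# S3570, `S = F₄(q)`: the boxes for the reverse row `T = Sp₈(q)` (helper93)
-/

set_option autoImplicit false

namespace Cfsg.Agent.SM.Ex

open Cfsg Cfsg.Lie Subgroup Cfsg.Agent.SM.Ex78 Cfsg.Agent.OrdDiv

/-- box: the normaliser of `³D₄(q)` in `F₄(q)` has order dividing `3 |³D₄(q)|` -/
def BoxNrm : Prop := ∀ (F : Type) [Field F] [Fintype F] (D : Subgroup ↥(chevF4.group F)),
  Real (.td4 (Fintype.card F)) D → Nat.card ↥(normalizer (D : Set ↥(chevF4.group F))) ∣ 3 * Nat.card D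

/-- box: in the factorisation `F₄(q) = K X`, `K = Sp₈(q)`, `X = ³D₄(q)` or `³D₄(q).3`, a canonical subgroup `C = SL₂(q)`
of `K ⊓ X` has its normaliser in `K` not inside `X` -/
def BoxRev : Prop := BoxNrm → ∀ (F : Type) [Field F] [Fintype F] (X K : Subgroup ↥(chevF4.group F)),
  Row (Fintype.card F) X K → Pd K X → ∃ C ≤ K ⊓ X, C ≠ ⊥ ∧
    (∀ α : MulAut ↥(chevF4.group F), X.map α.toMonoidHom = X → K.map α.toMonoidHom = K → C.map α.toMonoidHom = C) ∧
    ¬ K ⊓ normalizer (C : Set ↥(chevF4.group F)) ≤ X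

end Cfsg.Agent.SM.Ex
end
end

-- part: SM/Ex/E62_mg
section
prune_inst 0x4300041086012000004058241001c87c600010000280001000400400480c3280d002160a40010001808220400300040000000d00000000000000400011d00a0808a50043300a10c840089801084000000000000000000000000000000000004000000000
set_option linter.all false
open scoped Cfsg.Agent.FastGrp

-- part: SM/Ex/E62
section
/-!
# S3570: `E₆(2)` has no factorisation (helper70)

* `K7331` : a subgroup of order divisible by `73 * 31` is the whole group;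
* `K131731` : a subgroup of order divisible by `13 * 17 * 31` is the whole group;
* `noFac_e62`.
-/

set_option autoImplicit false
set_option linter.unusedVariables false
set_option linter.unnecessarySeqFocus false

namespace Cfsg.Agent.SM.Ex.E62

open Cfsg Cfsg.Agent.OrdDiv Cfsg.Agent.H436 Cfsg.Agent.H902 Cfsg.Agent.H902.Names Cfsg.Agent.H915.GN
  Cfsg.Agent.H290.ElReg Cfsg.Agent.H290.ElTab Cfsg.Agent.H290.ElCross Cfsg.Agent.H264.FKS Cfsg.Agent.H56.Exc
  Cfsg.Agent.H325.Loc Cfsg.Agent.H325.Same Cfsg.Agent.H325.IsoExc Cfsg.Agent.H325.IsoFree Cfsg.Agent.H563.KG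
  Cfsg.Agent.H190.Odd Cfsg.Agent.H190.Cov Cfsg.Agent.H190.Cov.Two

/-- the order of `E₆(2)` -/
def G1 : ℕ := 2 ^ 36 * 3 ^ 6 * 5 ^ 2 * 7 ^ 3 * 13 * 17 * 31 * 73

theorem prim73 : Prim 2 9 73 := by
  refine prim_of_order (by norm_num) (by norm_num) (by norm_num) ?_
  rw [orderOf_eq_iff (by norm_num)]
  refine ⟨by decide, fun m hm hm0 => ?_⟩
  interval_cases m <;> decide

theorem prim17 : Prim 2 8 17 := by
  refine prim_of_order (by norm_num) (by norm_num) (by norm_num) ?_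
  rw [orderOf_eq_iff (by norm_num)]
  refine ⟨by decide, fun m hm hm0 => ?_⟩
  interval_cases m <;> decide

theorem eq73 {r : ℕ} (h : Prim 2 9 r) : r = 73 := by
  have h1 := prim_mem (by norm_num) h (l := [7, 73]) (by norm_num) (by norm_num)
  simp only [List.mem_cons, List.not_mem_nil, or_false] at h1
  rcases h1 with rfl | rfl
  · exact absurd ((h.dvd_iff 3).1 (by norm_num)) (by norm_num)
  · rfl

theorem eq17 {r : ℕ} (h : Prim 2 8 r) : r = 17 := by
  have h1 := prim_mem (by norm_num) h (l := [3, 5, 17]) (by norm_num) (by norm_num)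
  simp only [List.mem_cons, List.not_mem_nil, or_false] at h1
  rcases h1 with rfl | rfl | rfl
  · exact absurd ((h.dvd_iff 2).1 (by norm_num)) (by norm_num)
  · exact absurd ((h.dvd_iff 4).1 (by norm_num)) (by norm_num)
  · rfl

theorem eq31 {r : ℕ} (h : Prim 2 5 r) : r = 31 := by
  have h1 := prim_mem (by norm_num) h (l := [31]) (by norm_num) (by norm_num)
  simpa using h1

theorem prime_mem1 {t : ℕ} (ht : t.Prime) (h : t ∣ G1) :
    t = 2 ∨ t = 3 ∨ t = 5 ∨ t = 7 ∨ t = 13 ∨ t = 17 ∨ t = 31 ∨ t = 73 := by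
  unfold G1 at h
  simp only [ht.dvd_mul] at h
  rcases h with ((((((h | h) | h) | h) | h) | h) | h) | h
  · exact Or.inl ((Nat.prime_dvd_prime_iff_eq ht (by norm_num)).1 (ht.dvd_of_dvd_pow h))
  · have := (Nat.prime_dvd_prime_iff_eq ht (by norm_num)).1 (ht.dvd_of_dvd_pow h); omega
  · have := (Nat.prime_dvd_prime_iff_eq ht (by norm_num)).1 (ht.dvd_of_dvd_pow h); omega
  · have := (Nat.prime_dvd_prime_iff_eq ht (by norm_num)).1 (ht.dvd_of_dvd_pow h); omega
  · have := (Nat.prime_dvd_prime_iff_eq ht (by norm_num)).1 h; omega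
  · have := (Nat.prime_dvd_prime_iff_eq ht (by norm_num)).1 h; omega
  · have := (Nat.prime_dvd_prime_iff_eq ht (by norm_num)).1 h; omega
  · have := (Nat.prime_dvd_prime_iff_eq ht (by norm_num)).1 h; omega

/-- the test of the orders in the other characteristics -/
def tab1 (m : ℕ) : Bool := (reg 78).all fun x =>
  x.2.1 == 2 || !((OL x.1 (x.2.1 ^ x.2.2)) % m == 0 &&
    ((Art.dd x.1 (x.2.1 ^ x.2.2)) * G1) % (OL x.1 (x.2.1 ^ x.2.2)) == 0)

theorem tab1_2263 : tab1 2263 = true := by decide +kernel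

theorem spor_73 : ∀ x ∈ Cfsg.Agent.OrdDiv.spor, x.2 % 73 ≠ 0 := by decide +kernel

/-- **The name.** -/
theorem name_one (tb : OrderTable.{0}) {F : Type} [Field F] [CharP F 2] {S : Type} [Group S] [Finite S]
    [IsSimpleGroup S] (hna : ¬ IsMulCommutative S) (hK : IsKnownSimple' S) (hrep : Fth 78 F S)
    (hm : 2263 ∣ Nat.card S) (hd : Nat.card S ∣ G1) : ∃ g, IsNamed g S ∧ HasChar 2 g := by
  have hna' : ¬ ∀ a b : S, a * b = b * a := fun h => hna ⟨⟨h⟩⟩
  have h73 : 73 ∣ Nat.card S := Dvd.dvd.trans (by norm_num) hm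
  obtain ⟨g, hgS⟩ := exists_named tb hK hna'
  rcases Cfsg.Agent.H192.Singer.cases_name hgS.cond with ⟨k, rfl⟩ | hsp | ⟨l, hl, hch⟩
  · exfalso
    have hk : 5 ≤ k := hgS.cond
    obtain ⟨Φ⟩ : Nonempty (S ≃* alternatingGroup (Fin k)) := hgS.real
    have h2 := Cfsg.Agent.H290.ElRich.le_of_dvd_alt (show Nat.Prime 73 by norm_num) (by omega) Φ h73
    have h1 : 5 ^ 3 ∣ k.factorial :=
      Dvd.dvd.trans (by decide +kernel) (Nat.factorial_dvd_factorial (by omega : 15 ≤ k))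
    exact absurd ((dvd_fact hk Φ h1 (by norm_num)).trans hd) (by decide +kernel)
  · exfalso
    have h1 := Cfsg.Agent.H192.Singer.spor_mem hsp
    have h2 : Nat.card S = ordN g := hgS.ord
    exact spor_73 _ h1 (Nat.mod_eq_zero_of_dvd (h2 ▸ h73))
  · by_cases hpl : 2 = l
    · subst hpl
      exact ⟨g, hgS, hch⟩
    · exfalso
      obtain ⟨X, f₁, h1, h2, -⟩ := exists_lie hl hgS hch
      have hlF : (l : F) ≠ 0 := by
        intro h
        exact hpl ((Nat.prime_dvd_prime_iff_eq Nat.prime_two hl).1 ((CharP.cast_eq_zero_iff F 2 l).1 h))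
      have h3 := lb_le hna' (by norm_num) hrep h1 hgS.real h2 hlF
      obtain ⟨hl', ha, hokX, heq⟩ := h2
      have hreg := mem_reg (by norm_num) hl' ha hokX h3
      have hM : OL X (l ^ f₁) = Art.dd X (l ^ f₁) * Nat.card S := by unfold OL; rw [numL_eq]; exact heq.symm
      have h4 := List.all_eq_true.1 tab1_2263 (X, (l, f₁)) hreg
      simp only [Bool.or_eq_true, beq_iff_eq, Bool.not_eq_true', Bool.and_eq_false_imp, beq_eq_false_iff_ne] at h4
      rcases h4 with h4 | h4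
      · exact hpl h4.symm
      · exact h4 (Nat.mod_eq_zero_of_dvd (hM ▸ hm.mul_left _))
          (Nat.mod_eq_zero_of_dvd (hM ▸ Nat.mul_dvd_mul_left _ hd))

variable {F : Type} [Field F] [Fintype F]

theorem card_e62 (tb : OrderTable.{0}) (hq : Fintype.card F = 2) : Nat.card ↥(Lie.chevE6.group F) = G1 := by
  have hT := named_e6 (F := F) tb
  rw [hq] at hT
  have h : Nat.gcd 3 (2 - 1) * Nat.card ↥(Lie.chevE6.group F) = num (.e6 2) := hT.eq
  have h1 : num (.e6 2) = G1 := by decide +kernel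
  rw [h1] at h
  simpa only [_root_.Nat.add_one_sub_one, _root_.Nat.gcd_one_right, _root_.one_mul] using h

/-- **`E₆(2)`, the primes 73, 31.** -/
theorem K7331 (tb : OrderTable.{0}) (hcyc : CycFixSolv.{0}) (hcf : CF) (hq : Fintype.card F = 2)
    (B : Subgroup ↥(Lie.chevE6.group F)) (h73 : 73 ∣ Nat.card B) (h31 : 31 ∣ Nat.card B) : B = ⊤ := by
  have hfin : Finite ↥(Lie.chevE6.group F) := inferInstance
  have hch2 : CharP F 2 := charP_of_card_eq_prime hq
  have := Fact.mk Nat.prime_two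
  have hT := named_e6 (F := F) tb
  rw [hq] at hT
  have hdB : Nat.card ↥B ∣ G1 := card_e62 tb hq ▸ Subgroup.card_subgroup_dvd_card B
  have hb : Big ↥(Lie.chevE6.group F) 73 73 9 := big_E6_9 hq (by norm_num) prim73
  have hpiso : PIso 2 73 ↥(Lie.chevE6.group F) := piso_E6 (F := F) (by rw [hq]; exact prim73)
  obtain ⟨S, hSn, hSs, hSna, hbS, hrS, hri, hidx⟩ := one_section (n := 78) hcyc Nat.prime_two (F := F) fth_E6
    hb hpiso h73 (fun h => by
      have := h31.trans h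
      norm_num at this) (fun t ht ht2 ht73 htB => by
      left
      refine good_of_big (hb.subgroup B) ht ht73 h73 fun k hk hkB => ?_
      have hkG := hkB.trans hdB
      rcases prime_mem1 ht (htB.trans hdB) with rfl | rfl | rfl | rfl | rfl | rfl | rfl | rfl
      · exact absurd rfl ht2
      · have : k ≤ 6 := pow_bound (M := G1) (by decide +kernel) hkG
        interval_cases k <;> norm_num
      · have : k ≤ 2 := pow_bound (M := G1) (by decide +kernel) hkG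
        interval_cases k <;> norm_num
      · have : k ≤ 3 := pow_bound (M := G1) (by decide +kernel) hkG
        interval_cases k <;> norm_num
      · have : k ≤ 1 := pow_bound (M := G1) (by decide +kernel) hkG
        interval_cases k <;> norm_num
      · have : k ≤ 1 := pow_bound (M := G1) (by decide +kernel) hkG
        interval_cases k <;> norm_num
      · have : k ≤ 1 := pow_bound (M := G1) (by decide +kernel) hkG
        interval_cases k <;> norm_num
      · exact absurd rfl ht73)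
  have hdS : Nat.card S ∣ G1 := (Subgroup.card_subgroup_dvd_card S).trans hdB
  have h31S : 31 ∣ Nat.card S := by
    rw [← S.index_mul_card] at h31
    rcases (Nat.Prime.dvd_mul (by norm_num)).1 h31 with h | h
    · have := h.trans hidx
      norm_num at this
    · exact h
  obtain ⟨g, hg, hch⟩ := name_one tb (F := F) hSna (hcf S)
    ((fth_E6.sub B.subtype B.subtype_injective).sub S.subtype S.subtype_injective)
    (Nat.Coprime.mul_dvd_of_dvd_of_dvd (m := 31) (n := 73) (by norm_num) h31S hrS) hdS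
  have hdT : Nat.card S ∣ num (.e6 2) := hdS.trans (by decide +kernel)
  obtain rfl := charp_e6_59 (p := 2) (f := 1) Nat.prime_two le_rfl hg.cond hch hg.eq hdT
    (fun s hs _ => by rw [eq31 hs]; exact h31S) (fun s hs _ => by rw [eq73 hs]; exact hrS)
  exact eq_top_of_name hT hg

theorem off_two (tb : OrderTable.{0}) (hq : Fintype.card F = 2) {B : Subgroup ↥(Lie.chevE6.group F)} {r : ℕ}
    (hr : r.Prime) (h2 : ¬ r * r ∣ G1) (h : r ∣ Nat.card B) : ¬ r ∣ B.index := fun h1 => h2 (by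
  rw [← card_e62 tb hq, ← B.card_mul_index]
  exact Nat.mul_dvd_mul h h1)

/-- **`E₆(2)`, the primes 13, 17, 31.** -/
theorem K131731 (tb : OrderTable.{0}) (hcyc : CycFixSolv.{0}) (hcf : CF) (hq : Fintype.card F = 2)
    (B : Subgroup ↥(Lie.chevE6.group F)) (h13 : 13 ∣ Nat.card B) (h17 : 17 ∣ Nat.card B) (h31 : 31 ∣ Nat.card B) :
    B = ⊤ := by
  have hp := Nat.prime_two
  have := Fact.mk hp
  have hch2 : CharP F 2 := charP_of_card_eq_prime hq
  have hfin : Finite ↥(Lie.chevE6.group F) := inferInstance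
  have hq' : Fintype.card F = 2 ^ 1 := hq
  have hT := named_e6 (F := F) tb
  rw [hq'] at hT
  have hoff : Off (2 ^ 1) [12, 8] B := by
    intro e he r hr
    have he' : e = 12 ∨ e = 8 := by simpa using he
    rcases he' with rfl | rfl
    · rw [eq13 hr]
      exact off_two tb hq (by norm_num) (by decide +kernel) h13
    · rw [eq17 hr]
      exact off_two tb hq (by norm_num) (by decide +kernel) h17
  have hq2 : 2 ≤ 2 ^ 1 := by norm_num
  have hq1 : 1 ≤ 2 ^ 1 := by norm_num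
  have hdT : Nat.card ↥(Lie.chevE6.group F) ∣ OL .E6 (2 ^ 1) := by
    rw [card_e62 tb hq]
    decide +kernel
  have hmem : ∀ c ∈ [12, 8], c = 12 ∨ c = 8 := by decide
  have hcl : ∀ c ∈ [12, 8], Cls c := by
    intro c hc
    have := hmem c hc
    unfold Cls
    (clear * - this; omega)
  have h7 : ∀ c ∈ [12, 8], 7 ≤ c := by decide
  have hnT : ∀ c ∈ [12, 8], ncl c (2 ^ 1) ∣ Nat.card ↥(Lie.chevE6.group F) := by
    rw [card_e62 tb hq]
    decide +kernel
  have hm12 : ((Ph 12 (2 ^ 1) * ((2 ^ 1) ^ 2 + 2 ^ 1 + 1) : ℕ) : ℤ) =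
      (1 - ((2 ^ 1 : ℕ) : ℤ) ^ 2 + ((2 ^ 1 : ℕ) : ℤ) ^ 4) * (1 + ((2 ^ 1 : ℕ) : ℤ) + ((2 ^ 1 : ℕ) : ℤ) ^ 2) := by
    decide +kernel
  have hm8 : ((Ph 8 (2 ^ 1) * ((2 ^ 1) ^ 2 - 1) : ℕ) : ℤ) =
      (1 + ((2 ^ 1 : ℕ) : ℤ) ^ 4) * (((2 ^ 1 : ℕ) : ℤ) ^ 2 - 1) := by
    decide +kernel
  have hbig : ∀ c ∈ [12, 8], ∀ r, Prim (2 ^ 1) c r → Big ↥(Lie.chevE6.group F) r (M8E (2 ^ 1) c) c := by
    intro c hc r hr
    rcases hmem c hc with rfl | rfl
    · exact big_E6_12 hq' hm12 hr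
    · exact big_E6_8 hq' hm8 hr
  have hM : ∀ c ∈ [12, 8], M8E (2 ^ 1) c ∣ (2 ^ 1) ^ c - 1 := by decide +kernel
  have hpiso : PIso 2 13 ↥(Lie.chevE6.group F) := piso_E6_12 (F := F) (by rw [hq]; exact prim13)
  have ho12 : _root_.Cfsg.Agent.H563.KG.Ord ↥(Lie.chevE6.group F) (2 ^ 1) 12 (Ph 12 (2 ^ 1) * ((2 ^ 1) ^ 2 + 2 ^ 1 + 1)) :=
    fun r hr x hx => (big_E6_12 hq' hm12 hr).card x hx
  have ho8 : Ord ↥(Lie.chevE6.group F) (2 ^ 1) 8 (Ph 8 (2 ^ 1) * ((2 ^ 1) ^ 2 - 1)) :=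
    fun r hr x hx => (big_E6_8 hq' hm8 hr).card x hx
  have hdB : Nat.card ↥B ∣ OL .E6 (2 ^ 1) := (Subgroup.card_subgroup_dvd_card B).trans hdT
  obtain ⟨S, hSn, hSs, hSna, hnS, hidx, hbS, g, hg, hch⟩ := core_kill tb hcyc hcf tbl_E6_8 (fam := [12, 8])
    (fun c hc => hc) (M := M8E (2 ^ 1)) (E := fun c => c)
    (e := 12) (e' := 8) (by decide) (by decide) (dist_12_8 hq2) hcl h7 hp le_rfl (F := F) fth_E6 hdT
    hbig hM
    (fun c hc s hs hd => le_seven' hs (n := c) (by have := hmem c hc; (clear * - this; omega)) hd)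
    (by decide) hnT (c₀ := 12) (by decide) prim13 hpiso hoff (fun t ht htp htn htB => by
      refine good_e6c (by norm_num) hq2 (ho12.sub B) ?_ (ho8.sub B) ?_ hdB ?_ ?_ ht ?_
        (htn 12 (by decide)) (htn 8 (by decide)) htB
      · intro h3 r hr x hx h
        exact (exact_e6_12 hq' h3 hr (x := (x : ↥(Lie.chevE6.group F))) (by rw [Subgroup.orderOf_coe]; exact hx)).2
          (h.trans (card_centralizer_sub B x))
      · intro r hr x hx
        exact ((hbig 8 (by decide) r hr).subgroup B).cyc x hx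
      · exact hoff.ncl_dvd (by decide) c12 hq1 (hnT 12 (by decide))
      · exact hoff.ncl_dvd (by decide) c8 hq1 (hnT 8 (by decide))
      · intro h
        exact htp ((Nat.prime_dvd_prime_iff_eq ht hp).1 (ht.dvd_of_dvd_pow h)))
  have hdS : Nat.card S ∣ num (.e6 (2 ^ 1)) := IsNamed.card_dvd hT S
  rcases charp_e6_812 hp le_rfl hg.cond hch hg.eq hdS (fun s hs _ => (hbS 8 (by decide) s hs).2.2)
    (fun s hs _ => (hbS 12 (by decide) s hs).2.2) with rfl | rfl | rfl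
  · exact eq_top_of_name hT hg
  · exfalso
    rw [← S.index_mul_card] at h31
    rcases (Nat.Prime.dvd_mul (by norm_num)).1 h31 with h | h
    · exact absurd (h.trans (hidx 8 (by decide))) (by decide +kernel)
    · have h1 : Nat.card S ∣ num (.f4 (2 ^ 1)) := Dvd.intro_left _ hg.eq
      exact absurd (h.trans h1) (by decide +kernel)
  · exfalso
    exact kill_psl3_big hp le_rfl hg prim17 fun x hx => (hbS 8 (by decide) 17 prim17).1.card x hx

/-- **`E₆(2)` has no factorisation.** -/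
theorem noFac_e62 (hcf : SM.Ex.Cf) {F : Type} [Field F] [Fintype F] (hq : Fintype.card F = 2) :
    Ex78.NoFac ↥(Lie.chevE6.group F) := by
  have tb := Cfsg.Agent.OrdDiv.table.{0}
  have hfin : Finite ↥(Lie.chevE6.group F) := inferInstance
  have hG := card_e62 tb hq
  have key : ∀ X Y : Subgroup ↥(Lie.chevE6.group F), X ≠ ⊤ → Y ≠ ⊤ → Ex78.Pd X Y → ¬ 73 ∣ Nat.card X := by
    intro X Y hX hY h h73
    have o73 := off_two tb hq (by norm_num) (by decide +kernel) h73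
    have h13 : 13 ∣ Nat.card Y := (h.prime_dvd (by norm_num) (by rw [hG]; decide +kernel)).resolve_left fun h1 =>
      hX (K_E6 tb cycFixSolv hcf X (by
        intro e he r hr
        rw [hq] at hr
        have he' : e = 9 ∨ e = 12 := by simpa using he
        rcases he' with rfl | rfl
        · rwa [eq73 hr]
        · rw [eq13 hr]
          exact off_two tb hq (by norm_num) (by decide +kernel) h1))
    have h17 : 17 ∣ Nat.card Y := (h.prime_dvd (by norm_num) (by rw [hG]; decide +kernel)).resolve_left fun h1 =>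
      hX (K98_E6 tb cycFixSolv hcf X (by
        intro e he r hr
        rw [hq] at hr
        have he' : e = 9 ∨ e = 8 := by simpa using he
        rcases he' with rfl | rfl
        · rwa [eq73 hr]
        · rw [eq17 hr]
          exact off_two tb hq (by norm_num) (by decide +kernel) h1))
    rcases h.prime_dvd (r := 31) (by norm_num) (by rw [hG]; decide +kernel) with h1 | h1
    · exact hX (K7331 tb cycFixSolv hcf hq X h73 h1)
    · exact hY (K131731 tb cycFixSolv hcf hq Y h13 h17 h1)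
  intro X Y hX hY h
  rcases h.prime_dvd (r := 73) (by norm_num) (by rw [hG]; decide +kernel) with h1 | h1
  · exact key X Y hX hY h h1
  · exact key Y X hY hX h.symm h1

end Cfsg.Agent.SM.Ex.E62
end

-- part: SM/Ex/IdA
section
/-!
# S3570, `S = F₄(q)`: sections with big primes (helper93)

* `idx_syl` : the index of a normal subgroup and the normaliser of a Sylow subgroup for a big prime;
* `Sct`, `exists_sct` : the simple section, with the quotient map kept;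
* `Sct.lift` : the section is a normal subgroup if the kernel is trivial;
* `Sct.elem` : an elementary abelian normal subgroup in a nontrivial kernel;
* `bt_of_big` : no `t`-subgroup is normalised by an element of order `r`.
-/

set_option autoImplicit false

namespace Cfsg.Agent.SM.Ex.Id

open Subgroup Cfsg.Agent.H56.Exc Cfsg.Agent.H563.KG

theorem card_subgroupOf_comm {G : Type*} [Group G] (A B : Subgroup G) :
    Nat.card (A.subgroupOf B) = Nat.card (B.subgroupOf A) := by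
  rw [← inf_subgroupOf_right A B, ← inf_subgroupOf_right B A,
    Nat.card_congr (subgroupOfEquivOfLe (inf_le_right : A ⊓ B ≤ B)).toEquiv,
    Nat.card_congr (subgroupOfEquivOfLe (inf_le_right : B ⊓ A ≤ A)).toEquiv, inf_comm]

/-- **The index of a normal subgroup and the Sylow normaliser.** -/
theorem idx_syl {G : Type*} [Group G] [Finite G] {r m e : ℕ} (h : Big G r m e) (S : Subgroup G) [hSn : S.Normal]
    (y : S) (hy : r ∣ orderOf y) :
    ∃ N k, S.index * N ∣ e * m ∧ Nat.card S = N * k ∧ k % r = 1 ∧ orderOf y ∣ N := by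
  have hr := h.prime
  have : Fact r.Prime := ⟨hr⟩
  have hy0 : orderOf y ≠ 0 := (orderOf_pos y).ne'
  set x : S := y ^ (orderOf y / r) with hxdef
  have hx : orderOf x = r := orderOf_pow_orderOf_div hy0 hy
  have hxp : IsPGroup r (zpowers x) := IsPGroup.of_card (n := 1) (by rw [Nat.card_zpowers, hx, pow_one])
  obtain ⟨P₀, hP₀⟩ := hxp.exists_le_sylow
  have hxP₀ : x ∈ (P₀ : Subgroup S) := hP₀ (mem_zpowers x)
  have hxG : orderOf (x : G) = r := by rw [Subgroup.orderOf_coe, hx]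
  have hcyc : IsCyclic ↥((P₀ : Subgroup S).map S.subtype) := h.isCyclic_of_isPGroup (P₀.2.map _)
  have hF := Sylow.normalizer_sup_eq_top P₀
  set N := normalizer (((P₀ : Subgroup S).map S.subtype : Subgroup G) : Set G) with hN
  have hNle : N ≤ normalizer (zpowers (x : G) : Set G) := by
    have hsub : ∀ y ∈ N, y * (x : G) * y⁻¹ ∈ zpowers (x : G) := by
      intro y hy
      have h1 : y * (x : G) * y⁻¹ ∈ (P₀ : Subgroup S).map S.subtype :=
        (mem_normalizer_iff.1 hy (x : G)).1 ⟨x, hxP₀, rfl⟩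
      exact mem_zpowers_of_cyclic hcyc ⟨x, hxP₀, rfl⟩ h1 (by
        rw [show orderOf (y * (x : G) * y⁻¹) = orderOf (x : G) from by
          rw [← MulAut.conj_apply]; exact (MulAut.conj y).orderOf_eq _])
    have hsub' : ∀ y ∈ N, ∀ a ∈ zpowers (x : G), y * a * y⁻¹ ∈ zpowers (x : G) := by
      rintro y hy _ ⟨j, rfl⟩
      show y * (x : G) ^ j * y⁻¹ ∈ _
      rw [← conj_zpow]
      exact zpow_mem (hsub y hy) j
    intro y hy
    rw [mem_normalizer_iff]
    intro a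
    refine ⟨fun ha => hsub' y hy a ha, fun ha => ?_⟩
    have := hsub' y⁻¹ (inv_mem hy) _ ha
    have e1 : y⁻¹ * (y * a * y⁻¹) * y⁻¹⁻¹ = a := by group
    rwa [e1] at this
  have h1 : S.index = S.relIndex N := by
    rw [← relIndex_top_right, ← hF, sup_comm, relIndex_sup_left]
  have h2 : N.subgroupOf S = normalizer ((P₀ : Subgroup S) : Set S) := by
    rw [hN, subgroupOf_normalizer_eq (map_subtype_le _)]
    congr 2
    exact comap_map_eq_self_of_injective S.subtype_injective _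
  refine ⟨Nat.card ↥(normalizer ((P₀ : Subgroup S) : Set S)), (normalizer ((P₀ : Subgroup S) : Set S)).index, ?_,
    (Subgroup.card_mul_index _).symm, ?_, ?_⟩
  · have h3 : S.index * Nat.card ↥(normalizer ((P₀ : Subgroup S) : Set S)) = Nat.card N := by
      rw [h1, ← h2, card_subgroupOf_comm, mul_comm]
      exact Subgroup.card_mul_index _
    rw [h3]
    exact (Subgroup.card_dvd_of_le hNle).trans (h.card_normalizer_dvd hxG)
  · have h3 := card_sylow_modEq_one r S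
    rw [P₀.card_eq_index_normalizer] at h3
    have h4 : 1 % r = 1 := Nat.mod_eq_of_lt hr.one_lt
    exact Eq.trans h3 h4
  · have hbS := h.subgroup S
    have hC := hbS.cyc x hx
    have hPc := hbS.isCyclic_sylow P₀
    have hyC : y ∈ centralizer ({x} : Set S) := by
      rw [mem_centralizer_singleton_iff, hxdef]
      exact (Commute.self_pow y _).eq
    have hPC : (P₀ : Subgroup S) ≤ centralizer ({x} : Set S) := by
      intro a ha
      rw [mem_centralizer_singleton_iff]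
      let _ := IsCyclic.commGroup (α := ↥(P₀ : Subgroup S))
      have h1 : (⟨a, ha⟩ : ↥(P₀ : Subgroup S)) * ⟨x, hxP₀⟩ = ⟨x, hxP₀⟩ * ⟨a, ha⟩ := mul_comm _ _
      exact congrArg Subtype.val h1
    have hyN : y ∈ normalizer ((P₀ : Subgroup S) : Set S) := by
      apply centralizer_le_normalizer
      rw [mem_centralizer_iff]
      intro a ha
      let _ := IsCyclic.commGroup (α := ↥(centralizer ({x} : Set S)))
      have h1 : (⟨a, hPC ha⟩ : ↥(centralizer ({x} : Set S))) * ⟨y, hyC⟩ = ⟨y, hyC⟩ * ⟨a, hPC ha⟩ := mul_comm _ _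
      exact congrArg Subtype.val h1
    exact Subgroup.orderOf_dvd_natCard _ hyN

/-- the automiser is determined by a congruence -/
theorem idx_of_mod {G : Type*} [Group G] [Finite G] {r m e : ℕ} (h : Big G r m e) (S : Subgroup G) [S.Normal]
    (y : S) (hy : orderOf y = m) (hrm : r ∣ m) (he : 0 < e) (her : e < r) {R a : ℕ} (hS : Nat.card S = m * R)
    (hR : R % r = a) : S.index * a ∣ e := by
  obtain ⟨N, k, h1, h2, h3, h4⟩ := idx_syl h S y (by rwa [hy])
  have hm : 0 < m := by rw [← hy]; exact orderOf_pos y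
  rw [hy] at h4
  obtain ⟨j, rfl⟩ := h4
  have h5 : S.index * j ∣ e := by
    apply Nat.dvd_of_mul_dvd_mul_right hm
    calc S.index * j * m = S.index * (m * j) := by ring
      _ ∣ e * m := h1
  have h6 : R = j * k := by
    apply Nat.eq_of_mul_eq_mul_left hm
    rw [← hS, h2, mul_assoc]
  have h7 : j < r := (Nat.le_of_dvd he ((Dvd.intro_left _ rfl).trans h5)).trans_lt her
  have h8 : R % r = j := by
    rw [h6, Nat.mul_mod, h3, mul_one, Nat.mod_mod, Nat.mod_eq_of_lt h7]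
  rwa [← hR, h8]

/-- a simple section with the big primes `B` -/
structure Sct (p : ℕ) (B : ℕ → ℕ → ℕ → Prop) {Z W : Type} [Group Z] [Group W] (π : Z →* W) (S : Subgroup W) : Prop where
  surj : Function.Surjective π
  nor : S.Normal
  sim : IsSimpleGroup S
  na : ¬ IsMulCommutative S
  pk : ¬ p ∣ Nat.card π.ker
  rk : ∀ r m e, B r m e → ¬ r ∣ Nat.card π.ker
  big : ∀ r m e, B r m e → Big W r m e
  dvd : ∀ r m e, B r m e → r ∣ Nat.card S
  core : ∀ K : Subgroup Z, K.Normal → (∀ r m e, B r m e → ¬ r ∣ Nat.card K) → K ≤ π.ker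

theorem exists_sct {Z : Type} [Group Z] [Finite Z] {p : ℕ} {B : ℕ → ℕ → ℕ → Prop} (hp : p.Prime)
    (hbig : ∀ r m e, B r m e → Big Z r m e) (hdvd : ∀ r m e, B r m e → r ∣ Nat.card Z) {r₁ m₁ e₁ : ℕ}
    (hr₁ : B r₁ m₁ e₁) (hbt : BT Z p r₁) (hpm : ∀ r m e, B r m e → ¬ p ∣ m) {k : ℕ} (hk : p ^ k ∣ Nat.card Z)
    (hke : ∀ r m e, B r m e → ¬ p ^ k ∣ e) :
    ∃ (W : Type) (_ : Group W) (_ : Finite W) (π : Z →* W) (S : Subgroup W), Sct p B π S := by
  obtain ⟨O, hO, hO1, hred⟩ := exists_red Z (Pr B) (fun r ⟨m, e, hr⟩ => (hbig r m e hr).prime)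
  have hcop : ∀ n, ¬ p ∣ n → Nat.Coprime (p ^ k) n := fun n hn =>
    Nat.Coprime.pow_left k ((Nat.Prime.coprime_iff_not_dvd hp).2 hn)
  have hpO : ¬ p ∣ Nat.card O :=
    hbt.not_dvd_card hp (hbig _ _ _ hr₁).prime (hdvd _ _ _ hr₁) O (hO1 r₁ ⟨_, _, hr₁⟩)
  have hQ : RFam (Z ⧸ O) B := RFam.of_quotient hbig hdvd O hO1 (by
    intro r m e hr h1
    rw [Subgroup.card_eq_card_quotient_mul_card_subgroup O] at hk
    have h3 := (hcop _ hpO).dvd_of_dvd_mul_right hk
    exact hke r m e hr ((hcop _ (hpm r m e hr)).dvd_of_dvd_mul_right (h3.trans h1)))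
  obtain ⟨S, hSn, hs, hna, hall⟩ := hQ.exists_full cycFixSolv hred hr₁
  have hker : (QuotientGroup.mk' O).ker = O := QuotientGroup.ker_mk' O
  refine ⟨Z ⧸ O, inferInstance, inferInstance, QuotientGroup.mk' O, S, QuotientGroup.mk'_surjective O, hSn, hs, hna,
    by rwa [hker], fun r m e hr => by rw [hker]; exact hO1 r ⟨m, e, hr⟩, hQ.big, fun r m e hr => (hall r m e hr).2.1,
    fun K hK hKr => ?_⟩
  have h1 := hred (K.map (QuotientGroup.mk' O)) (hK.map _ (QuotientGroup.mk'_surjective O)) (by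
    rintro r ⟨m, e, hr⟩ h2
    exact hKr r m e hr (h2.trans (Subgroup.card_map_dvd K _)))
  exact (Subgroup.map_eq_bot_iff K).1 h1

section

variable {p : ℕ} {B : ℕ → ℕ → ℕ → Prop} {Z W : Type} [Group Z] [Group W] {π : Z →* W} {S : Subgroup W}

theorem Sct.card (h : Sct p B π S) : Nat.card Z = Nat.card S * (S.index * Nat.card π.ker) := by
  rw [← mul_assoc, Subgroup.card_mul_index, Subgroup.card_eq_card_quotient_mul_card_subgroup π.ker,
    Nat.card_congr (QuotientGroup.quotientKerEquivOfSurjective π h.surj).toEquiv]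

theorem Sct.card_dvd (h : Sct p B π S) : Nat.card S ∣ Nat.card Z := Dvd.intro _ h.card.symm

theorem Sct.idx [Finite W] (h : Sct p B π S) {r m e : ℕ} (hr : B r m e) : S.index ∣ e * m ∧ ¬ r ∣ S.index := by
  have := h.nor
  exact ⟨(h.big r m e hr).index_dvd S (h.dvd r m e hr),
    (h.big r m e hr).not_dvd_index S h.sim h.na (h.dvd r m e hr)⟩

/-- an element of the section lifts to an element of order a multiple -/
theorem Sct.elt [Finite Z] (h : Sct p B π S) (y : S) {n : ℕ} (hn : n ∣ orderOf y) : ∃ z : Z, orderOf z = n := by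
  obtain ⟨z, hz⟩ := h.surj (y : W)
  have h1 : n ∣ orderOf z := by
    refine hn.trans ?_
    rw [← Subgroup.orderOf_coe, ← hz]
    exact orderOf_map_dvd π z
  exact ⟨z ^ (orderOf z / n), orderOf_pow_orderOf_div (orderOf_pos z).ne' h1⟩

/-- a nontrivial kernel contains an elementary abelian normal subgroup -/
theorem Sct.elem [Finite Z] (h : Sct p B π S) {r m e : ℕ} (hr : B r m e) (hb : Big Z r m e) (hne : π.ker ≠ ⊥) :
    ∃ t : ℕ, t.Prime ∧ t ∣ Nat.card π.ker ∧ ∃ A : Subgroup Z, A.Normal ∧ A ≤ π.ker ∧ A ≠ ⊥ ∧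
      (∀ a ∈ A, ∀ b ∈ A, a * b = b * a) ∧ (∀ a ∈ A, a ^ t = 1) ∧ ∃ k, 0 < k ∧ Nat.card A = t ^ k := by
  have hrp := hb.prime
  have := Fact.mk hrp
  have hsolv : Group.IsSolvable π.ker := by
    obtain ⟨x, hx⟩ := exists_prime_orderOf_dvd_card' r ((h.dvd r m e hr).trans h.card_dvd)
    apply cycFixSolv π.ker (MulAut.conjNormal (H := π.ker) x) r hrp _ (h.rk r m e hr)
    · refine ⟨(Subgroup.centralizer {x}).comap π.ker.subtype, ?_, fun a ha => ?_⟩
      · have := hb.cyc x hx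
        let g : ↥((Subgroup.centralizer {x}).comap π.ker.subtype) →* ↥(Subgroup.centralizer {x}) :=
          (π.ker.subtype.comp ((Subgroup.centralizer {x}).comap π.ker.subtype).subtype).codRestrict _ fun y => y.2
        exact isCyclic_of_injective g fun a b hab => by
          have h3 : ((a : π.ker) : Z) = ((b : π.ker) : Z) :=
            congrArg (fun z : ↥(Subgroup.centralizer {x}) => (z : Z)) hab
          exact Subtype.ext (Subtype.ext h3)
      · rw [Subgroup.mem_comap, Subgroup.mem_centralizer_singleton_iff]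
        have h2 := congrArg Subtype.val ha
        rw [MulAut.conjNormal_apply, mul_inv_eq_iff_eq_mul] at h2
        exact h2.symm
    · rw [← map_pow, ← hx, pow_orderOf_eq_one, map_one]
  obtain ⟨t, ht, A, hAn, hAN, hA0, hAc, hAt⟩ := exists_elem' (S := π.ker) inferInstance hsolv hne
  have hPt : IsPGroup t A := fun a => ⟨1, by rw [pow_one]; exact Subtype.ext (hAt a a.2)⟩
  have := Fact.mk ht
  obtain ⟨k, hk⟩ := IsPGroup.iff_card.1 hPt
  have hk0 : k ≠ 0 := by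
    rintro rfl
    rw [pow_zero, Subgroup.card_eq_one] at hk
    exact hA0 hk
  have htA : t ∣ Nat.card A := by rw [hk]; exact dvd_pow_self t hk0
  exact ⟨t, ht, htA.trans (Subgroup.card_dvd_of_le hAN), A, hAn, hAN, hA0, hAc, hAt, k, Nat.pos_of_ne_zero hk0, hk⟩

end

/-- the section is a normal subgroup if the kernel is trivial -/
theorem Sct.lift {p : ℕ} {B : ℕ → ℕ → ℕ → Prop} {G W : Type} [Group G] [Group W] {Z : Subgroup G} {π : Z →* W}
    {S : Subgroup W} (h : Sct p B π S) (hk : π.ker = ⊥) :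
    ∃ D ≤ Z, Z ≤ normalizer (D : Set G) ∧ Nonempty (D ≃* S) ∧ Nat.card Z = Nat.card D * S.index := by
  have := h.nor
  have hinj : Function.Injective π := (MonoidHom.ker_eq_bot_iff π).1 hk
  let e : Z ≃* W := MulEquiv.ofBijective π ⟨hinj, h.surj⟩
  let D₀ : Subgroup Z := S.map e.symm.toMonoidHom
  have hD₀ : D₀.Normal := h.nor.map _ e.symm.surjective
  have e1 : S ≃* D₀ := e.symm.subgroupMap S
  have e2 : D₀ ≃* D₀.map Z.subtype := D₀.equivMapOfInjective _ Z.subtype_injective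
  refine ⟨D₀.map Z.subtype, map_subtype_le _, ?_, ⟨(e1.trans e2).symm⟩, ?_⟩
  · intro z hz
    rw [mem_normalizer_iff]
    have key : ∀ z ∈ Z, ∀ a ∈ D₀.map Z.subtype, z * a * z⁻¹ ∈ D₀.map Z.subtype := by
      rintro z hz _ ⟨a, ha, rfl⟩
      exact ⟨_, hD₀.conj_mem a ha ⟨z, hz⟩, rfl⟩
    intro a
    refine ⟨fun ha => key z hz a ha, fun ha => ?_⟩
    have := key z⁻¹ (inv_mem hz) _ ha
    have e1 : z⁻¹ * (z * a * z⁻¹) * z⁻¹⁻¹ = a := by group
    rwa [e1] at this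
  · rw [h.card, hk, Subgroup.card_bot, mul_one, Nat.card_congr (e1.trans e2).toEquiv]

/-- no `t`-subgroup is normalised by an element of order `r` -/
theorem bt_of_big {G : Type*} [Group G] [Finite G] {r m e t : ℕ} (h : Big G r m e) (ht : t.Prime) (htm : ¬ t ∣ m)
    (hk : ∀ k, 0 < k → t ^ k ∣ Nat.card G → ¬ r ∣ t ^ k - 1) : BT G t r := by
  intro Q hQ hQ1 hr
  have := Fact.mk h.prime
  have := Fact.mk ht
  obtain ⟨x, hx⟩ := exists_prime_orderOf_dvd_card' r hr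
  obtain ⟨k, hk1⟩ := IsPGroup.iff_card.1 hQ
  have hk0 : k ≠ 0 := by
    rintro rfl
    rw [pow_zero, Subgroup.card_eq_one] at hk1
    exact hQ1 hk1
  have h1 := dvd_card_sub_one (A := Q.subgroupOf (normalizer (Q : Set G))) h.prime hx (by
    intro a ha hc
    by_contra hne
    have h2 : (a : G) ∈ centralizer ({(x : G)} : Set G) := by
      rw [mem_centralizer_singleton_iff]
      exact (congrArg Subtype.val hc).symm
    have h3 := (Subgroup.orderOf_dvd_natCard _ h2).trans (h.card (x : G) (by rw [Subgroup.orderOf_coe, hx]))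
    obtain ⟨j, hj⟩ := IsPGroup.iff_orderOf.1 hQ ⟨(a : G), mem_subgroupOf.1 ha⟩
    rw [Subgroup.orderOf_mk] at hj
    have hj0 : j ≠ 0 := by
      rintro rfl
      rw [pow_zero, orderOf_eq_one_iff] at hj
      exact hne (Subtype.ext hj)
    rw [hj] at h3
    exact htm ((dvd_pow_self t hj0).trans h3))
  rw [Nat.card_congr (subgroupOfEquivOfLe le_normalizer).toEquiv, hk1] at h1
  exact hk k (Nat.pos_of_ne_zero hk0) (hk1 ▸ Subgroup.card_subgroup_dvd_card Q) h1

/-- the fixed points of an element of prime order on a normal subgroup -/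
theorem card_mod {G : Type*} [Group G] [Finite G] (A : Subgroup G) [A.Normal] {x : G} {r : ℕ} (hr : r.Prime)
    (hx : orderOf x = r) : Nat.card A ≡ Nat.card ↥(A ⊓ centralizer ({x} : Set G)) [MOD r] := by
  have := Fact.mk hr
  have hP : IsPGroup r (zpowers x) := IsPGroup.of_card (n := 1) (by rw [Nat.card_zpowers, hx, pow_one])
  let _ : MulAction (zpowers x) A := MulAction.compHom A ((MulAut.conjNormal (H := A)).comp (zpowers x).subtype)
  have h1 := hP.card_modEq_card_fixedPoints A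
  have h2 : Nat.card (MulAction.fixedPoints (zpowers x) A) = Nat.card ↥(A ⊓ centralizer ({x} : Set G)) := by
    refine Nat.card_congr ⟨fun a => ⟨(a.1 : G), a.1.2, ?_⟩, fun a => ⟨⟨a.1, a.2.1⟩, ?_⟩, fun _ => rfl, fun _ => rfl⟩
    · have h3 := congrArg Subtype.val (a.2 ⟨x, mem_zpowers x⟩)
      have h4 : x * (a.1 : G) * x⁻¹ = (a.1 : G) := h3
      rw [mul_inv_eq_iff_eq_mul] at h4
      exact mem_centralizer_singleton_iff.2 h4.symm
    · rintro ⟨_, j, rfl⟩
      apply Subtype.ext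
      have h3 : a.1 * x = x * a.1 := mem_centralizer_singleton_iff.1 a.2.2
      have h4 : Commute (x ^ j) a.1 := (show Commute x a.1 from h3.symm).zpow_left j
      show x ^ j * a.1 * (x ^ j)⁻¹ = a.1
      rw [h4.eq, mul_inv_cancel_right]
  rwa [h2] at h1

end Cfsg.Agent.SM.Ex.Id
end

-- part: SM/Ex/IdN
section
/-!
# S3570, `S = F₄(q)`: the names of the large sections in characteristic `p` (helper93)

The case analysis is that of `H946/RgF4/Typ`, `TypB`, with the names kept.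
-/

set_option autoImplicit false

namespace Cfsg.Agent.SM.Ex.Id

open Cfsg Cfsg.Agent.OrdDiv Cfsg.Agent.H436 Cfsg.Agent.H425.PartP Cfsg.Agent.H425.Chr Cfsg.Agent.H946.Exc
open Cfsg.Agent.H946.RgF4

variable {p f b c cT : ℕ} {g : Grp}

/-- **class 12, without class 8** -/
theorem name12 (H : TS p f b c cT g) (ht : top g * b = 12 * f) (h8 : ¬ Kc g (8 * f / Nat.gcd (8 * f) b)) :
    c.factorization p ≤ 6 * f ∨ g = .psp 2 (p ^ (f * 3)) ∨ g = .g2 (p ^ (f * 2)) ∨ g = .td4 (p ^ f) ∨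
      g = .tf4 (p ^ f) := by
  obtain ⟨hf, hb⟩ := H.pos
  have h2 := H.ex_le ht
  have h3 : ex g ≤ 2 * top g := by omega
  have hu := H.S.hq
  have hfac := H.S.fac
  have hp2 := H.S.hp.two_le
  rcases list_B H.S.cond H.qne h3 with ⟨n, u, hn, rfl⟩ | ⟨m, u, hm, rfl⟩ | ⟨m, u, hm, rfl⟩ | ⟨n, u, hn, rfl⟩ |
    ⟨u, rfl⟩ | ⟨m, u, hm, rfl⟩ | ⟨u, rfl⟩ | ⟨u, rfl⟩ | ⟨u, rfl⟩ | ⟨u, rfl⟩ | ⟨u, rfl⟩ | ⟨u, rfl⟩ | ⟨u, rfl⟩
  · -- PSL
    have h4 : n * b = 12 * f := ht
    have hn2 : 2 ≤ n := H.S.cond.1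
    rcases (show n = 2 ∨ n = 3 ∨ n = 4 ∨ n = 5 by omega) with rfl | rfl | rfl | rfl
    · left
      obtain rfl : b = f * 6 := by omega
      obtain rfl : u = p ^ (f * 6) := hu
      rw [hfac]; change f * 6 * 1 ≤ _; omega
    · exfalso
      exact H.no8 h8 4 1 2 hf (by omega) (by omega) (by decide) (.low (by exact id) (by norm_num) le_rfl)
    · exfalso
      exact H.k1 9 3 1 3 9 hf (by omega) (by omega) (by omega) (by omega) (by decide)
        (Or.inl ⟨by norm_num, by change 3 ≤ 4; norm_num⟩) (by decide) (by omega)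
    · exfalso
      obtain ⟨h, rfl, rfl⟩ : ∃ h, f = 5 * h ∧ b = 12 * h := ⟨b - 2 * f - (f - (b - 2 * f) * 2), by (solve | lia | omega), by (clear * - h4; (solve | lia | omega))⟩
      have hh : 0 < h := by omega
      exact H.k1 48 12 5 4 48 hh rfl rfl (by omega) (by omega) (by decide)
        (Or.inl ⟨by norm_num, by change 4 ≤ 5; norm_num⟩) (by decide) (by omega)
  · -- PSp
    have h4 : 2 * m * b = 12 * f := ht
    have hm2 : 2 ≤ m := H.S.cond.1
    rcases (show m = 2 ∨ m = 3 ∨ m = 4 by omega) with rfl | rfl | rfl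
    · right
      obtain rfl : b = f * 3 := by omega
      obtain rfl : u = p ^ (f * 3) := hu
      exact Or.inl rfl
    · exfalso
      exact H.no8 h8 2 1 4 hf (by omega) (by omega) (by decide)
        (Or.inl ⟨by norm_num, (K_psp (by norm_num)).2 (by norm_num)⟩)
    · exfalso
      obtain ⟨h, rfl, rfl⟩ : ∃ h, f = 2 * h ∧ b = 3 * h := ⟨b - f, by omega, by omega⟩
      have hh : 0 < h := by omega
      exact H.k1 18 3 2 6 9 hh rfl rfl (by omega) (by omega) (by decide)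
        (Or.inl ⟨by norm_num, (K_psp (by norm_num)).2 (by norm_num)⟩) (by decide) (by omega)
  · -- PΩ odd
    exfalso
    have h4 : 2 * m * b = 12 * f := ht
    have hm2 : 3 ≤ m := H.S.cond.1
    rcases (show m = 3 ∨ m = 4 by omega) with rfl | rfl
    · exact H.no8 h8 2 1 4 hf (by omega) (by omega) (by decide)
        (Or.inl ⟨by norm_num, (K_oodd (by norm_num)).2 (by norm_num)⟩)
    · obtain ⟨h, rfl, rfl⟩ : ∃ h, f = 2 * h ∧ b = 3 * h := ⟨b - f, by omega, by (clear * - hb h4; omega)⟩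
      have hh : 0 < h := by omega
      exact H.k1 18 3 2 6 9 hh rfl rfl (by omega) (by omega) (by decide)
        (Or.inl ⟨by norm_num, (K_oodd (by norm_num)).2 (by norm_num)⟩) (by decide) (by omega)
  · -- PSU
    have h4 : 2 * (n - (1 - n % 2)) * b = 12 * f := ht
    have hn2 : 3 ≤ n := H.S.cond.1
    rcases (show n = 3 ∨ n = 4 ∨ n = 5 ∨ n = 6 ∨ n = 7 ∨ n = 8 ∨ n = 9 by omega) with rfl | rfl | rfl | rfl | rfl | rfl |
      rfl
    · left
      replace h4 : 6 * b = 12 * f := h4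
      obtain rfl : b = f * 2 := by omega
      obtain rfl : u = p ^ (f * 2) := hu
      rw [hfac]; change f * 2 * 3 ≤ _; omega
    · exfalso
      replace h4 : 6 * b = 12 * f := h4
      exact H.no8 h8 2 1 4 hf (by omega) (by omega) (by decide)
        (Or.inl ⟨by norm_num, (K_psu (by norm_num)).2 (by norm_num)⟩)
    · exfalso
      replace h4 : 10 * b = 12 * f := h4
      obtain ⟨h, rfl, rfl⟩ : ∃ h, f = 5 * h ∧ b = 6 * h := ⟨b - f, by omega, by omega⟩
      have hh : 0 < h := by omega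
      exact H.k1 24 6 5 4 24 hh rfl rfl (by omega) (by omega) (by decide)
        (Or.inl ⟨by norm_num, (K_psu (by norm_num)).2 (by norm_num)⟩) (by decide) (by omega)
    · exfalso
      replace h4 : 10 * b = 12 * f := h4
      obtain ⟨h, rfl, rfl⟩ : ∃ h, f = 5 * h ∧ b = 6 * h := ⟨b - f, by (clear * - hb h4; omega), by (clear * - hb h4; omega)⟩
      have hh : 0 < h := by omega
      exact H.k1 24 6 5 4 24 hh rfl rfl (by omega) (by omega) (by decide)
        (Or.inl ⟨by norm_num, (K_psu (by norm_num)).2 (by norm_num)⟩) (by decide) (by omega)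
    · exfalso
      replace h4 : 14 * b = 12 * f := h4
      obtain ⟨h, rfl, rfl⟩ : ∃ h, f = 7 * h ∧ b = 6 * h := ⟨f - b, by omega, by omega⟩
      have hh : 0 < h := by omega
      exact H.k1 24 6 7 4 24 hh rfl rfl (by omega) (by omega) (by decide)
        (Or.inl ⟨by norm_num, (K_psu (by norm_num)).2 (by norm_num)⟩) (by decide) (by omega)
    · exfalso
      replace h4 : 14 * b = 12 * f := h4
      obtain ⟨h, rfl, rfl⟩ : ∃ h, f = 7 * h ∧ b = 6 * h := ⟨f - b, by (clear * - hf h4; omega), by (clear * - hf h4; omega)⟩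
      have hh : 0 < h := by omega
      exact H.k1 24 6 7 4 24 hh rfl rfl (by omega) (by omega) (by decide)
        (Or.inl ⟨by norm_num, (K_psu (by norm_num)).2 (by norm_num)⟩) (by decide) (by omega)
    · exfalso
      replace h4 : 18 * b = 12 * f := h4
      obtain ⟨h, rfl, rfl⟩ : ∃ h, f = 3 * h ∧ b = 2 * h := ⟨f - b, by omega, by omega⟩
      have hh : 0 < h := by omega
      exact H.k1 20 2 3 10 20 hh rfl rfl (by omega) (by omega) (by decide)
        (Or.inl ⟨by norm_num, (K_psu (by norm_num)).2 (by norm_num)⟩) (by decide) (by omega)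
  · -- PΩ⁺₈
    exfalso
    have h4 : 2 * (4 - 1) * b = 12 * f := ht
    exact H.no8 h8 2 1 4 hf (by omega) (by omega) (by decide)
      (Or.inl ⟨by norm_num, (K_oplus (by norm_num) (by norm_num)).2 (by norm_num)⟩)
  · -- PΩ⁻
    exfalso
    have h4 : 2 * m * b = 12 * f := ht
    have hm2 : 4 ≤ m := H.S.cond.1
    rcases (show m = 4 ∨ m = 5 by omega) with rfl | rfl
    · obtain ⟨h, rfl, rfl⟩ : ∃ h, f = 2 * h ∧ b = 3 * h := ⟨b - f, by (clear * - hb h4; omega), by (clear * - hb h4; omega)⟩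
      have hh : 0 < h := by omega
      exact H.k1 18 3 2 6 9 hh rfl rfl (by omega) (by omega) (by decide)
        (Or.inl ⟨by norm_num, (K_ominus (by norm_num) (by norm_num)).2 (by norm_num)⟩) (by decide) (by omega)
    · obtain ⟨h, rfl, rfl⟩ : ∃ h, f = 5 * h ∧ b = 6 * h := ⟨b - f, by omega, by omega⟩
      have hh : 0 < h := by omega
      exact H.k1 24 6 5 4 24 hh rfl rfl (by omega) (by omega) (by decide)
        (Or.inl ⟨by norm_num, (K_ominus (by norm_num) (by norm_num)).2 (by norm_num)⟩) (by decide) (by omega)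
  · -- G₂
    right
    have h4 : 6 * b = 12 * f := ht
    obtain rfl : b = f * 2 := by omega
    obtain rfl : u = p ^ (f * 2) := hu
    exact Or.inr (Or.inl rfl)
  · -- F₄
    exfalso
    have h4 : 12 * b = 12 * f := ht
    exact H.no8 h8 1 1 8 hf (by omega) (by omega) (by decide) K8
  · -- ²E₆
    exfalso
    have h4 : 18 * b = 12 * f := ht
    obtain ⟨h, rfl, rfl⟩ : ∃ h, f = 3 * h ∧ b = 2 * h := ⟨f - b, by (clear * - hf h4; omega), by (clear * - hf h4; omega)⟩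
    have hh : 0 < h := by omega
    exact H.k1 20 2 3 10 20 hh rfl rfl (by omega) (by omega) (by decide)
      (Or.inl ⟨by norm_num, Or.inr (Or.inl ⟨dvd_rfl, by decide⟩)⟩) (by decide) (by omega)
  · -- ³D₄
    right
    have h4 : 12 * b = 12 * f := ht
    obtain rfl : b = f := by omega
    obtain rfl : u = p ^ b := hu
    exact Or.inr (Or.inr (Or.inl rfl))
  · -- Sz
    left
    have h4 : 4 * b = 12 * f := ht
    obtain rfl : b = f * 3 := by omega
    obtain rfl : u = p ^ (f * 3) := hu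
    rw [hfac]; change f * 3 * 2 ≤ _; omega
  · -- Ree
    exfalso
    have h4 : 6 * b = 12 * f := ht
    have hp3 := three_of H.S.hp H.S.hf H.S.cond hu
    subst hp3
    obtain rfl : u = 3 ^ b := hu
    have := ree_odd H.S.cond rfl
    omega
  · -- ²F₄
    right
    have h4 : 12 * b = 12 * f := ht
    obtain rfl : b = f := by omega
    obtain rfl : u = p ^ b := hu
    exact Or.inr (Or.inr (Or.inr rfl))

/-- **class 8, without class 12** -/
theorem name8 (H : TS p f b c cT g) (ht : top g * b = 8 * f) :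
    c.factorization p ≤ 8 * f ∨ g = .psl 4 (p ^ (f * 2)) ∨ g = .ominus 4 (p ^ f) ∨ g = .psp 4 (p ^ f) ∨
      g = .oodd 4 (p ^ f) := by
  obtain ⟨hf, hb⟩ := H.pos
  have h2 := H.ex_le ht
  have h3 : ex g ≤ 3 * top g := by omega
  have hu := H.S.hq
  have hfac := H.S.fac
  have hp2 := H.S.hp.two_le
  rcases list_C H.S.cond H.qne h3 with ⟨n, u, hn, rfl⟩ | ⟨m, u, hm, rfl⟩ | ⟨m, u, hm, rfl⟩ | ⟨n, u, rfl⟩ |
    ⟨m, u, hm, rfl⟩ | ⟨m, u, hm, rfl⟩ | ⟨u, rfl⟩ | ⟨u, rfl⟩ | ⟨u, rfl⟩ | ⟨u, rfl⟩ | ⟨u, rfl⟩ | ⟨u, rfl⟩ | ⟨u, rfl⟩ |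
    ⟨u, rfl⟩
  · -- PSL
    have h4 : n * b = 8 * f := ht
    have hn2 : 2 ≤ n := H.S.cond.1
    rcases (show n = 2 ∨ n = 3 ∨ n = 4 ∨ n = 5 ∨ n = 6 ∨ n = 7 by omega) with rfl | rfl | rfl | rfl | rfl | rfl
    · left
      rw [hfac]; change b * 1 ≤ _; omega
    · exfalso
      obtain ⟨h, rfl, rfl⟩ : ∃ h, f = 3 * h ∧ b = 8 * h := ⟨b - 2 * f - (f - (b - 2 * f)), by (clear * - h4; (solve | lia | omega)), by (clear * - h4; (solve | lia | omega))⟩
      have hh : 0 < h := by omega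
      exact H.k1 16 8 3 2 16 hh rfl rfl (by omega) (by omega) (by decide)
        (.low (by exact id) (by norm_num) le_rfl) (by decide) (by omega)
    · right
      obtain rfl : b = f * 2 := by omega
      obtain rfl : u = p ^ (f * 2) := hu
      exact Or.inl rfl
    · exfalso
      obtain ⟨h, rfl, rfl⟩ : ∃ h, f = 5 * h ∧ b = 8 * h := ⟨2 * f - b - (b - f - (2 * f - b)), by (clear * - h4; (solve | lia | omega)), by (clear * - h4; (solve | lia | omega))⟩
      have hh : 0 < h := by omega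
      exact H.k1 32 8 5 4 32 hh rfl rfl (by omega) (by omega) (by decide)
        (Or.inl ⟨by norm_num, by change 4 ≤ 5; norm_num⟩) (by decide) (by omega)
    · exfalso
      obtain ⟨h, rfl, rfl⟩ : ∃ h, f = 3 * h ∧ b = 4 * h := ⟨b - f, by omega, by omega⟩
      have hh : 0 < h := by omega
      exact H.k1 20 4 3 5 20 hh rfl rfl (by omega) (by omega) (by decide)
        (Or.inl ⟨by norm_num, by change 5 ≤ 6; norm_num⟩) (by decide) (by omega)
    · exfalso
      obtain ⟨h, rfl, rfl⟩ : ∃ h, f = 7 * h ∧ b = 8 * h := ⟨b - f, by omega, by omega⟩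
      have hh : 0 < h := by omega
      exact H.k1 48 8 7 6 48 hh rfl rfl (by omega) (by omega) (by decide)
        (Or.inl ⟨by norm_num, by change 6 ≤ 7; norm_num⟩) (by decide) (by omega)
  · -- PSp
    have h4 : 2 * m * b = 8 * f := ht
    have hm2 : 2 ≤ m := H.S.cond.1
    rcases (show m = 2 ∨ m = 3 ∨ m = 4 ∨ m = 5 ∨ m = 6 by omega) with rfl | rfl | rfl | rfl | rfl
    · left
      rw [hfac]; change b * 4 ≤ _; omega
    · exfalso
      obtain ⟨h, rfl, rfl⟩ : ∃ h, f = 3 * h ∧ b = 4 * h := ⟨b - f, by omega, by omega⟩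
      have hh : 0 < h := by omega
      exact H.k1 16 4 3 4 16 hh rfl rfl (by omega) (by omega) (by decide)
        (Or.inl ⟨by norm_num, (K_psp (by norm_num)).2 (by norm_num)⟩) (by decide) (by omega)
    · right
      obtain rfl : b = f := by omega
      obtain rfl : u = p ^ b := hu
      exact Or.inr (Or.inr (Or.inl rfl))
    · exfalso
      obtain ⟨h, rfl, rfl⟩ : ∃ h, f = 5 * h ∧ b = 4 * h := ⟨f - b, by omega, by omega⟩
      have hh : 0 < h := by omega
      exact H.k1 32 4 5 8 32 hh rfl rfl (by omega) (by omega) (by decide)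
        (Or.inl ⟨by norm_num, (K_psp (by norm_num)).2 (by norm_num)⟩) (by decide) (by omega)
    · exfalso
      obtain ⟨h, rfl, rfl⟩ : ∃ h, f = 3 * h ∧ b = 2 * h := ⟨f - b, by omega, by omega⟩
      have hh : 0 < h := by omega
      exact H.k1 20 2 3 10 20 hh rfl rfl (by omega) (by omega) (by decide)
        (Or.inl ⟨by norm_num, (K_psp (by norm_num)).2 (by norm_num)⟩) (by decide) (by omega)
  · -- PΩ odd
    have h4 : 2 * m * b = 8 * f := ht
    have hm2 : 3 ≤ m := H.S.cond.1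
    rcases (show m = 3 ∨ m = 4 ∨ m = 5 ∨ m = 6 by omega) with rfl | rfl | rfl | rfl
    · exfalso
      obtain ⟨h, rfl, rfl⟩ : ∃ h, f = 3 * h ∧ b = 4 * h := ⟨b - f, by (clear * - hb h4; omega), by (clear * - hb h4; omega)⟩
      have hh : 0 < h := by omega
      exact H.k1 16 4 3 4 16 hh rfl rfl (by omega) (by omega) (by decide)
        (Or.inl ⟨by norm_num, (K_oodd (by norm_num)).2 (by norm_num)⟩) (by decide) (by omega)
    · right
      obtain rfl : b = f := by omega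
      obtain rfl : u = p ^ b := hu
      exact Or.inr (Or.inr (Or.inr rfl))
    · exfalso
      obtain ⟨h, rfl, rfl⟩ : ∃ h, f = 5 * h ∧ b = 4 * h := ⟨f - b, by omega, by (clear * - hf h4; omega)⟩
      have hh : 0 < h := by omega
      exact H.k1 32 4 5 8 32 hh rfl rfl (by omega) (by omega) (by decide)
        (Or.inl ⟨by norm_num, (K_oodd (by norm_num)).2 (by norm_num)⟩) (by decide) (by omega)
    · exfalso
      obtain ⟨h, rfl, rfl⟩ : ∃ h, f = 3 * h ∧ b = 2 * h := ⟨f - b, by (clear * - hf h4; omega), by (clear * - hf h4; omega)⟩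
      have hh : 0 < h := by omega
      exact H.k1 20 2 3 10 20 hh rfl rfl (by omega) (by omega) (by decide)
        (Or.inl ⟨by norm_num, (K_oodd (by norm_num)).2 (by norm_num)⟩) (by decide) (by omega)
  · -- PSU
    have h4 : 2 * (n - (1 - n % 2)) * b = 8 * f := ht
    have hn2 : 3 ≤ n := H.S.cond.1
    by_cases hn3 : n = 3
    · subst hn3
      left
      replace h4 : 6 * b = 8 * f := h4
      rw [hfac]; change b * 3 ≤ _; omega
    · exfalso
      set n' := n - (1 - n % 2) with hn'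
      have hodd : n' % 2 = 1 := by (clear * - hn2; omega)
      have h5 : n' * b = 4 * f := by
        apply Nat.eq_of_mul_eq_mul_left (show 0 < 2 by norm_num)
        calc 2 * (n' * b) = 2 * n' * b := by ring
          _ = 8 * f := h4
          _ = _ := by ring
      have hc : Nat.Coprime 4 n' := by
        have h6 : Nat.Coprime 2 n' := by rw [Nat.coprime_two_left, Nat.odd_iff]; exact hodd
        exact Nat.Coprime.mul_left h6 h6
      obtain ⟨h, rfl⟩ := hc.dvd_of_dvd_mul_left (Dvd.intro _ h5.symm)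
      have hh : 0 < h := by omega
      have h6 : f = n' * h := by
        apply Nat.eq_of_mul_eq_mul_left (show 0 < 4 by norm_num)
        rw [← h5]; ring
      have hc16 : Nat.Coprime 16 n' := Nat.Coprime.mul_left hc hc
      exact H.k1 16 4 n' 4 16 hh h6 rfl (by omega) (by omega) (by decide)
        (Or.inl ⟨by norm_num, (K_psu (by norm_num)).2 (by right; left; exact ⟨by norm_num, by omega⟩)⟩)
        (by rw [hc16]) (by omega)
  · -- PΩ⁺
    exfalso
    have h4 : 2 * (m - 1) * b = 8 * f := ht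
    have hm2 : 4 ≤ m := H.S.cond.1
    rcases (show m = 4 ∨ m = 5 ∨ m = 6 by omega) with rfl | rfl | rfl
    · replace h4 : 6 * b = 8 * f := h4
      obtain ⟨h, rfl, rfl⟩ : ∃ h, f = 3 * h ∧ b = 4 * h := ⟨b - f, by (clear * - hb h4; omega), by (clear * - hb h4; omega)⟩
      have hh : 0 < h := by omega
      exact H.k1 16 4 3 4 16 hh rfl rfl (by omega) (by omega) (by decide)
        (Or.inl ⟨by norm_num, (K_oplus (by norm_num) (by norm_num)).2 (by norm_num)⟩) (by decide) (by omega)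
    · replace h4 : 8 * b = 8 * f := h4
      exact H.k1 5 1 1 5 5 hf (by omega) (by omega) (by omega) (by omega) (by decide)
        (Or.inl ⟨by norm_num, (K_oplus (by norm_num) (by norm_num)).2 (by norm_num)⟩) (by decide) (by omega)
    · replace h4 : 10 * b = 8 * f := h4
      obtain ⟨h, rfl, rfl⟩ : ∃ h, f = 5 * h ∧ b = 4 * h := ⟨f - b, by omega, by omega⟩
      have hh : 0 < h := by omega
      exact H.k1 32 4 5 8 32 hh rfl rfl (by omega) (by omega) (by decide)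
        (Or.inl ⟨by norm_num, (K_oplus (by norm_num) (by norm_num)).2 (by norm_num)⟩) (by decide) (by omega)
  · -- PΩ⁻
    have h4 : 2 * m * b = 8 * f := ht
    have hm2 : 4 ≤ m := H.S.cond.1
    rcases (show m = 4 ∨ m = 5 ∨ m = 6 ∨ m = 7 by omega) with rfl | rfl | rfl | rfl
    · right
      obtain rfl : b = f := by omega
      obtain rfl : u = p ^ b := hu
      exact Or.inr (Or.inl rfl)
    · exfalso
      obtain ⟨h, rfl, rfl⟩ : ∃ h, f = 5 * h ∧ b = 4 * h := ⟨f - b, by omega, by (clear * - hf h4; omega)⟩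
      have hh : 0 < h := by omega
      exact H.k1 32 4 5 8 32 hh rfl rfl (by omega) (by omega) (by decide)
        (Or.inl ⟨by norm_num, (K_ominus (by norm_num) (by norm_num)).2 (by norm_num)⟩) (by decide) (by omega)
    · exfalso
      obtain ⟨h, rfl, rfl⟩ : ∃ h, f = 3 * h ∧ b = 2 * h := ⟨f - b, by (clear * - hf h4; omega), by (clear * - hf h4; omega)⟩
      have hh : 0 < h := by omega
      exact H.k1 20 2 3 10 20 hh rfl rfl (by omega) (by omega) (by decide)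
        (Or.inl ⟨by norm_num, (K_ominus (by norm_num) (by norm_num)).2 (by norm_num)⟩) (by decide) (by omega)
    · exfalso
      obtain ⟨h, rfl, rfl⟩ : ∃ h, f = 7 * h ∧ b = 4 * h := ⟨2 * b - f, by omega, by omega⟩
      have hh : 0 < h := by omega
      exact H.k1 48 4 7 12 48 hh rfl rfl (by omega) (by omega) (by decide)
        (Or.inl ⟨by norm_num, (K_ominus (by norm_num) (by norm_num)).2 (by norm_num)⟩) (by decide) (by omega)
  · -- G₂
    left
    have h4 : 6 * b = 8 * f := ht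
    rw [hfac]; change b * 6 ≤ _; omega
  · -- F₄
    exfalso
    have h4 : 12 * b = 8 * f := ht
    obtain ⟨h, rfl, rfl⟩ : ∃ h, f = 3 * h ∧ b = 2 * h := ⟨f - b, by omega, by omega⟩
    have hh : 0 < h := by omega
    exact H.k1 16 2 3 8 16 hh rfl rfl (by omega) (by omega) (by decide) K8 (by decide) (by omega)
  · -- E₆
    exfalso
    have h4 : 12 * b = 8 * f := ht
    obtain ⟨h, rfl, rfl⟩ : ∃ h, f = 3 * h ∧ b = 2 * h := ⟨f - b, by (clear * - hf h4; omega), by (clear * - hf h4; omega)⟩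
    have hh : 0 < h := by omega
    exact H.k1 10 2 3 5 10 hh rfl rfl (by omega) (by omega) (by decide)
      (Or.inl ⟨by norm_num, Or.inr (Or.inl dvd_rfl)⟩) (by decide) (by omega)
  · -- ²E₆
    exfalso
    have h4 : 18 * b = 8 * f := ht
    obtain ⟨h, rfl, rfl⟩ : ∃ h, f = 9 * h ∧ b = 4 * h := ⟨f - 2 * b, by omega, by omega⟩
    have hh : 0 < h := by omega
    exact H.k1 32 4 9 8 32 hh rfl rfl (by omega) (by omega) (by decide)
      (Or.inl ⟨by norm_num, Or.inr (Or.inr (Or.inr (Or.inl dvd_rfl)))⟩) (by decide) (by omega)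
  · -- ³D₄
    left
    have h4 : 12 * b = 8 * f := ht
    rw [hfac]; change b * 12 ≤ _; omega
  · -- Sz
    left
    have h4 : 4 * b = 8 * f := ht
    rw [hfac]; change b * 2 ≤ _; omega
  · -- Ree
    left
    have h4 : 6 * b = 8 * f := ht
    rw [hfac]; change b * 3 ≤ _; omega
  · -- ²F₄
    left
    have h4 : 12 * b = 8 * f := ht
    rw [hfac]; change b * 12 ≤ _; omega

end Cfsg.Agent.SM.Ex.Id
end

-- part: SM/Ex/IdC
section
/-!
# S3570, `S = F₄(q)`: the simple groups of order dividing `|F₄(q)|`, `q ≤ 4` (helper93)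

* `cross3`, `cross4` : large sections with a prime of class 12 or 8 have characteristic `p`;
* `two12`, `two8` : the sections for `q = 2`.
-/

set_option autoImplicit false

namespace Cfsg.Agent.SM.Ex.Id

open Cfsg Cfsg.Agent.OrdDiv Cfsg.Agent.H436 Cfsg.Agent.H915.GN Cfsg.Agent.H563.KG

def l2 : List (ℕ × ℕ) := [(2, 24), (3, 6), (5, 2), (7, 2), (13, 1), (17, 1)]

def l3 : List (ℕ × ℕ) := [(2, 15), (3, 24), (5, 2), (7, 2), (13, 2), (41, 1), (73, 1)]

def l4 : List (ℕ × ℕ) := [(2, 48), (3, 6), (5, 4), (7, 2), (13, 2), (17, 2), (241, 1), (257, 1)]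

def L3 : List Grp := [.psl 4 9, .psl 3 81, .psp 4 3, .psp 2 9, .psp 2 27, .oodd 4 3, .ominus 4 3, .g2 9, .f4 3, .td4 3]

def L4 : List Grp := [.psl 4 16, .psl 3 256, .psl 2 4096, .psp 4 4, .psp 2 16, .psp 2 64, .psu 3 16, .ominus 4 4, .g2 16,
  .f4 4, .td4 4]

theorem v2 : valid l2 (num (.f4 2)) = true := by decide +kernel

theorem v3 : valid l3 (num (.f4 3)) = true := by decide +kernel

theorem v4 : valid l4 (num (.f4 4)) = true := by decide +kernel

theorem c3 : ∀ g ∈ cands l3 (num (.f4 3)), 3 ^ 7 ∣ ordN g → (73 ∣ ordN g ∨ 41 ∣ ordN g) → g ∈ L3 := by decide +kernel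

theorem c4 : ∀ g ∈ cands l4 (num (.f4 4)), 2 ^ 11 ∣ ordN g → (241 ∣ ordN g ∨ 257 ∣ ordN g) → g ∈ L4 := by
  decide +kernel

theorem e3 : ∀ g ∈ L3, den g * ordN g = num g := by decide +kernel

theorem e4 : ∀ g ∈ L4, den g * ordN g = num g := by decide +kernel

theorem pp {p : ℕ} (hp : p.Prime) (k : ℕ) {q : ℕ} (hk : k ≠ 0) (h : q = p ^ k) : IsPrimePow q :=
  h ▸ hp.isPrimePow.pow hk

theorem d3 : ∀ g ∈ L3, Cond g ∧ HasChar 3 g := by
  have p1 : IsPrimePow 3 := pp Nat.prime_three 1 (by norm_num) (by norm_num)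
  have p2 : IsPrimePow 9 := pp Nat.prime_three 2 (by norm_num) (by norm_num)
  have p3 : IsPrimePow 27 := pp Nat.prime_three 3 (by norm_num) (by norm_num)
  have p4 : IsPrimePow 81 := pp Nat.prime_three 4 (by norm_num) (by norm_num)
  intro g hg
  simp only [L3, List.mem_cons, List.not_mem_nil, or_false] at hg
  rcases hg with rfl | rfl | rfl | rfl | rfl | rfl | rfl | rfl | rfl | rfl
  · exact ⟨⟨by norm_num, by norm_num, p2⟩, 2, by norm_num⟩
  · exact ⟨⟨by norm_num, by norm_num, p4⟩, 4, by norm_num⟩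
  · exact ⟨⟨by norm_num, by norm_num, p1⟩, 1, by norm_num⟩
  · exact ⟨⟨by norm_num, by norm_num, p2⟩, 2, by norm_num⟩
  · exact ⟨⟨by norm_num, by norm_num, p3⟩, 3, by norm_num⟩
  · exact ⟨⟨by norm_num, by decide, p1⟩, 1, by norm_num⟩
  · exact ⟨⟨by norm_num, p1⟩, 1, by norm_num⟩
  · exact ⟨⟨by norm_num, p2⟩, 2, by norm_num⟩
  · exact ⟨p1, 1, by norm_num⟩
  · exact ⟨p1, 1, by norm_num⟩

theorem d4 : ∀ g ∈ L4, Cond g ∧ HasChar 2 g := by
  have p2 : IsPrimePow 4 := pp Nat.prime_two 2 (by norm_num) (by norm_num)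
  have p4 : IsPrimePow 16 := pp Nat.prime_two 4 (by norm_num) (by norm_num)
  have p6 : IsPrimePow 64 := pp Nat.prime_two 6 (by norm_num) (by norm_num)
  have p8 : IsPrimePow 256 := pp Nat.prime_two 8 (by norm_num) (by norm_num)
  have p12 : IsPrimePow 4096 := pp Nat.prime_two 12 (by norm_num) (by norm_num)
  intro g hg
  simp only [L4, List.mem_cons, List.not_mem_nil, or_false] at hg
  rcases hg with rfl | rfl | rfl | rfl | rfl | rfl | rfl | rfl | rfl | rfl | rfl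
  · exact ⟨⟨by norm_num, by norm_num, p4⟩, 4, by norm_num⟩
  · exact ⟨⟨by norm_num, by norm_num, p8⟩, 8, by norm_num⟩
  · exact ⟨⟨by norm_num, by norm_num, p12⟩, 12, by norm_num⟩
  · exact ⟨⟨by norm_num, by norm_num, p2⟩, 2, by norm_num⟩
  · exact ⟨⟨by norm_num, by norm_num, p4⟩, 4, by norm_num⟩
  · exact ⟨⟨by norm_num, by norm_num, p6⟩, 6, by norm_num⟩
  · exact ⟨⟨by norm_num, by norm_num, p4⟩, 4, by norm_num⟩
  · exact ⟨⟨by norm_num, p2⟩, 2, by norm_num⟩
  · exact ⟨⟨by norm_num, p4⟩, 4, by norm_num⟩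
  · exact ⟨p2, 2, by norm_num⟩
  · exact ⟨p2, 2, by norm_num⟩

section

variable {S : Type} [Group S] [Finite S]

theorem good_of (hcf : CF) (hs : IsSimpleGroup S) (hna : ¬ IsMulCommutative S) {l : List (ℕ × ℕ)} {N : ℕ}
    (hv : valid l N = true) (hd : Nat.card S ∣ N) : ∃ g ∈ cands l N, Real g S ∧ Nat.card S = ordN g :=
  exists_good table (hcf S) (fun h => hna ⟨⟨h⟩⟩) hv hd

theorem cross3 (hcf : CF) (hs : IsSimpleGroup S) (hna : ¬ IsMulCommutative S) (hd : Nat.card S ∣ num (.f4 3))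
    (h1 : 3 ^ 7 ∣ Nat.card S) (h2 : 73 ∣ Nat.card S ∨ 41 ∣ Nat.card S) : ∃ g, IsNamed g S ∧ HasChar 3 g := by
  obtain ⟨g, hg, hr, ho⟩ := good_of hcf hs hna v3 hd
  rw [ho] at h1 h2
  have h3 := c3 g hg h1 h2
  exact ⟨g, .mk' hr (d3 g h3).1 (by rw [ho]; exact e3 g h3), (d3 g h3).2⟩

theorem cross4 (hcf : CF) (hs : IsSimpleGroup S) (hna : ¬ IsMulCommutative S) (hd : Nat.card S ∣ num (.f4 4))
    (h1 : 2 ^ 11 ∣ Nat.card S) (h2 : 241 ∣ Nat.card S ∨ 257 ∣ Nat.card S) : ∃ g, IsNamed g S ∧ HasChar 2 g := by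
  obtain ⟨g, hg, hr, ho⟩ := good_of hcf hs hna v4 hd
  rw [ho] at h1 h2
  have h3 := c4 g hg h1 h2
  exact ⟨g, .mk' hr (d4 g h3).1 (by rw [ho]; exact e4 g h3), (d4 g h3).2⟩

end

/-- the Sylow condition: `n` is the index, `r j` the order of the normaliser -/
def Syl (r e c n : ℕ) : Prop := ∃ j ∈ List.range (e + 1), n * j ∣ e ∧ r * j ∣ c ∧ c / (r * j) % r = 1

instance decSyl (r e c n : ℕ) : Decidable (Syl r e c n) := by unfold Syl; infer_instance

/-- class 8, `q = 2` : the bounds -/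
theorem c28 : ∀ g ∈ cands l2 (num (.f4 2)), 17 ∣ ordN g → ¬ 13 ∣ ordN g → ∀ n ∈ List.range 9, Syl 17 8 (ordN g) n →
    ¬ 2 ^ 17 ∣ ordN g * n ∧ ¬ 49 ∣ ordN g * n ∧ (2 ^ 12 ∣ ordN g * n → 25 ∣ ordN g * n → g = .psp 4 2 ∧ n = 1) := by
  decide +kernel

/-- class 12, `q = 2` -/
theorem c212 : ∀ g ∈ cands l2 (num (.f4 2)), 13 ∣ ordN g → ¬ 17 ∣ ordN g → ∀ n ∈ List.range 13,
    Syl 13 12 (ordN g) n → ¬ 2 ^ 14 ∣ ordN g * n ∧
      (2 ^ 8 ∣ ordN g * n → 7 ∣ ordN g * n → g = .g2 4 ∨ (g = .td4 2 ∧ (n = 1 ∨ n = 3))) := by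
  decide +kernel

end Cfsg.Agent.SM.Ex.Id
end

-- part: SM/Ex/IdB
section
/-!
# S3570, `S = F₄(q)`: the names of the sections of the factors, `q ≥ 3` (helper93)

* `sct_F` : the section of a subgroup containing a prime of class 12 or 8;
* `nameX` : class 12 and a large `p`-part: `³D₄(q)` or `²F₄(q)`;
* `nameY` : class 8: a small `p`-part, or `Ω₈⁻(q)`, `PSp₈(q)`, `Ω₉(q)`.
-/

set_option autoImplicit false

namespace Cfsg.Agent.SM.Ex.Id

open Cfsg Cfsg.Lie Cfsg.Agent.OrdDiv Cfsg.Agent.H436 Cfsg.Agent.H915.GN Cfsg.Agent.H264.FKS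
open Cfsg.Agent.H902 Cfsg.Agent.H56.Exc Cfsg.Agent.H563.KG Cfsg.Agent.H946.Exc Cfsg.Agent.H325.Loc
open Cfsg.Agent.H425.PartP Cfsg.Agent.H425.Chr Cfsg.Agent.H946.KZ Cfsg.Agent.H946.RgF4

/-- the primes of the classes 12 and 8 dividing `n` -/
def Bf (q n r m e : ℕ) : Prop := (e = 12 ∨ e = 8) ∧ Prim q e r ∧ r ∣ n ∧ m = Ph e q

theorem cls_of {c : ℕ} (hc : c = 12 ∨ c = 8) : Cls c := by
  unfold Cls
  omega

variable {p f : ℕ}

theorem two_le (hp : p.Prime) (hf : 1 ≤ f) : 2 ≤ p ^ f := hp.two_le.trans (Nat.le_self_pow (by omega) p)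

theorem not_dvd_Ph (hp : p.Prime) (hf : 1 ≤ f) {c : ℕ} (hc : c = 12 ∨ c = 8) : ¬ p ∣ Ph c (p ^ f) := by
  have hq1 : 1 ≤ p ^ f := Nat.one_le_pow _ _ hp.pos
  intro h
  have h1 := h.trans (Ph_dvd (cls_of hc) hq1)
  have h2 : p ∣ (p ^ f) ^ c := by
    rw [← pow_mul]
    exact dvd_pow_self p (by
      have : 0 < f * c := Nat.mul_pos hf (by omega)
      omega)
  have h3 : 1 ≤ (p ^ f) ^ c := Nat.one_le_pow _ _ hq1
  have h4 := Nat.dvd_sub h2 h1
  rw [Nat.sub_sub_self h3] at h4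
  exact hp.one_lt.ne' (Nat.dvd_one.1 h4)

/-- a prime of class `e`, `3 ≤ e ≤ 6`, does not divide `c * Ph c q` -/
theorem not_dvd_cPh {q c e u : ℕ} (hq : 2 ≤ q) (hc : c = 12 ∨ c = 8) (he : 3 ≤ e) (he6 : e ≤ 6) (hu : Prim q e u) :
    ¬ u ∣ c * Ph c q := by
  have h5 : e < u := H563.KG.lt_of_prim hq (by omega) hu
  have h1 : ¬ u ∣ 24 := by
    intro h
    have h2 : u ∣ 2 ^ 3 * 3 := h
    rcases hu.prime.dvd_mul.1 h2 with h3 | h3
    · have := Nat.le_of_dvd (by norm_num) (hu.prime.dvd_of_dvd_pow h3)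
      omega
    · have := Nat.le_of_dvd (by norm_num) h3
      omega
  intro h
  rcases hu.prime.dvd_mul.1 h with h2 | h2
  · exact h1 (h2.trans (by rcases hc with rfl | rfl <;> norm_num))
  · rw [← ncl_mul c q] at h2
    rcases hu.prime.dvd_mul.1 h2 with h3 | h3
    · have := hu.unique (prim_of_dvd (cls_of hc) (by omega) hu.prime h3)
      omega
    · exact h1 ((h3.trans (Nat.gcd_dvd_left _ _)).trans (by rcases hc with rfl | rfl <;> decide))

theorem not_dvd_Ph' {q c e u : ℕ} (hq : 2 ≤ q) (hc : c = 12 ∨ c = 8) (he : 3 ≤ e) (he6 : e ≤ 6) (hu : Prim q e u) :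
    ¬ u ∣ Ph c q := fun h => not_dvd_cPh hq hc he he6 hu (h.mul_left _)

section

variable {F : Type} [Field F] [Fintype F] [CharP F p]

theorem sct_F (hp : p.Prime) (hf : 1 ≤ f) (hq : Fintype.card F = p ^ f) (Z : Subgroup ↥(chevF4.group F)) {c r : ℕ}
    (hc : c = 12 ∨ c = 8) (hr : Prim (p ^ f) c r) (hrZ : r ∣ Nat.card Z) :
    (Nat.card Z).factorization p ≤ 3 ∨ ∃ (W : Type) (_ : Group W) (_ : Finite W) (π : Z →* W) (S : Subgroup W),
      Sct p (Bf (p ^ f) (Nat.card Z)) π S := by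
  have := Fact.mk hp
  have hfin : Finite ↥(chevF4.group F) := inferInstance
  by_cases h4 : p ^ 4 ∣ Nat.card Z
  · right
    have hpiso : PIso p r ↥(chevF4.group F) :=
      Cfsg.Agent.H325.IsoExc.piso_F4 (F := F) (d := c) (by omega) (by rw [hq]; exact hr)
    refine exists_sct hp ?_ ?_ (r₁ := r) (m₁ := Ph c (p ^ f)) (e₁ := c) ⟨hc, hr, hrZ, rfl⟩
      (BT.subgroup hpiso Z) ?_ h4 ?_
    · rintro r m e ⟨he, hr, -, rfl⟩
      exact (bigF4 hq he hr).subgroup Z
    · rintro r m e ⟨-, -, h, -⟩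
      exact h
    · rintro r m e ⟨he, -, -, rfl⟩
      exact not_dvd_Ph hp hf he
    · rintro r m e ⟨he, -, -, -⟩ h
      have h1 := Nat.le_of_dvd (by omega) h
      have h2 : 2 ^ 4 ≤ p ^ 4 := Nat.pow_le_pow_left hp.two_le 4
      omega
  · exact Or.inl (fac_le h4)

variable {Z : Subgroup ↥(chevF4.group F)} {W : Type} [Group W] [Finite W] {π : Z →* W} {S : Subgroup W}

omit [CharP F p] in
theorem Sct.fac (h : Sct p (Bf (p ^ f) (Nat.card Z)) π S) (hp : p.Prime) :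
    (Nat.card Z).factorization p = (Nat.card S).factorization p + S.index.factorization p := by
  have hfin : Finite ↥(chevF4.group F) := inferInstance
  have h1 : Nat.card S ≠ 0 := Nat.card_pos.ne'
  have h2 : S.index ≠ 0 := Subgroup.index_ne_zero_of_finite
  have h3 : Nat.card π.ker ≠ 0 := Nat.card_pos.ne'
  rw [h.card, fac_mul h1 (mul_ne_zero h2 h3), fac_mul h2 h3, Nat.factorization_eq_zero_of_not_dvd h.pk, add_zero]

omit [CharP F p] in
theorem Sct.fac_idx (h : Sct p (Bf (p ^ f) (Nat.card Z)) π S) (hp : p.Prime) (hf : 1 ≤ f) {c r : ℕ}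
    (hc : c = 12 ∨ c = 8) (hr : Prim (p ^ f) c r) (hrZ : r ∣ Nat.card Z) : S.index.factorization p ≤ sc p c := by
  have h1 := (h.idx (r := r) ⟨hc, hr, hrZ, rfl⟩).1
  refine le_sc hp hc ?_
  exact (Nat.Coprime.pow_left _ ((Nat.Prime.coprime_iff_not_dvd hp).2 (not_dvd_Ph hp hf hc))).dvd_of_dvd_mul_right
    ((Nat.ordProj_dvd _ p).trans h1)

omit [CharP F p] [Finite W] in
theorem Sct.dvd_num (h : Sct p (Bf (p ^ f) (Nat.card Z)) π S) (hq : Fintype.card F = p ^ f) :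
    Nat.card S ∣ num (.f4 (p ^ f)) := by
  have hT := named_f4 (F := F) table
  rw [hq] at hT
  exact (h.card_dvd.trans (Subgroup.card_subgroup_dvd_card Z)).trans (by rw [← hT.eq]; exact Dvd.intro_left _ rfl)

/-- a small `p`-part, or characteristic `p` -/
theorem Sct.named (h : Sct p (Bf (p ^ f) (Nat.card Z)) π S) (hcf : CF) (hp : p.Prime) (hf : 1 ≤ f)
    (hq : Fintype.card F = p ^ f) (h3 : 3 ≤ p ^ f) {c r : ℕ} (hc : c = 12 ∨ c = 8) (hr : Prim p (c * f) r)
    (hrZ : r ∣ Nat.card Z) :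
    (Nat.card S).factorization p + sl p < 8 * f ∨ ∃ g b, IsNamed g S ∧ HasChar p g ∧
      TS p f b (Nat.card S) (Nat.card ↥(chevF4.group F)) g := by
  have hrq := prim_base hf hr
  have hB : Bf (p ^ f) (Nat.card Z) r (Ph c (p ^ f)) c := ⟨hc, hrq, hrZ, rfl⟩
  have hrS := h.dvd _ _ _ hB
  have hd := h.dvd_num hq
  have key : (Nat.card S).factorization p + sl p < 8 * f ∨ ∃ g, IsNamed g S ∧ HasChar p g := by
    have hn := dvd_ncl (cls_of hc) (by omega) hrq
    by_cases h5 : 5 ≤ p ^ f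
    · have := h.sim
      obtain ⟨g, hg⟩ := exists_named table (hcf S) fun h1 => h.na ⟨⟨h1⟩⟩
      have hcf1 : 8 ≤ c * f := by
        calc 8 = 8 * 1 := by norm_num
          _ ≤ c * f := Nat.mul_le_mul (by omega) hf
      rcases cross_small (ν := 0) hg hp hf h5 (by rw [pow_zero]; exact one_dvd _) hd hc (mod_pred hp (by omega) hr)
        (by have := base_lt hp (by omega) hr; omega) ((h.big _ _ _ hB).subgroup S) hrS with h1 | h1
      · exact Or.inr ⟨g, hg, h1⟩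
      · exact Or.inl (by omega)
    · rcases (show p ^ f = 3 ∨ p ^ f = 4 by omega) with h6 | h6
      · obtain ⟨rfl, rfl⟩ := (Nat.Prime.pow_eq_iff Nat.prime_three).1 h6
        rw [h6] at hn hd
        by_cases h7 : 3 ^ 7 ∣ Nat.card S
        · refine Or.inr (cross3 hcf h.sim h.na hd h7 ?_)
          rcases hc with rfl | rfl
          · left
            rwa [(Nat.prime_dvd_prime_iff_eq hr.prime (by norm_num)).1 (show r ∣ 73 from hn)] at hrS
          · right
            rwa [(Nat.prime_dvd_prime_iff_eq hr.prime (by norm_num)).1 (show r ∣ 41 from hn)] at hrS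
        · left
          have := fac_le h7
          show _ + 1 < _
          omega
      · obtain rfl : p = 2 := (Nat.prime_dvd_prime_iff_eq hp Nat.prime_two).1
          (hp.dvd_of_dvd_pow (n := 2) (show p ∣ 4 by rw [← h6]; exact dvd_pow_self p (by omega)))
        obtain rfl : f = 2 := Nat.pow_right_injective le_rfl (show 2 ^ f = 2 ^ 2 from h6)
        rw [h6] at hn hd
        by_cases h7 : 2 ^ 11 ∣ Nat.card S
        · refine Or.inr (cross4 hcf h.sim h.na hd h7 ?_)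
          rcases hc with rfl | rfl
          · left
            rwa [(Nat.prime_dvd_prime_iff_eq hr.prime (by norm_num)).1 (show r ∣ 241 from hn)] at hrS
          · right
            rwa [(Nat.prime_dvd_prime_iff_eq hr.prime (by norm_num)).1 (show r ∣ 257 from hn)] at hrS
        · left
          have := fac_le h7
          show _ + 5 < _
          omega
  rcases key with h1 | ⟨g, hg, hch⟩
  · exact Or.inl h1
  · obtain ⟨b, hb⟩ := ts_of (F := F) table hp hf hq Z hg hch h.card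
    exact Or.inr ⟨g, b, hg, hch, hb⟩

omit [CharP F p] in
/-- a section in characteristic `p` does not have both classes -/
theorem Sct.not_both (h : Sct p (Bf (p ^ f) (Nat.card Z)) π S) (hp : p.Prime) (hf : 1 ≤ f)
    (hq : Fintype.card F = p ^ f) (hZ : Z ≠ ⊤) {g : Grp} {b : ℕ} (hg : IsNamed g S) (hch : HasChar p g)
    (H : TS p f b (Nat.card S) (Nat.card ↥(chevF4.group F)) g) {r s : ℕ} (hr : Prim p (12 * f) r)
    (hrS : r ∣ Nat.card S) (hs : Prim p (8 * f) s) (hsS : s ∣ Nat.card S) : False := by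
  have hfin : Finite ↥(chevF4.group F) := inferInstance
  have hq2 := two_le hp hf
  rcases charp_f4z hp hf hg.cond hch hg.eq (h.dvd_num hq)
    (fun w hw => H.all (by omega) hs hsS (by rwa [mul_comm]))
    (fun w hw => H.all (by omega) hr hrS (by rwa [mul_comm])) with rfl | rfl
  · have hT := named_f4 (F := F) table
    rw [hq] at hT
    have h2 := h.card_dvd
    rw [hg.ord, ← hT.ord] at h2
    exact hZ (Subgroup.eq_top_of_card_eq _ (Nat.dvd_antisymm (Subgroup.card_subgroup_dvd_card Z) h2))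
  · have hrq := prim_base hf hr
    obtain ⟨u, hu⟩ := exists_prim (q := p ^ f) (e := 3) hq2 le_rfl (by omega)
    exact not_dvd_Ph' hq2 (Or.inl rfl) le_rfl (by norm_num) hu
      (H290.Wei.kill_psl hrq hu (by norm_num) ((h.big _ _ _ ⟨Or.inl rfl, hrq, hrS.trans h.card_dvd, rfl⟩).subgroup S) hg
        (j := 12) (by ring) dvd_rfl (by norm_num) (a := 1) (b := 4) (by ring) (by norm_num) (by norm_num))

omit [CharP F p] [Finite W] in
/-- `G₂(q²)` is not a section of `F₄(q)`, `q ≥ 3` -/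
theorem Sct.not_g2 {B : ℕ → ℕ → ℕ → Prop} (h : Sct p B π S) (hq : Fintype.card F = p ^ f) (h3 : 3 ≤ p ^ f)
    (hg : Real (.g2 (p ^ (f * 2))) S) : False := by
  have hfin : Finite ↥(chevF4.group F) := inferInstance
  obtain ⟨K, _, _, hK, ⟨e⟩⟩ := hg
  rw [pow_mul] at hK
  generalize p ^ f = q at *
  obtain ⟨x, hx⟩ := H437.Iso.g2_order3 (F := K)
  rw [Nat.card_eq_fintype_card, hK] at hx
  obtain ⟨u, hu⟩ := exists_prim (q := q) (e := 3) (by omega) le_rfl (by omega)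
  obtain ⟨w, hw⟩ := exists_prim (q := q) (e := 6) (by omega) (by norm_num) (by omega)
  have h1 : q ^ 6 - 1 = (q ^ 2 - 1) * ((q ^ 2) ^ 2 + q ^ 2 + 1) := by
    have h2 : 1 ≤ q ^ 2 := Nat.one_le_pow _ _ (by omega)
    obtain ⟨k, hk⟩ := Nat.exists_eq_add_of_le' h2
    have h4 : q ^ 6 = (q ^ 2) ^ 3 := by ring
    rw [h4, hk, Nat.add_sub_cancel]
    apply Nat.sub_eq_of_eq_add
    ring
  have h2 : ∀ {e v : ℕ}, Prim q e v → e ∣ 6 → ¬ e ∣ 2 → v ∣ (q ^ 2) ^ 2 + q ^ 2 + 1 := fun hv h6 h2 =>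
    (hv.prime.dvd_mul.1 (h1 ▸ hv.dvd h6)).resolve_left (hv.not_dvd_sub h2)
  obtain ⟨z, hz⟩ := h.elt (e.symm x) (n := u * w) (by
    rw [MulEquiv.orderOf_eq, hx]
    exact H290.Wei.mul_dvd hu hw (by norm_num) (h2 hu (by norm_num) (by norm_num)) (h2 hw dvd_rfl (by norm_num)))
  have ou := H73.Rg.orderOf_of_prim (by omega) hu
  have ow := H73.Rg.orderOf_of_prim (by omega) hw
  have h4 := (H130.F4Graph.odd_iff (F := F) hu.prime hw.prime (H290.Wei.prim_ne hu hw (by norm_num))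
    (H290.Wei.prim_ne_two hu (by norm_num)) (H290.Wei.prim_ne_two hw (by norm_num)) (by rw [hq]; exact hu.not_dvd)
    (by rw [hq]; exact hw.not_dvd) (by rw [hq, ou]; decide) (by rw [hq, ow]; decide)).1
    ⟨(z : ↥(chevF4.group F)), by rw [Subgroup.orderOf_coe, hz]⟩
  rw [hq, ou, ow] at h4
  revert h4
  decide

/-- **class 12** -/
theorem Sct.nameX (h : Sct p (Bf (p ^ f) (Nat.card Z)) π S) (hcf : CF) (hp : p.Prime) (hf : 1 ≤ f)
    (hq : Fintype.card F = p ^ f) (h3 : 3 ≤ p ^ f) (hZ : Z ≠ ⊤) {r : ℕ} (hr : Prim p (12 * f) r)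
    (hrZ : r ∣ Nat.card Z) (hv : 8 * f ≤ (Nat.card Z).factorization p) :
    IsNamed (.td4 (p ^ f)) S ∨ IsNamed (.tf4 (p ^ f)) S := by
  have hrq := prim_base hf hr
  have hB : Bf (p ^ f) (Nat.card Z) r (Ph 12 (p ^ f)) 12 := ⟨Or.inl rfl, hrq, hrZ, rfl⟩
  have hrS := h.dvd _ _ _ hB
  have h1 := h.fac hp
  have h2 := h.fac_idx hp hf (Or.inl rfl) hrq hrZ
  have h4 := sc_le p
  rcases h.named hcf hp hf hq h3 (Or.inl rfl) hr hrZ with h5 | ⟨g, b, hg, hch, H⟩
  · omega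
  have h8 : ¬ Kc g (8 * f / Nat.gcd (8 * f) b) := by
    intro h8
    obtain ⟨s, hs⟩ := exists_prim (q := p) (e := 8 * f) hp.two_le (by omega) (by omega)
    exact h.not_both hp hf hq hZ hg hch H hr hrS hs ((H.S.dvd_iff (by omega) hs).2 h8)
  rcases name12 H (H.top12 hr hrS) h8 with h5 | rfl | rfl | rfl | rfl
  · exfalso
    have h6 : sc p 12 < 2 * f := by
      unfold sc
      by_cases hp2 : p = 2
      · subst hp2
        have : f ≠ 1 := by rintro rfl; omega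
        simp only [if_true]
        omega
      · rw [if_neg hp2]
        split_ifs <;> omega
    omega
  · exfalso
    obtain ⟨u, hu⟩ := exists_prim (q := p ^ f) (e := 4) (by omega) (by norm_num) (by omega)
    exact not_dvd_Ph' (by omega) (Or.inl rfl) (by norm_num) (by norm_num) hu
      (H290.Wei.kill_psp hrq hu (by norm_num) (by norm_num) (by norm_num) ((h.big _ _ _ hB).subgroup S) hg
        (by norm_num) (j := 6) (by ring) (by norm_num) (by norm_num) (by norm_num) (by norm_num))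
  · exact (h.not_g2 hq h3 hg.real).elim
  · exact Or.inl hg
  · exact Or.inr hg

/-- **class 8** -/
theorem Sct.nameY (h : Sct p (Bf (p ^ f) (Nat.card Z)) π S) (hcf : CF) (hp : p.Prime) (hf : 1 ≤ f)
    (hq : Fintype.card F = p ^ f) (h3 : 3 ≤ p ^ f) (hZ : Z ≠ ⊤) {s : ℕ} (hs : Prim p (8 * f) s)
    (hsZ : s ∣ Nat.card Z) :
    (Nat.card S).factorization p ≤ 8 * f ∨ IsNamed (.ominus 4 (p ^ f)) S ∨ IsNamed (.psp 4 (p ^ f)) S ∨
      IsNamed (.oodd 4 (p ^ f)) S := by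
  have hsq := prim_base hf hs
  have hB : Bf (p ^ f) (Nat.card Z) s (Ph 8 (p ^ f)) 8 := ⟨Or.inr rfl, hsq, hsZ, rfl⟩
  have hsS := h.dvd _ _ _ hB
  rcases h.named hcf hp hf hq h3 (Or.inr rfl) hs hsZ with h5 | ⟨g, b, hg, hch, H⟩
  · left
    omega
  rcases name8 H (H.top8 hs hsS fun w hw hwS => h.not_both hp hf hq hZ hg hch H hw hwS hs hsS)
    with h5 | rfl | rfl | rfl | rfl
  · exact Or.inl h5
  · exfalso
    obtain ⟨u, hu⟩ := exists_prim (q := p ^ f) (e := 4) (by omega) (by norm_num) (by omega)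
    exact not_dvd_Ph' (by omega) (Or.inr rfl) (by norm_num) (by norm_num) hu
      (H290.Wei.kill_psl hsq hu (by norm_num) ((h.big _ _ _ hB).subgroup S) hg
        (j := 8) (by ring) dvd_rfl (by norm_num) (a := 1) (b := 2) (by ring) (by norm_num) (by norm_num))
  · exact Or.inr (Or.inl hg)
  · exact Or.inr (Or.inr (Or.inl hg))
  · exact Or.inr (Or.inr (Or.inr hg))

end

end Cfsg.Agent.SM.Ex.Id
end

-- part: SM/Ex/IdD
section
/-!
# S3570, `S = F₄(q)`: the indices and the kernels of the sections (helper93)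

* `idx_td4`, `idx_sp8` : the index of `³D₄(q)` divides three, that of `Sp₈(q)`, `q` even, is one;
* `boxNrm : BoxNrm`;
* `Sct.ker12`, `Sct.ker8` : the kernel is trivial, or the subgroup centralises an involution.
-/

set_option autoImplicit false

namespace Cfsg.Agent.SM.Ex.Id

open Cfsg Cfsg.Lie Cfsg.Agent.OrdDiv Cfsg.Agent.H436 Cfsg.Agent.H915.GN Cfsg.Agent.H264.FKS Subgroup
open Cfsg.Agent.H902 Cfsg.Agent.H56.Exc Cfsg.Agent.H563.KG Cfsg.Agent.H946.Exc Cfsg.Agent.H325.Loc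
open Cfsg.Agent.H425.PartP Cfsg.Agent.H425.Chr Cfsg.Agent.H946.KZ Cfsg.Agent.H946.RgF4

theorem cast_sub {R : Type*} [Ring R] {q : ℕ} (hq : 1 ≤ q) (k : ℕ) : ((q ^ k - 1 : ℕ) : R) = (q : R) ^ k - 1 := by
  rw [Nat.cast_sub (Nat.one_le_pow _ _ hq), Nat.cast_pow, Nat.cast_one]

theorem ph12_mul {q : ℕ} (hq : 1 ≤ q) : q ^ 8 + q ^ 4 + 1 = Ph 12 q * (q ^ 4 + q ^ 2 + 1) := by
  apply Nat.cast_injective (R := ℤ)
  push_cast
  rw [cast_Ph12 ℤ hq]
  ring

theorem ph12_mul' {q : ℕ} (hq : 1 ≤ q) : q ^ 6 + 1 = Ph 12 q * (q ^ 2 + 1) := by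
  apply Nat.cast_injective (R := ℤ)
  push_cast
  rw [cast_Ph12 ℤ hq]
  ring

theorem ph8_mul {q : ℕ} (hq : 1 ≤ q) : q ^ 8 - 1 = Ph 8 q * (q ^ 4 - 1) := by
  apply Nat.cast_injective (R := ℤ)
  rw [Nat.cast_mul, cast_sub hq, cast_sub hq, cast_Ph8 ℤ]
  ring

theorem card_td4 {S : Type*} [Group S] {q : ℕ} (hg : IsNamed (.td4 q) S) :
    Nat.card S = q ^ 12 * ((q ^ 2 - 1) * (q ^ 6 - 1) * (q ^ 8 + q ^ 4 + 1)) := (one_mul _).symm.trans hg.eq

theorem card_tf4 {S : Type*} [Group S] {q : ℕ} (hg : IsNamed (.tf4 q) S) :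
    Nat.card S = q ^ 12 * ((q - 1) * (q ^ 3 + 1) * (q ^ 4 - 1) * (q ^ 6 + 1)) := (one_mul _).symm.trans hg.eq

theorem card_psp {S : Type*} [Group S] {q : ℕ} (hg : IsNamed (.psp 4 q) S) : Nat.gcd 2 (q - 1) * Nat.card S =
    q ^ 16 * ((q ^ 2 - 1) * (q ^ 4 - 1) * (q ^ 6 - 1) * (q ^ 8 - 1)) := by
  rw [← prB_four]
  exact hg.eq

theorem card_oodd {S : Type*} [Group S] {q : ℕ} (hg : IsNamed (.oodd 4 q) S) : 2 * Nat.card S =
    q ^ 16 * ((q ^ 2 - 1) * (q ^ 4 - 1) * (q ^ 6 - 1) * (q ^ 8 - 1)) := by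
  rw [← prB_four]
  exact hg.eq

theorem card_om {S : Type*} [Group S] {q : ℕ} (hg : IsNamed (.ominus 4 q) S) : Nat.gcd 4 (q ^ 4 + 1) * Nat.card S =
    q ^ 12 * ((q ^ 4 + 1) * ((q ^ 2 - 1) * (q ^ 4 - 1) * (q ^ 6 - 1))) := by
  rw [← prB_three]
  exact hg.eq

theorem card_sp8 {S : Type*} [Group S] {q : ℕ} (hg : IsNamed (.psp 4 q) S) (hq : 1 ≤ q) (h2 : 2 ∣ q) : Nat.card S =
    q ^ 16 * ((q ^ 2 - 1) * (q ^ 4 - 1) * (q ^ 6 - 1) * (q ^ 8 - 1)) := by
  have h1 : Nat.gcd 2 (q - 1) = 1 := (Nat.coprime_two_left).2 (Nat.odd_iff.2 (by omega))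
  rw [← card_psp hg, h1, one_mul]

theorem mod_of_cast {R r a : ℕ} (ha : a < r) (h : (R : ZMod r) = (a : ℕ)) : R % r = a := by
  have h1 := (ZMod.natCast_eq_natCast_iff R a r).1 h
  unfold Nat.ModEq at h1
  rw [h1, Nat.mod_eq_of_lt ha]

section

variable {W : Type*} [Group W] [Finite W] {S : Subgroup W} {q r : ℕ}

/-- **The index of `³D₄(q)`.** -/
theorem idx_td4 [S.Normal] (hb : Big W r (Ph 12 q) 12) (hr : Prim q 12 r) (hg : IsNamed (.td4 q) S) :
    S.index ∣ 3 := by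
  have hqp : IsPrimePow q := hg.cond
  have hq2 : 2 ≤ q := hqp.two_le
  have hq1 : 1 ≤ q := by omega
  obtain ⟨K, _, _, hK, ⟨e⟩⟩ := hg.real
  obtain ⟨p, hp⟩ := CharP.exists K
  have := Fact.mk (CharP.char_is_prime K p)
  obtain ⟨x, hx, -⟩ := H83.TorD4.exists_x0 hqp hK p
  have h13 : 12 < r := H563.KG.lt_of_prim hq2 (by norm_num) hr
  have hd := dvd_Ph (cls_of (Or.inl rfl)) hq1 hr
  have h1 := idx_of_mod hb S (e.symm x) (by rw [MulEquiv.orderOf_eq, hx]; rfl) hd (by norm_num) h13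
    (R := q ^ 12 * ((q ^ 2 - 1) * (q ^ 6 - 1) * (q ^ 4 + q ^ 2 + 1))) (a := 4)
    (by rw [card_td4 hg, ph12_mul hq1]; ring) (mod_of_cast (by omega) (by
      have h := zmod_of_dvd _ hd
      rw [cast_Ph12 _ hq1] at h
      rw [Nat.cast_mul, Nat.cast_mul, Nat.cast_mul, cast_sub hq1, cast_sub hq1]
      push_cast
      generalize (q : ZMod r) = x at h
      have h6 : x ^ 6 = -1 := by linear_combination (x ^ 2 + 1) * h
      have h12 : x ^ 12 = 1 := by linear_combination (x ^ 6 - 1) * h6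
      rw [h12, h6]
      linear_combination (-2) * h6))
  exact Nat.dvd_of_mul_dvd_mul_right (show 0 < 4 by norm_num) h1

/-- **The index of `Sp₈(q)`, `q` even.** -/
theorem idx_sp8 [S.Normal] (hb : Big W r (Ph 8 q) 8) (hr : Prim q 8 r) (hg : IsNamed (.psp 4 q) S) (h2 : 2 ∣ q) :
    S.index = 1 := by
  have hqp : IsPrimePow q := hg.cond.2.2
  have hq2 : 2 ≤ q := hqp.two_le
  have hq1 : 1 ≤ q := by omega
  have ho : Odd (q ^ 4 + 1) := ((even_iff_two_dvd.2 h2).pow_of_ne_zero (by norm_num)).add_one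
  obtain ⟨x, hx⟩ := H290.Wei.elt_psp hg (by norm_num) ho dvd_rfl
  have h9 : 8 < r := H563.KG.lt_of_prim hq2 (by norm_num) hr
  have hd := dvd_Ph (cls_of (Or.inr rfl)) hq1 hr
  have h1 := idx_of_mod hb S x hx hd (by norm_num) h9
    (R := q ^ 16 * ((q ^ 2 - 1) * (q ^ 4 - 1) * (q ^ 6 - 1) * (q ^ 4 - 1))) (a := 8)
    (by rw [card_sp8 hg hq1 h2, ph8_mul hq1]; ring) (mod_of_cast h9 (by
      have h := zmod_of_dvd _ hd
      rw [cast_Ph8] at h
      rw [Nat.cast_mul, Nat.cast_mul, Nat.cast_mul, Nat.cast_mul, cast_sub hq1, cast_sub hq1, cast_sub hq1]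
      push_cast
      generalize (q : ZMod r) = x at h
      have h4 : x ^ 4 = -1 := by linear_combination h
      have h6 : x ^ 6 = -x ^ 2 := by linear_combination x ^ 2 * h
      have h16 : x ^ 16 = 1 := by linear_combination (x ^ 12 - x ^ 8 + x ^ 4 - 1) * h
      rw [h16, h6, h4]
      linear_combination (-4) * h4))
  exact Nat.dvd_one.1 (Nat.dvd_of_mul_dvd_mul_right (show 0 < 8 by norm_num) h1)

end

theorem named_td4 {S : Type*} [Group S] {q : ℕ} (hq : IsPrimePow q) (h : Real (.td4 q) S) : IsNamed (.td4 q) S := by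
  refine .mk' h hq ?_
  obtain ⟨K, _, _, hK, ⟨e⟩⟩ := h
  rw [Nat.card_congr e.toEquiv]
  change 1 * _ = _ ^ 12 * _
  rw [table.{0}.td4 K q hq hK]
  ring

/-- **The normaliser of `³D₄(q)` in `F₄(q)`.** -/
theorem boxNrm : BoxNrm := by
  intro F _ _ D hD
  have hfin : Finite ↥(chevF4.group F) := inferInstance
  have hq : IsPrimePow (Fintype.card F) := Fintype.isPrimePow_card_of_field
  obtain ⟨r, hr⟩ := exists_prim (q := Fintype.card F) (e := 12) hq.two_le (by norm_num) (by omega)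
  have e := subgroupOfEquivOfLe (le_normalizer : D ≤ normalizer (D : Set ↥(chevF4.group F)))
  have h1 := idx_td4 (S := D.subgroupOf (normalizer (D : Set ↥(chevF4.group F))))
    ((bigF4 rfl (Or.inl rfl) hr).subgroup _) hr (H394.Wei.named_congr (named_td4 hq hD) e)
  rw [← Subgroup.card_mul_index (D.subgroupOf (normalizer (D : Set ↥(chevF4.group F)))), Nat.card_congr e.toEquiv,
    mul_comm]
  exact Nat.mul_dvd_mul_right h1 _

section

variable {p f : ℕ} {F : Type} [Field F] [Fintype F] [CharP F p]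
variable {Z : Subgroup ↥(chevF4.group F)} {W : Type} [Group W] {π : Z →* W} {S : Subgroup W}

theorem chk41 : ∀ x ∈ l3, x.1 ≠ 2 → x.1 ≠ 3 → ∀ k ∈ List.range (x.2 + 1), 0 < k → ¬ 41 ∣ x.1 ^ k - 1 := by decide

/-- the kernel, or a prime of the torus which is not primitive -/
theorem Sct.ker_cases (h : Sct p (Bf (p ^ f) (Nat.card Z)) π S) (hp : p.Prime) (hf : 1 ≤ f)
    (hq : Fintype.card F = p ^ f) {c r : ℕ} (hc : c = 12 ∨ c = 8) (hr : Prim (p ^ f) c r)
    (hn : ncl c (p ^ f) ∣ Nat.card Z) (hbig : 52 < ncl c (p ^ f) ∨ (p ^ f = 3 ∧ c = 8)) :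
    π.ker = ⊥ ∨ (c = 8 ∧ Odd (p ^ f) ∧ ∃ A : Subgroup Z, A.Normal ∧ A ≤ π.ker ∧ A ≠ ⊥ ∧ (∀ a ∈ A, a ^ 2 = 1) ∧
      ∃ k, 0 < k ∧ Nat.card A = 2 ^ k) := by
  have hfin : Finite ↥(chevF4.group F) := inferInstance
  have hq2 := two_le hp hf
  have hq1 : 1 ≤ p ^ f := by omega
  have hrZ := (dvd_ncl (cls_of hc) hq1 hr).trans hn
  by_cases hne : π.ker = ⊥
  · exact Or.inl hne
  right
  obtain ⟨t, ht, htk, A, hA, hAk, hA0, hAc, hAt, k, hk0, hk⟩ :=
    h.elem (r := r) ⟨hc, hr, hrZ, rfl⟩ ((bigF4 hq hc hr).subgroup Z) hne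
  have htZ : t ∣ Nat.card Z := htk.trans (Subgroup.card_subgroup_dvd_card _)
  have htp : ¬ Prim (p ^ f) c t := fun h1 => h.rk t _ _ ⟨hc, h1, htZ, rfl⟩ htk
  by_cases htP : t ∣ Ph c (p ^ f)
  · have h1 := eq_cc (cls_of hc) hq1 ht htp htP
    rcases hc with rfl | rfl
    · exact absurd (Nat.dvd_one.1 h1) ht.one_lt.ne'
    · obtain rfl : t = 2 := (Nat.prime_dvd_prime_iff_eq ht Nat.prime_two).1 h1
      refine ⟨rfl, ?_, A, hA, hAk, hA0, hAt, k, hk0, hk⟩
      by_contra h2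
      have h3 : 2 ∣ (p ^ f) ^ 4 := (even_iff_two_dvd.1 (Nat.not_odd_iff_even.1 h2)).trans (dvd_pow_self _ (by norm_num))
      have h4 : 2 ∣ (p ^ f) ^ 4 + 1 := htP
      omega
  · exfalso
    have hord : _root_.Cfsg.Agent.H563.KG.Ord ↥(chevF4.group F) (p ^ f) c (Ph c (p ^ f)) := fun r hr x hx => (bigF4 hq hc hr).card x hx
    have hfree := (hord.sub Z).free (cls_of hc) hq1 ht htP
    rcases hbig with hlt | ⟨h3, rfl⟩
    · obtain ⟨ρ, hρ⟩ := fth_F4 (F := F)
      exact hA0 (eq_bot_of_dvd (τ := ρ.comp Z.subtype) (hρ.comp Z.subtype_injective) hAc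
        (fun h1 => h.pk (h1.trans (Subgroup.card_dvd_of_le hAk))) hn
        (fun x hx hxm a ha hc => hfree x hx hxm a (hAt a ha) hc) (by rwa [Fintype.card_fin]))
    · have hT := named_f4 (F := F) table
      rw [hq, h3] at hT
      rw [h3] at hn hfree htP
      obtain ⟨rfl, rfl⟩ := (Nat.Prime.pow_eq_iff Nat.prime_three).1 h3
      have h41 : Nat.Prime 41 := by norm_num
      have := Fact.mk h41
      obtain ⟨x, hx⟩ := exists_prime_orderOf_dvd_card' 41 (show 41 ∣ Nat.card Z from hn)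
      have h2 := dvd_card_sub_one (A := A) h41 hx fun a ha hc =>
        hfree x (by rw [hx]; exact h41) (by rw [hx]; decide) a (hAt a ha) hc
      rw [hk] at h2
      have h4 : t ^ k ∣ num (.f4 3) := by
        rw [← hT.eq, ← hk]
        exact ((Subgroup.card_subgroup_dvd_card A).trans (Subgroup.card_subgroup_dvd_card Z)).mul_left _
      obtain ⟨j, hj, hkj⟩ := exists_pair v3 ht hk0 h4
      refine chk41 _ hj ?_ ?_ k (List.mem_range.2 (Nat.lt_succ_of_le hkj)) hk0 h2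
      · rintro (rfl : t = 2)
        exact htP (by decide)
      · rintro (rfl : t = 3)
        exact h.pk htk

/-- **class 12** : the kernel is trivial -/
theorem Sct.ker12 (h : Sct p (Bf (p ^ f) (Nat.card Z)) π S) (hp : p.Prime) (hf : 1 ≤ f)
    (hq : Fintype.card F = p ^ f) (h3 : 3 ≤ p ^ f) {r : ℕ} (hr : Prim (p ^ f) 12 r)
    (hn : Ph 12 (p ^ f) ∣ Nat.card Z) : π.ker = ⊥ := by
  rcases h.ker_cases hp hf hq (Or.inl rfl) hr (by rwa [ncl12_eq]) (Or.inl (ncl12_gt h3)) with h1 | ⟨h1, -⟩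
  · exact h1
  · omega

theorem chk2 : ∀ k ∈ List.range 7, ∀ s ∈ List.range 64, 0 < k → 9 < s → s % 8 = 1 →
    (¬ 2 ^ k ≡ 1 [MOD s]) ∧ (2 ^ k ≡ 2 [MOD s] → k = 1) := by
  decide +kernel

/-- **class 8** : the kernel is trivial, or an involution is centralised -/
theorem Sct.ker8 (h : Sct p (Bf (p ^ f) (Nat.card Z)) π S) (hp : p.Prime) (hf : 1 ≤ f)
    (hq : Fintype.card F = p ^ f) (h3 : 3 ≤ p ^ f) {s : ℕ} (hs : Prim (p ^ f) 8 s)
    (hn : ncl 8 (p ^ f) ∣ Nat.card Z) :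
    π.ker = ⊥ ∨ (Odd (p ^ f) ∧ ∃ z : ↥(chevF4.group F), orderOf z = 2 ∧ Z ≤ centralizer {z}) := by
  have hfin : Finite ↥(chevF4.group F) := inferInstance
  have hq1 : 1 ≤ p ^ f := by omega
  have hbig : 52 < ncl 8 (p ^ f) ∨ (p ^ f = 3 ∧ 8 = 8) := by
    rcases eq_or_lt_of_le h3 with h4 | h4
    · exact Or.inr ⟨h4.symm, rfl⟩
    · left
      apply ncl_gt (by decide)
      have : 4 ^ 4 ≤ (p ^ f) ^ 4 := Nat.pow_le_pow_left h4 4
      show 52 * 2 < (p ^ f) ^ 4 + 1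
      omega
  rcases h.ker_cases hp hf hq (Or.inr rfl) hs hn hbig with h1 | ⟨-, ho, A, hA, -, hA0, hAt, k, hk0, hk⟩
  · exact Or.inl h1
  refine Or.inr ⟨ho, ?_⟩
  have := Fact.mk hs.prime
  have hb := (bigF4 hq (Or.inr rfl) hs).subgroup Z
  obtain ⟨x, hx⟩ := exists_prime_orderOf_dvd_card' s ((dvd_ncl (cls_of (Or.inr rfl)) hq1 hs).trans hn)
  have h1 := card_mod A hs.prime hx
  have h64 : Nat.card A ≤ 64 := (H357.EP.inE6_f4 (F := F) (by rwa [hq]) (MulEquiv.refl _)).card_le_hom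
    (fun a => Subtype.ext (by rw [← sq]; exact hAt a a.2)) (Z.subtype.comp A.subtype)
    (Z.subtype_injective.comp A.subtype_injective)
  have hk6 : k < 7 := by
    by_contra h5
    have : 2 ^ 7 ≤ 2 ^ k := Nat.pow_le_pow_right (by norm_num) (by omega)
    omega
  have h2 : Nat.card ↥(A ⊓ centralizer ({x} : Set Z)) = 1 ∨ Nat.card ↥(A ⊓ centralizer ({x} : Set Z)) = 2 := by
    have h4 : Nat.card ↥(A ⊓ centralizer ({x} : Set Z)) ∣ 2 ^ k := hk ▸ Subgroup.card_dvd_of_le inf_le_left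
    have h5 : Nat.card ↥(A ⊓ centralizer ({x} : Set Z)) ∣ Ph 8 (p ^ f) :=
      (Subgroup.card_dvd_of_le inf_le_right).trans (hb.card x hx)
    obtain ⟨j, -, hj⟩ := (Nat.dvd_prime_pow Nat.prime_two).1 h4
    have h6 := not_sq_dvd (cls_of (Or.inr rfl)) hq1 (by decide)
    rw [hj] at h5 ⊢
    rcases (show j = 0 ∨ j = 1 ∨ 2 ≤ j by omega) with rfl | rfl | h7
    · exact Or.inl rfl
    · exact Or.inr rfl
    · exact absurd ((pow_dvd_pow 2 h7).trans h5) h6
  have h9 : 8 < s := H563.KG.lt_of_prim (by omega) (by norm_num) hs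
  have h8 : s % 8 = 1 := by
    have := H563.KG.mod_of_prim (by omega) (by norm_num) hs
    omega
  have h10 : 9 < s := by
    have : s ≠ 9 := by
      rintro rfl
      exact absurd hs.prime (by norm_num)
    omega
  have hk1 : k = 1 := by
    rw [hk] at h1
    by_cases hs64 : s < 64
    · have h5 := chk2 k (List.mem_range.2 hk6) s (List.mem_range.2 hs64) hk0 h10 h8
      rcases h2 with h2 | h2 <;> rw [h2] at h1
      · exact absurd h1 h5.1
      · exact h5.2 h1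
    · have h5 : 2 ^ k ≤ 64 := hk ▸ h64
      have h6 : 2 ^ 1 ≤ 2 ^ k := Nat.pow_le_pow_right (by norm_num) hk0
      unfold Nat.ModEq at h1
      rw [Nat.mod_eq_of_lt (by omega)] at h1
      rcases h2 with h2 | h2 <;> rw [h2, Nat.mod_eq_of_lt (by omega)] at h1
      · omega
      · exact Nat.pow_right_injective le_rfl (show 2 ^ k = 2 ^ 1 from h1)
  rw [hk1, pow_one] at hk
  obtain ⟨a, ha⟩ := exists_prime_orderOf_dvd_card' 2 (hk ▸ dvd_rfl : 2 ∣ Nat.card A)
  have ha1 : a ≠ 1 := by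
    rintro rfl
    rw [orderOf_one] at ha
    omega
  refine ⟨((a : Z) : ↥(chevF4.group F)), by rw [Subgroup.orderOf_coe, Subgroup.orderOf_coe, ha], fun g hg => ?_⟩
  rw [mem_centralizer_singleton_iff]
  obtain ⟨y, -, hy⟩ := (Nat.card_eq_two_iff' (1 : A)).1 hk
  have h4 : (⟨(⟨g, hg⟩ * (a : Z) * (⟨g, hg⟩ : Z)⁻¹ :), hA.conj_mem _ a.2 _⟩ : A) ≠ 1 := by
    intro h5
    have h6 : (⟨g, hg⟩ : Z) * (a : Z) * (⟨g, hg⟩ : Z)⁻¹ = 1 := congrArg Subtype.val h5
    rw [mul_inv_eq_one, mul_eq_left] at h6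
    exact ha1 (Subtype.ext h6)
  have h5 := (hy _ h4).trans (hy _ ha1).symm
  have h6 : (⟨g, hg⟩ : Z) * (a : Z) * (⟨g, hg⟩ : Z)⁻¹ = a := congrArg Subtype.val h5
  rw [mul_inv_eq_iff_eq_mul] at h6
  exact congrArg Subtype.val h6

omit [CharP F p] in
/-- an involution centralised by an element of class 8 -/
theorem card_cent (ho : Odd (Fintype.card F)) {z : ↥(chevF4.group F)} (hz : orderOf z = 2) {s : ℕ}
    (hs : Prim (Fintype.card F) 8 s) (hd : s ∣ Nat.card ↥(centralizer ({z} : Set ↥(chevF4.group F)))) :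
    Nat.card ↥(centralizer ({z} : Set ↥(chevF4.group F))) = Fintype.card F ^ 16 * (Fintype.card F ^ 2 - 1) *
      (Fintype.card F ^ 4 - 1) * (Fintype.card F ^ 6 - 1) * (Fintype.card F ^ 8 - 1) := by
  obtain ⟨a, b, -, -, -, h4, h5, h6⟩ := Cfsg.Agent.S4280.result ho
  have key : ∀ {u v : ↥(chevF4.group F)}, IsConj u v → Nat.card ↥(centralizer ({u} : Set ↥(chevF4.group F))) =
      Nat.card ↥(centralizer ({v} : Set ↥(chevF4.group F))) := by
    intro u v huv
    obtain ⟨c, hc⟩ := isConj_iff.1 huv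
    refine Nat.card_congr ⟨fun y => ⟨c * y.1 * c⁻¹, ?_⟩, fun y => ⟨c⁻¹ * y.1 * c, ?_⟩, fun y => Subtype.ext (by
      show c⁻¹ * (c * y.1 * c⁻¹) * c = y.1
      group), fun y => Subtype.ext (by
      show c * (c⁻¹ * y.1 * c) * c⁻¹ = y.1
      group)⟩
    · have h1 := mem_centralizer_singleton_iff.1 y.2
      rw [mem_centralizer_singleton_iff, ← hc]
      calc c * y.1 * c⁻¹ * (c * u * c⁻¹) = c * (y.1 * u) * c⁻¹ := by group
        _ = c * (u * y.1) * c⁻¹ := by rw [h1]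
        _ = _ := by group
    · have h1 := mem_centralizer_singleton_iff.1 y.2
      rw [mem_centralizer_singleton_iff]
      calc c⁻¹ * y.1 * c * u = c⁻¹ * (y.1 * (c * u * c⁻¹)) * c := by group
        _ = c⁻¹ * (c * u * c⁻¹ * y.1) * c := by rw [hc, h1]
        _ = _ := by group
  rcases h4 z hz with h7 | h7
  · rw [key h7, h5]
  · exfalso
    rw [key h7, h6] at hd
    have hp := hs.prime
    rcases hp.dvd_mul.1 hd with h8 | h8
    · rcases hp.dvd_mul.1 h8 with h9 | h9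
      · rcases hp.dvd_mul.1 h9 with h10 | h10
        · exact hs.not_dvd_pow _ h10
        · exact hs.not_dvd_sub (by norm_num) (hp.dvd_of_dvd_pow h10)
      · exact hs.not_dvd_sub (by norm_num) h9
    · exact hs.not_dvd_sub (by norm_num) h8

end

end Cfsg.Agent.SM.Ex.Id
end

-- part: SM/Ex/KH4
section
/-!
# S3570, exceptional `S`: half classes without exactness (helper93)

The proofs of `H73/Rg/KH4`, with the hypothesis `HAt` reduced to the field `half`.
-/

set_option autoImplicit false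

set_option exponentiation.threshold 7000

namespace Cfsg.Agent.SM.Ex.Rg

open Cfsg.Agent.H73.Rg

open Cfsg Cfsg.Agent.OrdDiv Cfsg.Agent.H436 Cfsg.Agent.H902 Cfsg.Agent.H290.ElReg Cfsg.Agent.H290.ElTab
  Cfsg.Agent.H56.Exc Cfsg.Agent.H325.Loc Cfsg.Agent.H915.GN Cfsg.Agent.H264.FKS Cfsg.Agent.H325.Same
  Cfsg.Agent.H325.IsoExc Cfsg.Agent.H563.KG

section

variable {F : Type} [Field F] [Fintype F] {p f : ℕ}

/-- **`F₄(q)`, `q ≥ 5`, the classes 8, 12.** -/
theorem k812' (tb : OrderTable.{0}) (hcyc : CycFixSolv.{0}) (hcf : CF) [CharP F p] (hp : p.Prime) (hf : 1 ≤ f)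
    (hq : Fintype.card F = p ^ f) (hq5 : 5 ≤ p ^ f) (B : Subgroup ↥(Lie.chevF4.group F)) (hoff : HOff p f [8, 12] B) :
    B = ⊤ := by
  have := Fact.mk hp
  have hfin : Finite ↥(Lie.chevF4.group F) := inferInstance
  have hT := named_f4 (F := F) tb
  rw [hq] at hT
  have hq2 : 2 ≤ p ^ f := by omega
  have hq1 : 1 ≤ p ^ f := by omega
  have hOL : num (.f4 (p ^ f)) = OL .F4 (p ^ f) := rfl
  have hdT : Nat.card ↥(Lie.chevF4.group F) ∣ OL .F4 (p ^ f) := by
    rw [← hOL, ← hT.eq]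
    exact Dvd.intro_left _ rfl
  have hmem : ∀ c ∈ [8, 12], c = 12 ∨ c = 8 := by decide
  have hcl : ∀ c ∈ [8, 12], Cls c := by
    intro c hc
    have := hmem c hc
    unfold Cls
    (clear * - this; omega)
  have hbig : ∀ c ∈ [8, 12], ∀ r, Prim (p ^ f) c r → Big ↥(Lie.chevF4.group F) r (Ph c (p ^ f)) c :=
    fun c hc r hr => big4 hq hq1 (hmem c hc) hr
  have hord : ∀ c ∈ [8, 12], _root_.Cfsg.Agent.H563.KG.Ord ↥(Lie.chevF4.group F) (p ^ f) c (Ph c (p ^ f)) :=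
    fun c hc r hr x hx => (hbig c hc r hr).card x hx
  have h8 := hoff 8 (by decide)
  have h12 := hoff 12 (by decide)
  obtain ⟨S, hS, g, hg, hch⟩ := mainH (D := D4a) (exc := []) tb hcyc hcf altAut (M := fun c => Ph c (p ^ f)) (E := fun c => c)
    tblH_4a hp hf hq5 (F := F) fth_F4 hdT hbig h8 h12
    (sepH hp hf (M := fun c => Ph c (p ^ f)) (E := fun c => c) (by decide) (by decide) h8 h12
      (fun c hc => Ph_dvd (hcl c hc) hq1)
      (fun c hc s hs hd => le_seven' hs (n := c) (by have := hmem c hc; omega) hd) (by decide) (by decide))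
    (by intro c hc; exact absurd hc (by simp [D4a])) (c₀ := 12) (by decide) (fun r hr => piso_F4 (F := F) (Or.inr rfl) (by rw [hq]; exact hr))
    (fun t ht _ _ _ _ => good4 hp hf hq5 ((hord 12 (by decide)).sub B) ((hord 8 (by decide)).sub B) h12.half h8.half ht)
    (by simp)
  have := hS.nor
  have hdS : Nat.card S ∣ num (.f4 (p ^ f)) := IsNamed.card_dvd hT S
  rcases charp_f4_812 hp hf hg.cond hch hg.eq hdS (hS.h1 8 (by decide)) (hS.h1 12 (by decide)) with rfl | rfl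
  · exact eq_top_of_name hT hg
  · exfalso
    obtain ⟨s, hs⟩ := exists_prim (q := p ^ f) (e := 8) hq2 (by norm_num) (by omega)
    exact kill_psl3 hp hg hs (((piso_F4 (F := F) (p := p) (Or.inl rfl) (by rw [hq]; exact hs)).sub B).sub S)

/-- **`F₄(q)`, `q ≥ 5`, the classes 8, 12.** -/
theorem k812 (tb : OrderTable.{0}) (hcyc : CycFixSolv.{0}) (hcf : CF) (hp : p.Prime) (hf : 1 ≤ f)
    (hq : Fintype.card F = p ^ f) (hq5 : 5 ≤ p ^ f) (B : Subgroup ↥(Lie.chevF4.group F)) (hoff : HOff p f [8, 12] B) :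
    B = ⊤ := by
  have := charP_of_card hp hq
  exact k812' tb hcyc hcf hp hf hq hq5 B hoff

end

end Cfsg.Agent.SM.Ex.Rg
end

-- part: SM/Ex/IdE
section
/-!
# S3570, `S = F₄(q)`: the factorisations, `q ≥ 3` (helper93)

* `kboth` : half of the classes 8 and 12 generate;
* `factX`, `factY` : the factors;
* `core3` : the row.
-/

set_option autoImplicit false

namespace Cfsg.Agent.SM.Ex.Id

open Cfsg Cfsg.Lie Cfsg.Agent.OrdDiv Cfsg.Agent.H436 Cfsg.Agent.H915.GN Cfsg.Agent.H264.FKS Subgroup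
open Cfsg.Agent.H902 Cfsg.Agent.H56.Exc Cfsg.Agent.H563.KG Cfsg.Agent.H946.Exc Cfsg.Agent.H325.Loc
open Cfsg.Agent.H425.PartP Cfsg.Agent.H425.Chr Cfsg.Agent.H946.KZ Cfsg.Agent.H946.RgF4 Cfsg.Agent.SM.Ex78

theorem small_cls : ∀ q ∈ [2, 3, 4], ∀ c ∈ [12, 8], (ncl c q).Prime ∧ ¬ ncl c q * ncl c q ∣ num (.f4 q) := by
  decide +kernel

theorem cancel {u x B : ℕ} (hx : 0 < x) (hux : u ∣ x) (h : x * x ∣ B * x) (hB : ¬ u ∣ B) : False :=
  hB (hux.trans (Nat.dvd_of_mul_dvd_mul_right hx h))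

theorem not_dvd_add' {q e u m : ℕ} (hu : Prim q e u) (he : 2 ≤ e) (hq : 1 ≤ q) (hm : e ∣ m) : ¬ u ∣ q ^ m + 1 := by
  intro h
  have h1 := Nat.dvd_sub h (hu.dvd hm)
  have h2 : 1 ≤ q ^ m := Nat.one_le_pow _ _ hq
  rw [show q ^ m + 1 - (q ^ m - 1) = 2 by omega] at h1
  exact H290.Wei.prim_ne_two hu he ((Nat.prime_dvd_prime_iff_eq hu.prime Nat.prime_two).1 h1)

theorem sub_pos {q k : ℕ} (hq : 2 ≤ q) (hk : k ≠ 0) : 0 < q ^ k - 1 := Nat.sub_pos_of_lt (Nat.one_lt_pow hk hq)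

theorem sub_dvd (q : ℕ) {k l : ℕ} (h : k ∣ l) : q ^ k - 1 ∣ q ^ l - 1 := by
  obtain ⟨m, rfl⟩ := h
  rw [pow_mul]
  exact Nat.sub_one_dvd_pow_sub_one _ _

/-- the class 3 is missing -/
theorem kill3 {q cD n cK n' d A : ℕ} (hq : 2 ≤ q) (h : num (.f4 q) ∣ cD * n * (cK * n'))
    (hD : cD = q ^ 12 * ((q - 1) * (q ^ 3 + 1) * (q ^ 4 - 1) * (q ^ 6 + 1))) (hn : n ∣ 12 * Ph 12 q)
    (hn' : n' ∣ 8 * Ph 8 q) (hK : d * cK = A * (q ^ 6 - 1)) (hA : ∀ u, Prim q 3 u → ¬ u ∣ A) : False := by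
  obtain ⟨u, hu⟩ := exists_prim (q := q) (e := 3) hq le_rfl (by omega)
  have hp := hu.prime
  refine cancel (x := q ^ 6 - 1) (B := cD * n * n' * A) (sub_pos hq (by norm_num)) (hu.dvd (by norm_num)) ?_ ?_
  · have h1 : (q ^ 6 - 1) * (q ^ 6 - 1) ∣ num (.f4 q) := by
      show _ ∣ q ^ 24 * ((q ^ 2 - 1) * (q ^ 6 - 1) * (q ^ 8 - 1) * (q ^ 12 - 1))
      exact (Nat.mul_dvd_mul ((Dvd.intro_left _ rfl).mul_right _) (sub_dvd q (by norm_num))).mul_left _
    refine (h1.trans h).trans ⟨d, ?_⟩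
    rw [mul_assoc (cD * n * n'), ← hK]
    ring
  · refine hp.not_dvd_mul (hp.not_dvd_mul (hp.not_dvd_mul ?_ fun h1 =>
      not_dvd_cPh hq (Or.inl rfl) le_rfl (by norm_num) hu (h1.trans hn)) fun h1 =>
      not_dvd_cPh hq (Or.inr rfl) le_rfl (by norm_num) hu (h1.trans hn')) (hA u hu)
    rw [hD]
    refine hp.not_dvd_mul (hu.not_dvd_pow _) (hp.not_dvd_mul (hp.not_dvd_mul (hp.not_dvd_mul ?_
      (not_dvd_add' hu (by norm_num) (by omega) dvd_rfl)) (hu.not_dvd_sub (by norm_num)))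
      (not_dvd_add' hu (by norm_num) (by omega) (by norm_num)))
    have := hu.not_dvd_sub (m := 1) (by norm_num)
    rwa [pow_one] at this

/-- the class 4 is missing -/
theorem kill4 {q cD n cK n' d : ℕ} (hq : 2 ≤ q) (h : num (.f4 q) ∣ cD * n * (cK * n'))
    (hD : cD = q ^ 12 * ((q ^ 2 - 1) * (q ^ 6 - 1) * (q ^ 8 + q ^ 4 + 1))) (hn : n ∣ 12 * Ph 12 q)
    (hn' : n' ∣ 8 * Ph 8 q) (hK : d * cK = q ^ 12 * ((q ^ 4 + 1) * ((q ^ 2 - 1) * (q ^ 4 - 1) * (q ^ 6 - 1)))) :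
    False := by
  obtain ⟨u, hu⟩ := exists_prim (q := q) (e := 4) hq (by norm_num) (by omega)
  have hp := hu.prime
  have h2 := hu.not_dvd_sub (m := 2) (by norm_num)
  have h6 := hu.not_dvd_sub (m := 6) (by norm_num)
  refine cancel (x := q ^ 4 - 1) (B := cD * n * n' * (q ^ 12 * ((q ^ 4 + 1) * ((q ^ 2 - 1) * (q ^ 6 - 1)))))
    (sub_pos hq (by norm_num)) (hu.dvd dvd_rfl) ?_ ?_
  · have h1 : (q ^ 4 - 1) * (q ^ 4 - 1) ∣ num (.f4 q) := by
      show _ ∣ q ^ 24 * ((q ^ 2 - 1) * (q ^ 6 - 1) * (q ^ 8 - 1) * (q ^ 12 - 1))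
      exact (Nat.mul_dvd_mul ((sub_dvd q (by norm_num)).mul_left _) (sub_dvd q (by norm_num))).mul_left _
    refine (h1.trans h).trans ⟨d, ?_⟩
    calc cD * n * n' * (q ^ 12 * ((q ^ 4 + 1) * ((q ^ 2 - 1) * (q ^ 6 - 1)))) * (q ^ 4 - 1)
        = cD * n * n' * (q ^ 12 * ((q ^ 4 + 1) * ((q ^ 2 - 1) * (q ^ 4 - 1) * (q ^ 6 - 1)))) := by ring
      _ = _ := by rw [← hK]; ring
  · refine hp.not_dvd_mul (hp.not_dvd_mul (hp.not_dvd_mul ?_ fun h1 =>
      not_dvd_cPh hq (Or.inl rfl) (by norm_num) (by norm_num) hu (h1.trans hn)) fun h1 =>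
      not_dvd_cPh hq (Or.inr rfl) (by norm_num) (by norm_num) hu (h1.trans hn'))
      (hp.not_dvd_mul (hu.not_dvd_pow _) (hp.not_dvd_mul (not_dvd_add' hu (by norm_num) (by omega) dvd_rfl)
        (hp.not_dvd_mul h2 h6)))
    rw [hD, ph12_mul (by omega)]
    refine hp.not_dvd_mul (hu.not_dvd_pow _) (hp.not_dvd_mul (hp.not_dvd_mul h2 h6) (hp.not_dvd_mul
      (not_dvd_Ph' hq (Or.inl rfl) (by norm_num) (by norm_num) hu) fun h1 => h6 (h1.trans ⟨q ^ 2 - 1, ?_⟩)))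
    apply Nat.cast_injective (R := ℤ)
    rw [Nat.cast_mul, cast_sub (by omega), cast_sub (by omega)]
    push_cast
    ring

theorem fac_named {S : Type*} [Group S] [Finite S] {g : Grp} {p f : ℕ} (hp : p.Prime) (hf : 1 ≤ f) (hg : IsNamed g S)
    (hq : qOf g = p ^ f) : (Nat.card S).factorization p = f * ex g :=
  Dt.fac ⟨hp, by omega, Nat.card_pos.ne', hg.cond, hq, hg.eq⟩

/-- a normal subgroup of a simple subgroup -/
theorem eq_of_simple {G : Type*} [Group G] {D X : Subgroup G} (hs : IsSimpleGroup X) (h1 : D ≤ X)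
    (h2 : X ≤ normalizer (D : Set G)) (h3 : D ≠ ⊥) : D = X := by
  have hn : (D.subgroupOf X).Normal := (normal_subgroupOf_iff_le_normalizer h1).2 h2
  rcases hs.eq_bot_or_eq_top_of_normal _ hn with h4 | h4
  · rw [subgroupOf_eq_bot, disjoint_iff, inf_eq_left.2 h1] at h4
    exact absurd h4 h3
  · exact le_antisymm h1 (subgroupOf_eq_top.1 h4)

section

variable {F : Type} [Field F] [Fintype F] {p f : ℕ}

theorem card_F4 : Nat.card ↥(chevF4.group F) = num (.f4 (Fintype.card F)) :=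
  (one_mul _).symm.trans (named_f4 (F := F) table).eq

theorem top_small (hcf : CF) (h4 : Fintype.card F ≤ 4) (B : Subgroup ↥(chevF4.group F))
    (h12 : ∃ r, Prim (Fintype.card F) 12 r ∧ r ∣ Nat.card B) (h8 : ∃ r, Prim (Fintype.card F) 8 r ∧ r ∣ Nat.card B) :
    B = ⊤ := by
  have h2 : 2 ≤ Fintype.card F := Fintype.one_lt_card
  have hm : Fintype.card F ∈ [2, 3, 4] := by
    simp only [List.mem_cons, List.not_mem_nil, or_false]
    omega
  refine K_F4 table cycFixSolv hcf B fun c hc r hr hd => ?_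
  have hc' : c = 12 ∨ c = 8 := by simpa using hc
  obtain ⟨h5, h6⟩ := small_cls _ hm c hc
  have h7 : ∀ r, Prim (Fintype.card F) c r → r = ncl c (Fintype.card F) := fun r hr =>
    (Nat.prime_dvd_prime_iff_eq hr.prime h5).1 (dvd_ncl (cls_of hc') (by omega) hr)
  obtain ⟨r', hr', hd'⟩ : ∃ r, Prim (Fintype.card F) c r ∧ r ∣ Nat.card B := by
    rcases hc' with rfl | rfl
    · exact h12
    · exact h8
  rw [h7 r hr] at hd
  rw [h7 r' hr'] at hd'
  apply h6
  rw [← card_F4, ← B.card_mul_index]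
  exact Nat.mul_dvd_mul hd' hd

/-- half of both classes -/
theorem kboth (hcf : CF) (hp : p.Prime) (hf : 1 ≤ f) (hq : Fintype.card F = p ^ f) (B : Subgroup ↥(chevF4.group F))
    (h8 : Rg.HAt p f 8 B) (h12 : Rg.HAt p f 12 B) : B = ⊤ := by
  by_cases h5 : 5 ≤ p ^ f
  · exact Rg.k812 table cycFixSolv hcf hp hf hq h5 B (hoff2 h8 h12)
  · obtain ⟨r, hr, hrB⟩ := h12.exists_prim hp.two_le hf (by norm_num) (by norm_num)
    obtain ⟨s, hs, hsB⟩ := h8.exists_prim hp.two_le hf (by norm_num) (by norm_num)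
    exact top_small hcf (by omega) B ⟨r, by rw [hq]; exact H813.Rg.prim_of_prim hf hr, hrB⟩
      ⟨s, by rw [hq]; exact H813.Rg.prim_of_prim hf hs, hsB⟩

theorem fac_ge (hp : p.Prime) (hf : 1 ≤ f) (hq : Fintype.card F = p ^ f) {X Y : Subgroup ↥(chevF4.group F)}
    (hd : Pd X Y) : 24 * f ≤ (Nat.card X).factorization p + (Nat.card Y).factorization p := by
  have hfin : Finite ↥(chevF4.group F) := inferInstance
  have h1 := fac_named hp hf (named_f4 (F := F) table) hq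
  have h2 : Nat.card X ≠ 0 := Nat.card_pos.ne'
  have h3 : Nat.card Y ≠ 0 := Nat.card_pos.ne'
  have h4 := (Nat.factorization_le_iff_dvd Nat.card_pos.ne' (mul_ne_zero h2 h3)).2 hd.card_dvd p
  rw [fac_mul h2 h3, h1] at h4
  have h5 : ex (.f4 (Fintype.card F)) = 24 := rfl
  rw [h5] at h4
  omega

variable [CharP F p]

/-- **The factor of class 12.** -/
theorem factX (hcf : CF) (hp : p.Prime) (hf : 1 ≤ f) (hq : Fintype.card F = p ^ f) (h3 : 3 ≤ p ^ f)
    {X : Subgroup ↥(chevF4.group F)} (hX : X ≠ ⊤) {r : ℕ} (hr : Prim p (12 * f) r) (hrX : r ∣ Nat.card X)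
    (hv : 8 * f ≤ (Nat.card X).factorization p) :
    (Nat.card X).factorization p ≤ 12 * f + sc p 12 ∧ ∃ D ≤ X, X ≤ normalizer (D : Set ↥(chevF4.group F)) ∧ ∃ n,
      Nat.card X = Nat.card D * n ∧ n ∣ 12 * Ph 12 (p ^ f) ∧
        ((IsNamed (.td4 (p ^ f)) D ∧ n ∣ 3) ∨ IsNamed (.tf4 (p ^ f)) D) := by
  have hrq := prim_base hf hr
  have hq1 : 1 ≤ p ^ f := by omega
  rcases sct_F hp hf hq X (Or.inl rfl) hrq hrX with h | ⟨W, _, _, π, S, h⟩
  · omega
  have hB : Bf (p ^ f) (Nat.card X) r (Ph 12 (p ^ f)) 12 := ⟨Or.inl rfl, hrq, hrX, rfl⟩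
  have hn := h.nameX hcf hp hf hq h3 hX hr hrX hv
  have h1 := h.fac hp
  have h2 := h.fac_idx hp hf (Or.inl rfl) hrq hrX
  have h4 : (Nat.card S).factorization p = f * 12 := by
    rcases hn with hg | hg
    · exact fac_named hp hf hg rfl
    · exact fac_named hp hf hg rfl
  have h5 : Ph 12 (p ^ f) ∣ Nat.card S := by
    rcases hn with hg | hg
    · rw [card_td4 hg, ph12_mul hq1]
      exact ((Dvd.intro _ rfl).mul_left _).mul_left _
    · rw [card_tf4 hg, ph12_mul' hq1]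
      exact ((Dvd.intro _ rfl).mul_left _).mul_left _
  obtain ⟨D, hD1, hD2, ⟨e⟩, hD3⟩ := h.lift (h.ker12 hp hf hq h3 hrq (h5.trans h.card_dvd))
  refine ⟨by omega, D, hD1, hD2, S.index, hD3, (h.idx hB).1, ?_⟩
  have := h.nor
  rcases hn with hg | hg
  · exact Or.inl ⟨H394.Wei.named_congr hg e, idx_td4 (h.big _ _ _ hB) hrq hg⟩
  · exact Or.inr (H394.Wei.named_congr hg e)

/-- **The factor of class 8.** -/
theorem factY (hcf : CF) (hp : p.Prime) (hf : 1 ≤ f) (hq : Fintype.card F = p ^ f) (h3 : 3 ≤ p ^ f)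
    {Y : Subgroup ↥(chevF4.group F)} (hY : Y ≠ ⊤) {s : ℕ} (hs : Prim p (8 * f) s) (hsY : s ∣ Nat.card Y) :
    (Nat.card Y).factorization p ≤ 8 * f + sc p 8 ∨ ((Nat.card Y).factorization p ≤ 16 * f ∧
      ((Odd (p ^ f) ∧ ¬ IsSimpleGroup Y ∧ ∃ z : ↥(chevF4.group F), orderOf z = 2 ∧ Y ≤ centralizer {z}) ∨
        ∃ K ≤ Y, ∃ n, Nat.card Y = Nat.card K * n ∧ n ∣ 8 * Ph 8 (p ^ f) ∧ (IsNamed (.ominus 4 (p ^ f)) K ∨
          (IsNamed (.psp 4 (p ^ f)) K ∧ (2 ∣ p ^ f → n = 1)) ∨ IsNamed (.oodd 4 (p ^ f)) K))) := by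
  have hsq := prim_base hf hs
  have hq1 : 1 ≤ p ^ f := by omega
  rcases sct_F hp hf hq Y (Or.inr rfl) hsq hsY with h | ⟨W, _, _, π, S, h⟩
  · left
    omega
  have hB : Bf (p ^ f) (Nat.card Y) s (Ph 8 (p ^ f)) 8 := ⟨Or.inr rfl, hsq, hsY, rfl⟩
  have h1 := h.fac hp
  have h2 := h.fac_idx hp hf (Or.inr rfl) hsq hsY
  have := h.nor
  rcases h.nameY hcf hp hf hq h3 hY hs hsY with h4 | hn
  · left
    omega
  right
  have hodd : ¬ 2 ∣ p ^ f → sc p 8 = 0 := by
    intro h5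
    have h6 : p ≠ 2 := by
      rintro rfl
      exact h5 (dvd_pow_self 2 (by omega))
    unfold sc
    rw [if_neg h6]
    split_ifs <;> omega
  have hle : sc p 8 ≤ 3 := by
    unfold sc
    split_ifs <;> omega
  have hv : (Nat.card Y).factorization p ≤ 16 * f := by
    rcases hn with hg | hg | hg
    · have h5 : (Nat.card S).factorization p = f * 12 := fac_named hp hf hg rfl
      omega
    · have h5 : (Nat.card S).factorization p = f * 16 := fac_named hp hf hg rfl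
      by_cases h6 : 2 ∣ p ^ f
      · rw [idx_sp8 (h.big _ _ _ hB) hsq hg h6, Nat.factorization_one, Finsupp.zero_apply] at h1
        omega
      · have := hodd h6
        omega
    · have h5 : (Nat.card S).factorization p = f * 16 := fac_named hp hf hg rfl
      have := hodd fun h6 => (Nat.not_even_iff_odd.2 hg.cond.2.1) (even_iff_two_dvd.2 h6)
      omega
  refine ⟨hv, ?_⟩
  have h5 : ncl 8 (p ^ f) ∣ Nat.card S := by
    have h6 : Nat.Coprime (ncl 8 (p ^ f)) 2 :=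
      ((Nat.Prime.coprime_iff_not_dvd Nat.prime_two).2 (not_dvd_ncl (cls_of (Or.inr rfl)) hq1 (by decide))).symm
    have key : ∀ d, d ∣ 2 ^ 2 → Ph 8 (p ^ f) ∣ d * Nat.card S → ncl 8 (p ^ f) ∣ Nat.card S := fun d hd h7 =>
      ((h6.pow_right 2).coprime_dvd_right hd).dvd_of_dvd_mul_left ((ncl_dvd_Ph _ _).trans h7)
    rcases hn with hg | hg | hg
    · refine key _ (Nat.gcd_dvd_left 4 ((p ^ f) ^ 4 + 1)) ?_
      rw [card_om hg]
      exact (Dvd.intro _ rfl).mul_left _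
    · refine key _ ((Nat.gcd_dvd_left 2 (p ^ f - 1)).trans (by norm_num)) ?_
      rw [card_psp hg, ph8_mul hq1]
      exact ((Dvd.intro _ rfl).mul_left _).mul_left _
    · refine key 2 (by norm_num) ?_
      rw [card_oodd hg, ph8_mul hq1]
      exact ((Dvd.intro _ rfl).mul_left _).mul_left _
  by_cases hk : π.ker = ⊥
  · right
    obtain ⟨K, hK1, -, ⟨e⟩, hK3⟩ := h.lift hk
    refine ⟨K, hK1, S.index, hK3, (h.idx hB).1, ?_⟩
    rcases hn with hg | hg | hg
    · exact Or.inl (H394.Wei.named_congr hg e)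
    · exact Or.inr (Or.inl ⟨H394.Wei.named_congr hg e, idx_sp8 (h.big _ _ _ hB) hsq hg⟩)
    · exact Or.inr (Or.inr (H394.Wei.named_congr hg e))
  · left
    obtain ⟨ho, hz⟩ := (h.ker8 hp hf hq h3 hsq (h5.trans h.card_dvd)).resolve_left hk
    refine ⟨ho, fun hsim => ?_, hz⟩
    rcases hsim.eq_bot_or_eq_top_of_normal π.ker inferInstance with h6 | h6
    · exact hk h6
    · apply h.rk _ _ _ hB
      rwa [h6, Subgroup.card_top]

/-- **The factorisations, `q ≥ 3`.** -/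
theorem core3 (hcf : CF) (hRk : BoxRk) (hOd : BoxOd) (hp : p.Prime) (hf : 1 ≤ f) (hq : Fintype.card F = p ^ f)
    (h3 : 3 ≤ p ^ f) {X Y : Subgroup ↥(chevF4.group F)} (hX : X ≠ ⊤) (hY : Y ≠ ⊤) (hd : Pd X Y) {r s : ℕ}
    (hr : Prim p (12 * f) r) (hrX : r ∣ Nat.card X) (hs : Prim p (8 * f) s) (hsY : s ∣ Nat.card Y)
    (hsim : IsSimpleGroup X ∨ IsSimpleGroup Y) : Row (Fintype.card F) X Y := by
  have hfin : Finite ↥(chevF4.group F) := inferInstance
  have hq2 : 2 ≤ p ^ f := by omega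
  have h1 := fac_ge hp hf hq hd
  have hle : sc p 8 ≤ 3 := by
    unfold sc
    split_ifs <;> omega
  have hsl : sc p 12 + sc p 8 < 4 * f := by
    rw [sc_add]
    unfold sl
    by_cases hp2 : p = 2
    · subst hp2
      have : f ≠ 1 := by rintro rfl; omega
      simp only [if_true]
      omega
    · rw [if_neg hp2]
      split_ifs <;> omega
  have hY' := factY hcf hp hf hq h3 hY hs hsY
  obtain ⟨h2, D, hD1, hD2, n, hD3, hn, hD⟩ := factX hcf hp hf hq h3 hX hr hrX (by rcases hY' with h | ⟨h, -⟩ <;> omega)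
  have hdv := hd.card_dvd
  rw [card_F4, hq, hD3] at hdv
  rcases hY' with h | ⟨-, ⟨ho, hns, z, hz, hYz⟩ | ⟨K, hK1, n', hK3, hn', hK⟩⟩
  · omega
  · exfalso
    rcases hD with ⟨hD, -⟩ | hD
    · have h4 : D = X := eq_of_simple (hsim.resolve_right hns) hD1 hD2 (by
        rintro rfl
        have h5 := fac_named hp hf hD rfl
        rw [Subgroup.card_bot, Nat.factorization_one, Finsupp.zero_apply] at h5
        have h6 : ex (.td4 (p ^ f)) = 12 := rfl
        rw [h6] at h5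
        omega)
      subst h4
      refine hOd F (by rwa [hq]) D z (by rw [hq]; exact hD.real) hz (card_cent (by rwa [hq]) hz (s := s)
        (by rw [hq]; exact prim_base hf hs) (hsY.trans (Subgroup.card_dvd_of_le hYz))) (hd.mono le_rfl hYz)
    · obtain ⟨m, -, hm⟩ := hD.cond
      rw [hm] at ho
      exact (Nat.not_even_iff_odd.2 ho) (even_two.pow_of_ne_zero (by omega))
  rw [hK3] at hdv
  rcases hK with hK | ⟨hK, hn1⟩ | hK
  · exfalso
    rcases hD with ⟨hD, -⟩ | hD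
    · exact kill4 hq2 hdv (card_td4 hD) hn hn' (card_om hK)
    · refine kill3 hq2 hdv (card_tf4 hD) hn hn' (d := Nat.gcd 4 ((p ^ f) ^ 4 + 1))
        (A := (p ^ f) ^ 12 * (((p ^ f) ^ 4 + 1) * (((p ^ f) ^ 2 - 1) * ((p ^ f) ^ 4 - 1))))
        (by rw [card_om hK]; ring) fun u hu => ?_
      exact hu.prime.not_dvd_mul (hu.not_dvd_pow _) (hu.prime.not_dvd_mul (hu.not_dvd_add (by norm_num))
        (hu.prime.not_dvd_mul (hu.not_dvd_sub (by norm_num)) (hu.not_dvd_sub (by norm_num))))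
  · by_cases he : 2 ∣ p ^ f
    · rcases hD with ⟨hD, hn3⟩ | hD
      · obtain rfl : p = 2 := ((Nat.prime_dvd_prime_iff_eq Nat.prime_two hp).1 (Nat.prime_two.dvd_of_dvd_pow he)).symm
        rw [hn1 he, mul_one] at hK3
        obtain rfl : K = Y := Subgroup.eq_of_le_of_card_ge hK1 hK3.le
        rw [hq]
        refine ⟨⟨f, hf, rfl⟩, ⟨D, hD1, hD2, hD.real, ?_⟩, hK.real⟩
        rcases (Nat.dvd_prime Nat.prime_three).1 hn3 with rfl | rfl
        · exact Or.inl (by rw [hD3, mul_one])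
        · exact Or.inr (by rw [hD3, mul_comm])
      · exfalso
        refine kill3 hq2 hdv (card_tf4 hD) hn hn' (d := Nat.gcd 2 (p ^ f - 1))
          (A := (p ^ f) ^ 16 * (((p ^ f) ^ 2 - 1) * ((p ^ f) ^ 4 - 1) * ((p ^ f) ^ 8 - 1)))
          (by rw [card_psp hK]; ring) fun u hu => ?_
        exact hu.prime.not_dvd_mul (hu.not_dvd_pow _) (hu.prime.not_dvd_mul (hu.prime.not_dvd_mul
          (hu.not_dvd_sub (by norm_num)) (hu.not_dvd_sub (by norm_num))) (hu.not_dvd_sub (by norm_num)))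
    · exact absurd (by rw [hq]; exact hK.real)
        (hRk F (by rw [hq]; exact Nat.odd_iff.2 (by omega)) K).1
  · exact absurd (by rw [hq]; exact hK.real) (hRk F (by rw [hq]; exact hK.cond.2.1) K).2

end

end Cfsg.Agent.SM.Ex.Id
end

-- part: SM/Ex/IdF
section
/-!
# S3570, `S = F₄(q)`: the factorisations of `F₄(2)` and the box `BoxId` (helper93)
-/

set_option autoImplicit false

namespace Cfsg.Agent.SM.Ex.Id

open Cfsg Cfsg.Lie Cfsg.Agent.OrdDiv Cfsg.Agent.H436 Cfsg.Agent.H915.GN Cfsg.Agent.H264.FKS Subgroup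
open Cfsg.Agent.H902 Cfsg.Agent.H56.Exc Cfsg.Agent.H563.KG Cfsg.Agent.H946.Exc Cfsg.Agent.H325.Loc
open Cfsg.Agent.H425.PartP Cfsg.Agent.H425.Chr Cfsg.Agent.H946.KZ Cfsg.Agent.H946.RgF4 Cfsg.Agent.SM.Ex78

theorem eq13 {r : ℕ} (h : Prim (2 ^ 1) 12 r) : r = 13 :=
  (Nat.prime_dvd_prime_iff_eq h.prime (by norm_num)).1 (dvd_Ph (cls_of (Or.inl rfl)) (by norm_num) h)

theorem eq17 {r : ℕ} (h : Prim (2 ^ 1) 8 r) : r = 17 :=
  (Nat.prime_dvd_prime_iff_eq h.prime (by norm_num)).1 (dvd_Ph (cls_of (Or.inr rfl)) (by norm_num) h)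

theorem prim13 : Prim (2 ^ 1) 12 13 := by
  obtain ⟨r, hr⟩ := exists_prim (q := 2 ^ 1) (e := 12) (by norm_num) (by norm_num) (by norm_num)
  exact eq13 hr ▸ hr

theorem prim17 : Prim (2 ^ 1) 8 17 := by
  obtain ⟨r, hr⟩ := exists_prim (q := 2 ^ 1) (e := 8) (by norm_num) (by norm_num) (by norm_num)
  exact eq17 hr ▸ hr

theorem chk17 : ∀ x ∈ l2, x.1 ≠ 2 → ∀ k ∈ List.range (x.2 + 1), 0 < k → ¬ 17 ∣ x.1 ^ k - 1 := by decide

theorem chk13 : ∀ x ∈ l2, x.1 ≠ 2 → ∀ k ∈ List.range (x.2 + 1), 0 < k → 13 ∣ x.1 ^ k - 1 →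
    x.1 = 3 ∧ (k = 3 ∨ k = 6) := by decide

/-- the Sylow condition -/
theorem Sct.syl {p : ℕ} {B : ℕ → ℕ → ℕ → Prop} {Z W : Type} [Group Z] [Group W] [Finite W] {π : Z →* W}
    {S : Subgroup W} (h : Sct p B π S) {r e : ℕ} (hB : B r r e) (he : 0 < e) :
    S.index ∈ List.range (e + 1) ∧ Syl r e (Nat.card S) S.index := by
  have hb := h.big _ _ _ hB
  have := Fact.mk hb.prime
  have := h.nor
  obtain ⟨y, hy⟩ := exists_prime_orderOf_dvd_card' r (h.dvd _ _ _ hB)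
  obtain ⟨N, k, h1, h2, h3, h4⟩ := idx_syl hb S y (by rw [hy])
  rw [hy] at h4
  obtain ⟨j, rfl⟩ := h4
  have h5 : S.index * j ∣ e := by
    apply Nat.dvd_of_mul_dvd_mul_right hb.prime.pos
    calc S.index * j * r = S.index * (r * j) := by ring
      _ ∣ e * r := h1
  have h6 : 0 < r * j := Nat.pos_of_mul_pos_right (h2 ▸ Nat.card_pos : 0 < r * j * k)
  refine ⟨List.mem_range.2 (Nat.lt_succ_of_le (Nat.le_of_dvd he ((Dvd.intro _ rfl).trans h5))), j,
    List.mem_range.2 (Nat.lt_succ_of_le (Nat.le_of_dvd he ((Dvd.intro_left _ rfl).trans h5))), h5,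
    Dvd.intro _ h2.symm, ?_⟩
  rw [h2, Nat.mul_div_cancel_left _ h6, h3]

theorem four_le {n k : ℕ} (hn : n ≠ 0) (hk : 4 ≤ k) (h : 2 ^ k ∣ n) : ¬ n.factorization 2 ≤ 3 := by
  have := (Nat.prime_two.pow_dvd_iff_le_factorization hn).1 h
  omega

section

variable {F : Type} [Field F] [Fintype F] [CharP F 2]
variable {Z : Subgroup ↥(chevF4.group F)} {W : Type} [Group W] [Finite W] {π : Z →* W} {S : Subgroup W}

omit [CharP F 2] in
theorem dvd_two (hq : Fintype.card F = 2 ^ 1) (Z : Subgroup ↥(chevF4.group F)) : Nat.card Z ∣ num (.f4 2) := by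
  have h1 := Subgroup.card_subgroup_dvd_card Z
  rwa [card_F4, hq] at h1

omit [CharP F 2] [Finite W] in
/-- a nontrivial kernel, `q = 2` -/
theorem Sct.elem2 (h : Sct 2 (Bf (2 ^ 1) (Nat.card Z)) π S) (hq : Fintype.card F = 2 ^ 1) {c r : ℕ}
    (hc : c = 12 ∨ c = 8) (hr : Prim (2 ^ 1) c r) (hrZ : r ∣ Nat.card Z) (hP : Ph c (2 ^ 1) = r) (hne : π.ker ≠ ⊥) :
    ∃ (A : Subgroup Z) (x : ℕ × ℕ) (k : ℕ), A.Normal ∧ A ≤ π.ker ∧ x ∈ l2 ∧ x.1 ≠ 2 ∧ k ∈ List.range (x.2 + 1) ∧ 0 < k ∧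
      Nat.card A = x.1 ^ k ∧ r ∣ x.1 ^ k - 1 := by
  have hfin : Finite ↥(chevF4.group F) := inferInstance
  have hb := (bigF4 hq hc hr).subgroup Z
  obtain ⟨t, ht, htk, A, hA, hAk, -, -, hAt, k, hk0, hk⟩ := h.elem (r := r) ⟨hc, hr, hrZ, rfl⟩ hb hne
  have := Fact.mk hr.prime
  obtain ⟨x, hx⟩ := exists_prime_orderOf_dvd_card' r hrZ
  have h2 := dvd_card_sub_one (A := A) hr.prime hx fun a ha hc' => by
    have h3 : a ∈ centralizer ({x} : Set Z) := mem_centralizer_singleton_iff.2 hc'.symm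
    have h4 := (Subgroup.orderOf_dvd_natCard _ h3).trans (hb.card x hx)
    rw [hP] at h4
    rcases (Nat.dvd_prime hr.prime).1 h4 with h5 | h5
    · exact orderOf_eq_one_iff.1 h5
    · exfalso
      apply h.rk r _ _ ⟨hc, hr, hrZ, rfl⟩
      rw [← h5]
      exact Subgroup.orderOf_dvd_natCard _ (hAk ha)
  rw [hk] at h2
  obtain ⟨j, hj, hkj⟩ := exists_pair v2 ht hk0
    (hk ▸ (Subgroup.card_subgroup_dvd_card A).trans (dvd_two hq Z))
  refine ⟨A, (t, j), k, hA, hAk, hj, ?_, List.mem_range.2 (Nat.lt_succ_of_le hkj), hk0, hk, h2⟩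
  rintro (rfl : t = 2)
  exact h.pk htk

/-- **The factor of class 8, `q = 2`.** -/
theorem factY2 (hcf : CF) (hq : Fintype.card F = 2 ^ 1) {Y : Subgroup ↥(chevF4.group F)} (h17 : 17 ∣ Nat.card Y)
    (h13 : ¬ 13 ∣ Nat.card Y) (h4 : 2 ^ 4 ∣ Nat.card Y) : ¬ 2 ^ 17 ∣ Nat.card Y ∧ ¬ 49 ∣ Nat.card Y ∧
      (2 ^ 12 ∣ Nat.card Y → 25 ∣ Nat.card Y → _root_.Cfsg.Agent.OrdDiv.Real (.psp 4 2) Y) := by
  have hfin : Finite ↥(chevF4.group F) := inferInstance
  rcases sct_F Nat.prime_two le_rfl hq Y (Or.inr rfl) prim17 h17 with h | ⟨W, _, _, π, S, h⟩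
  · exact absurd h (four_le Nat.card_pos.ne' le_rfl h4)
  have hB : Bf (2 ^ 1) (Nat.card Y) 17 17 8 := ⟨Or.inr rfl, prim17, h17, rfl⟩
  have hk : π.ker = ⊥ := by
    by_contra hne
    obtain ⟨A, x, k, -, -, h1, h2, h3, h5, -, h6⟩ := h.elem2 hq (Or.inr rfl) prim17 h17 rfl hne
    exact chk17 x h1 h2 k h3 h5 h6
  obtain ⟨K, hK1, -, ⟨e⟩, hK3⟩ := h.lift hk
  obtain ⟨g, hg, hr, ho⟩ := good_of hcf h.sim h.na v2 (h.card_dvd.trans (dvd_two hq Y))
  obtain ⟨h5, h6⟩ := h.syl hB (by norm_num)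
  have h7 := h.dvd _ _ _ hB
  have h8 : ¬ 13 ∣ Nat.card S := fun h9 => h13 (h9.trans h.card_dvd)
  rw [ho] at h6 h7 h8
  have h9 := c28 g hg h7 h8 _ h5 h6
  have h10 : Nat.card Y = ordN g * S.index := by rw [hK3, Nat.card_congr e.toEquiv, ho]
  rw [← h10] at h9
  refine ⟨h9.1, h9.2.1, fun h11 h12 => ?_⟩
  obtain ⟨rfl, h14⟩ := h9.2.2 h11 h12
  rw [h14, mul_one] at hK3
  obtain rfl : K = Y := Subgroup.eq_of_le_of_card_ge hK1 hK3.le
  exact H394.Wei.real_congr hr e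

/-- **The factor of class 12, `q = 2`.** -/
theorem factX2 (hcf : CF) (hG : BoxG) (hq : Fintype.card F = 2 ^ 1) {X : Subgroup ↥(chevF4.group F)}
    (h13 : 13 ∣ Nat.card X) (h17 : ¬ 17 ∣ Nat.card X) : ¬ 2 ^ 14 ∣ Nat.card X ∧
      (2 ^ 8 ∣ Nat.card X → 7 ∣ Nat.card X → ∃ D ≤ X, X ≤ normalizer (D : Set ↥(chevF4.group F)) ∧ _root_.Cfsg.Agent.OrdDiv.Real (.td4 2) D ∧
        Nat.card D = ordN (.td4 2) ∧ (Nat.card X = Nat.card D ∨ Nat.card X = 3 * Nat.card D)) := by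
  have hfin : Finite ↥(chevF4.group F) := inferInstance
  rcases sct_F Nat.prime_two le_rfl hq X (Or.inl rfl) prim13 h13 with h | ⟨W, _, _, π, S, h⟩
  · exact ⟨fun h1 => four_le Nat.card_pos.ne' (by norm_num) h1 h,
      fun h1 => absurd h (four_le Nat.card_pos.ne' (by norm_num) h1)⟩
  have hB : Bf (2 ^ 1) (Nat.card X) 13 13 12 := ⟨Or.inl rfl, prim13, h13, rfl⟩
  have hb : Big X 13 13 12 := (bigF4 hq (Or.inl rfl) prim13).subgroup X
  obtain ⟨g, hg, hr, ho⟩ := good_of hcf h.sim h.na v2 (h.card_dvd.trans (dvd_two hq X))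
  obtain ⟨h5, h6⟩ := h.syl hB (by norm_num)
  have h7 := h.dvd _ _ _ hB
  have h8 : ¬ 17 ∣ Nat.card S := fun h9 => h17 (h9.trans h.card_dvd)
  rw [ho] at h6 h7 h8
  have h9 := c212 g hg h7 h8 _ h5 h6
  have h10 : Nat.card X = ordN g * S.index * Nat.card π.ker := by rw [h.card, ho, mul_assoc]
  have hcop : ∀ k, 2 ^ k ∣ Nat.card X → 2 ^ k ∣ ordN g * S.index := fun k hk =>
    (Nat.Coprime.pow_left k ((Nat.Prime.coprime_iff_not_dvd Nat.prime_two).2 h.pk)).dvd_of_dvd_mul_right (h10 ▸ hk)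
  refine ⟨fun h11 => h9.1 (hcop _ h11), fun h11 h12 => ?_⟩
  have p7 : Nat.Prime 7 := by norm_num
  have h7k : ¬ 7 ∣ Nat.card π.ker := by
    refine (bt_of_big hb p7 (by norm_num) fun k hk0 hk h14 => ?_).not_dvd_card p7 hb.prime h13 π.ker (h.rk _ _ _ hB)
    obtain ⟨j, hj, hkj⟩ := exists_pair v2 p7 hk0 (hk.trans (dvd_two hq X))
    have := (chk13 _ hj (by norm_num) k (List.mem_range.2 (Nat.lt_succ_of_le hkj)) hk0 h14).1
    omega
  have h14 := h9.2 (hcop _ h11) ((p7.dvd_mul.1 (h10 ▸ h12)).resolve_right h7k)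
  have hk : π.ker = ⊥ := by
    by_contra hne
    obtain ⟨A, x, k, hA, hAk, h1, h2, h3, h4, hc, h15⟩ := h.elem2 hq (Or.inl rfl) prim13 h13 rfl hne
    obtain ⟨h16, h18⟩ := chk13 x h1 h2 k h3 h4 h15
    rw [h16] at hc
    rcases h18 with rfl | rfl
    · have := Fact.mk p7
      have := Fact.mk hb.prime
      obtain ⟨y, hy⟩ := exists_prime_orderOf_dvd_card' 7 h12
      have h19 := card_mod A p7 hy
      have h20 : Nat.card ↥(A ⊓ centralizer ({y} : Set X)) ∣ 3 ^ 3 := hc ▸ Subgroup.card_dvd_of_le inf_le_left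
      obtain ⟨j, hj3, hj⟩ := (Nat.dvd_prime_pow Nat.prime_three).1 h20
      rw [hc, hj] at h19
      have h21 : j = 3 := by
        interval_cases j
        · exact absurd h19 (by decide)
        · exact absurd h19 (by decide)
        · exact absurd h19 (by decide)
        · rfl
      have h22 : A ⊓ centralizer ({y} : Set X) = A :=
        Subgroup.eq_of_le_of_card_ge inf_le_left (by rw [hc, hj, h21])
      have h23 : y ∈ centralizer (A : Set X) := by
        rw [mem_centralizer_iff]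
        intro a ha
        exact mem_centralizer_singleton_iff.1 ((inf_eq_left.1 h22) ha)
      have h24 : centralizer (A : Set X) ≤ π.ker := by
        refine h.core _ inferInstance ?_
        rintro r m e ⟨rfl | rfl, hr, hrX, -⟩ hd
        · obtain rfl := eq13 hr
          obtain ⟨z, hz⟩ := exists_prime_orderOf_dvd_card' 13 hd
          have h25 : A ≤ centralizer ({(z : X)} : Set X) := fun a ha =>
            mem_centralizer_singleton_iff.2 (mem_centralizer_iff.1 z.2 a ha)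
          have h26 := (Subgroup.card_dvd_of_le h25).trans (hb.card z (by rw [Subgroup.orderOf_coe, hz]))
          rw [hc] at h26
          revert h26
          decide
        · obtain rfl := eq17 hr
          exact h17 hrX
      exact h7k (hy ▸ Subgroup.orderOf_dvd_natCard _ (h24 h23))
    · have h19 : 3 ^ 6 ∣ Nat.card π.ker := hc ▸ Subgroup.card_dvd_of_le hAk
      have h20 : 3 ∣ ordN g := by
        rcases h14 with rfl | ⟨rfl, -⟩ <;> decide +kernel
      have h21 : 3 * 3 ^ 6 ∣ num (.f4 2) :=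
        (Nat.mul_dvd_mul (h20.mul_right _) h19).trans (h10 ▸ dvd_two hq X)
      revert h21
      decide +kernel
  obtain ⟨D, hD1, hD2, ⟨e⟩, hD3⟩ := h.lift hk
  rcases h14 with rfl | ⟨rfl, h15⟩
  · exact absurd (H394.Wei.real_congr hr e) (hG F hq D)
  · refine ⟨D, hD1, hD2, H394.Wei.real_congr hr e, by rw [Nat.card_congr e.toEquiv, ho], ?_⟩
    rcases h15 with h15 | h15
    · exact Or.inl (by rw [hD3, h15, mul_one])
    · exact Or.inr (by rw [hD3, h15, mul_comm])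

theorem pow_split {p a b x y : ℕ} (hp : p.Prime) (h : p ^ (a + b) ∣ x * y) (hx : ¬ p ^ (a + 1) ∣ x) : p ^ b ∣ y := by
  by_cases hy : y = 0
  · rw [hy]
    exact dvd_zero _
  have hx0 : x ≠ 0 := by
    rintro rfl
    exact hx (dvd_zero _)
  rw [hp.pow_dvd_iff_le_factorization (mul_ne_zero hx0 hy), fac_mul hx0 hy] at h
  rw [hp.pow_dvd_iff_le_factorization hx0] at hx
  rw [hp.pow_dvd_iff_le_factorization hy]
  omega

/-- **The factorisations of `F₄(2)`.** -/
theorem core2 (hcf : CF) (hG : BoxG) (hq : Fintype.card F = 2 ^ 1) {X Y : Subgroup ↥(chevF4.group F)} (hX : X ≠ ⊤)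
    (hY : Y ≠ ⊤) (hd : Pd X Y) (h13 : 13 ∣ Nat.card X) (h17 : 17 ∣ Nat.card Y) : Row (Fintype.card F) X Y := by
  have hX17 : ¬ 17 ∣ Nat.card X := fun h => hX (top_small hcf (by omega) X ⟨13, hq ▸ prim13, h13⟩ ⟨17, hq ▸ prim17, h⟩)
  have hY13 : ¬ 13 ∣ Nat.card Y := fun h => hY (top_small hcf (by omega) Y ⟨13, hq ▸ prim13, h⟩ ⟨17, hq ▸ prim17, h17⟩)
  have hdv := hd.card_dvd
  rw [card_F4, hq] at hdv
  have hdv' : num (.f4 (2 ^ 1)) ∣ Nat.card Y * Nat.card X := by rwa [mul_comm]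
  obtain ⟨hX1, hX2⟩ := factX2 hcf hG hq h13 hX17
  have h1 : 2 ^ 11 ∣ Nat.card Y :=
    pow_split (a := 13) Nat.prime_two ((by decide +kernel : 2 ^ (13 + 11) ∣ num (.f4 (2 ^ 1))).trans hdv) hX1
  obtain ⟨hY1, hY2, hY3⟩ := factY2 hcf hq h17 hY13 ((pow_dvd_pow 2 (by norm_num)).trans h1)
  obtain ⟨D, hD1, hD2, hD3, hD4, hD5⟩ := hX2
    (pow_split (a := 16) Nat.prime_two ((by decide +kernel : 2 ^ (16 + 8) ∣ num (.f4 (2 ^ 1))).trans hdv') hY1)
    (pow_split (a := 1) (b := 1) (by norm_num : Nat.Prime 7)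
      ((by decide +kernel : 7 ^ (1 + 1) ∣ num (.f4 (2 ^ 1))).trans hdv') hY2)
  have h2 : Nat.card X ∣ 3 * ordN (.td4 2) := by
    rcases hD5 with h | h <;> rw [h, hD4]
    exact Dvd.intro_left _ rfl
  rw [hq]
  refine ⟨⟨1, le_rfl, rfl⟩, ⟨D, hD1, hD2, hD3, hD5⟩, hY3 ?_ ?_⟩
  · refine pow_split (a := 12) Nat.prime_two ((by decide +kernel : 2 ^ (12 + 12) ∣ num (.f4 (2 ^ 1))).trans hdv)
      fun h => absurd (h.trans h2) (by decide +kernel)
  · refine pow_split (a := 0) (b := 2) Nat.prime_five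
      ((by decide +kernel : 5 ^ (0 + 2) ∣ num (.f4 (2 ^ 1))).trans hdv) fun h => absurd (h.trans h2) (by decide +kernel)

end

/-- **The factorisations of `F₄(q)` with a simple factor.** -/
theorem boxId (hcf : Cf) (hRk : BoxRk) (hOd : BoxOd) (hG : BoxG) : BoxId := by
  intro F _ _ T Y hs hT hY hd
  obtain ⟨p, f, _, hp, hf, hq⟩ := exists_pf F
  have hcl : ∀ c, c = 12 ∨ c = 8 → H73.Rg.PP p (f * c) ∣ Nat.card ↥(chevF4.group F) := by
    intro c hc
    rw [card_F4, hq]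
    show _ ∣ (p ^ f) ^ 24 * (((p ^ f) ^ 2 - 1) * ((p ^ f) ^ 6 - 1) * ((p ^ f) ^ 8 - 1) * ((p ^ f) ^ 12 - 1))
    rcases hc with rfl | rfl
    · exact ((H813.Rg.PP_dvd_pow hp hf (by norm_num) dvd_rfl).mul_left _).mul_left _
    · exact (((H813.Rg.PP_dvd_pow hp hf (by norm_num) dvd_rfl).mul_left _).mul_right _).mul_left _
  have key : ∀ X Y : Subgroup ↥(chevF4.group F), X ≠ ⊤ → Y ≠ ⊤ → Pd X Y → Rg.HAt p f 12 X → Rg.HAt p f 8 Y →
      IsSimpleGroup X ∨ IsSimpleGroup Y → Row (Fintype.card F) X Y := by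
    intro X Y hX hY hd h12 h8 hsim
    obtain ⟨r, hr, hrX⟩ := h12.exists_prim hp.two_le hf (by norm_num) (by norm_num)
    obtain ⟨s, hs, hsY⟩ := h8.exists_prim hp.two_le hf (by norm_num) (by norm_num)
    by_cases h3 : 3 ≤ p ^ f
    · exact core3 hcf hRk hOd hp hf hq h3 hX hY hd (by rwa [mul_comm]) hrX (by rwa [mul_comm]) hsY hsim
    · have h2 : p ^ f = 2 := by have := two_le hp hf; omega
      obtain ⟨rfl, rfl⟩ := (Nat.Prime.pow_eq_iff Nat.prime_two).1 h2
      exact core2 hcf hG hq hX hY hd (eq13 hr ▸ hrX) (eq17 hs ▸ hsY)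
  have hdv : Dv T Y := hd.card_dvd
  rcases hdv.half hp hf (by norm_num) (hcl 12 (Or.inl rfl)) with h12 | h12 <;>
  rcases hdv.half hp hf (by norm_num) (hcl 8 (Or.inr rfl)) with h8 | h8
  · exact absurd (kboth hcf hp hf hq T h8 h12) hT
  · exact Or.inl (key T Y hT hY hd h12 h8 (Or.inl hs))
  · exact Or.inr (key Y T hY hT hd.symm h12 h8 (Or.inr hs))
  · exact absurd (kboth hcf hp hf hq Y h8 h12) hY

end Cfsg.Agent.SM.Ex.Id
end

-- part: SM/F4/Uni
section
/-!
# SM (S3570), the row `³D₄(q) < F₄(q)`: the unipotent radical, opposite root groups, the mixed position (helper37)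
-/

set_option autoImplicit false
set_option linter.unusedSectionVars false

namespace Cfsg.Agent.SM.F4

open Cfsg Cfsg.Lie Subgroup Cfsg.Agent.H70.ChevFix Cfsg.Agent.ChevalleyStructure Cfsg.Agent.ChevalleyStructure.Elts
open Cfsg.Agent.H95.DG.F4 (hD IsGraph bar lam)
open Cfsg.Agent.H934.HeisF4Even (ct2)
open scoped commutatorElement

variable {F : Type} [Field F]

theorem fin_SS [Fintype F] : Finite (SS F) := by
  have : Finite (GL chevF4.Idx F) := Finite.of_injective _ Units.val_injective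
  infer_instance

/-- the lower bound for the order of a group generated by positive root groups -/
theorem le_card_gen [Fintype F] {l : List ℕ} (h : ∀ r ∈ l, 24 ≤ r ∧ r < 48) (hn : l.Nodup) :
    Fintype.card F ^ l.length ≤ Nat.card (gen F l) := by
  classical
  have := fin_SS (F := F)
  let c : (l.toFinset → F) → ℕ → F := fun t r => if k : r ∈ l.toFinset then t ⟨r, k⟩ else 0
  have hm : ∀ t, wordG hD ((UnipProd.rootsGE chevF4 24).map fun r => (r, c t r)) ∈ (gen F l).map (chevF4.group F).subtype :=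
    fun t => mem_of_xG_mem hD fun p hp => by
      obtain ⟨r, -, rfl⟩ := List.mem_map.1 hp
      by_cases k : r ∈ l.toFinset
      · exact ⟨xe hD r _, xe_mem_gen (List.mem_toFinset.1 k) _, rfl⟩
      · show xG hD r (c t r) ∈ _
        rw [show c t r = 0 from dif_neg k, xG_zero]
        exact one_mem _
  have h1 := Nat.card_le_card_of_injective (fun t => (⟨_, hm t⟩ : (gen F l).map (chevF4.group F).subtype))
    fun t t' e => funext fun r => by
      have k := h r (List.mem_toFinset.1 r.2)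
      have := UnipProd.prod_injective hD (k := 24) (by decide) (congrArg Subtype.val e) r k.1 k.2
      rwa [show c t r = t r from dif_pos r.2, show c t' r = t' r from dif_pos r.2] at this
  rwa [card_map_eq (subtype_injective _), Nat.card_fun, Nat.card_eq_fintype_card, Nat.card_eq_fintype_card,
    Fintype.card_coe, List.toFinset_card_of_nodup hn] at h1

theorem gen_le_of {l : List ℕ} {Y : Subgroup (GL chevF4.Idx F)} (h : ∀ r ∈ l, ∀ t : F, xG hD r t ∈ Y) {g : SS F}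
    (hg : g ∈ gen F l) : (g : GL chevF4.Idx F) ∈ Y := gen_le (Y := Y.subgroupOf _) h hg

theorem inJ (r : ℕ) : chevF4.InRootSub {0, 1, 2} r ↔ r < 48 ∧ (chevF4.coroot.getD r #[]).getD 3 0 = 0 :=
  and_congr Iff.rfl ⟨fun h => h 3 (by decide) (by simp), fun h i hi hj => by
    obtain rfl : i = 3 := by
      have : i < 4 := hi
      simp only [Set.mem_insert_iff, Set.mem_singleton_iff] at hj
      omega
    exact h⟩

theorem tabQ : ∀ r < 48, (chevF4.IsPosRoot r ∧ (chevF4.coroot.getD r #[]).getD 3 0 ≠ 0 ↔ r ∈ rQ) ∧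
    ((chevF4.coroot.getD r #[]).getD 3 0 = 0 ↔ r ∈ rL) ∧ (chevF4.IsPosRoot r ↔ 24 ≤ r) := by decide +kernel

theorem ltQ : ∀ r ∈ rQ, 24 ≤ r ∧ r < 48 := by decide

theorem ltL : ∀ r ∈ rL, r < 48 := by decide

theorem mem_Q0 {g : SS F} : g ∈ Q0 F ↔ (g : GL chevF4.Idx F) ∈ chevF4.unipotentRadical F {0, 1, 2} := by
  refine ⟨gen_le_of fun r hr t => ?_, fun h => ?_⟩
  · have k := ((tabQ r (ltQ r hr).2).1).2 hr
    exact subset_closure ⟨r, t, k.1, fun j => k.2 ((inJ r).1 j).2, rfl⟩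
  · have k : chevF4.unipotentRadical F {0, 1, 2} ≤ (Q0 F).map (chevF4.group F).subtype := (closure_le _).2 (by
      rintro y ⟨r, t, h1, h2, h3⟩
      rw [(eq_xG_iff hD y r t).2 h3]
      exact ⟨xe hD r t, xe_mem_gen (((tabQ r h1.1).1).1 ⟨h1, fun j => h2 ((inJ r).2 ⟨h1.1, j⟩)⟩) t, rfl⟩)
    exact (mem_map_iff_mem (subtype_injective _)).1 (k h)

theorem mem_levi {g : SS F} (h : g ∈ gen F rL) : (g : GL chevF4.Idx F) ∈ chevF4.leviSubgroup F {0, 1, 2} :=
  gen_le_of (fun r hr t => by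
    refine mem_sup_right (Subgroup.subset_closure ?_)
    exact ⟨r, t, (inJ r).2 ⟨ltL r hr, ((tabQ r (ltL r hr)).2.1).2 hr⟩, rfl⟩) h

theorem card_XX {r : ℕ} (hr : r < 48) : Nat.card (XX chevF4 F r) = Nat.card F :=
  (Nat.card_congr (Equiv.ofBijective (fun t => (⟨xe hD r t, xe_mem_XX hD r t⟩ : XX chevF4 F r))
    ⟨fun _ _ e => xe_inj hD hr (congrArg Subtype.val e), fun ⟨_, hg⟩ => by
      obtain ⟨t, rfl⟩ := (mem_XX hD).1 hg
      exact ⟨t, rfl⟩⟩)).symm

theorem card_Q0 [Fintype F] : Nat.card (Q0 F) = Fintype.card F ^ 15 := by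
  have := fin_SS (F := F)
  refine le_antisymm ?_ (le_card_gen ltQ (by decide))
  have h1 := le_card_gen (F := F) (l := [25, 27, 28, 30, 33, 34, 35, 37, 41]) (by decide) (by decide)
  have hU : ∀ l : List ℕ, (∀ r ∈ l, 24 ≤ r ∧ r < 48) → gen F l ≤ (chevF4.posUnipotent F).subgroupOf _ := fun l h =>
    gen_le fun r hr t => xG_mem_posUnipotent hD (((tabQ r (h r hr).2).2.2).2 (h r hr).1) t
  have h2 := card_mul_card_le (hU rQ ltQ) (hU [25, 27, 28, 30, 33, 34, 35, 37, 41] (by decide))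
  have h3 : gen F rQ ⊓ gen F [25, 27, 28, 30, 33, 34, 35, 37, 41] = ⊥ := (eq_bot_iff_forall _).2 fun g hg => by
    have k : (g : GL chevF4.Idx F) ∈ chevF4.unipotentRadical F {0, 1, 2} ⊓ chevF4.leviSubgroup F {0, 1, 2} :=
      ⟨mem_Q0.1 hg.1, mem_levi (gen_le (fun r hr t => xe_mem_gen ((by decide : ∀ r ∈ [25, 27, 28, 30, 33, 34, 35, 37, 41],
        r ∈ rL) r hr) t) hg.2)⟩
    rw [(S1048.result chevF4 hD _).2.2, mem_bot] at k
    exact Subtype.ext k
  rw [h3, card_bot, mul_one, Nat.card_congr (subgroupOfEquivOfLe (posUnipotent_le_group hD F)).toEquiv,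
    S1027.result chevF4 hD] at h2
  refine Nat.le_of_mul_le_mul_right (c := Fintype.card F ^ 9) (((Nat.mul_le_mul_left _ h1).trans h2).trans ?_)
    (by positivity)
  rw [← pow_add]
  rfl

/-- the normaliser of `Z` normalises `Q` -/
theorem norm_Q0 [CharP F 2] {g : SS F} (hg : g ∈ normalizer (Z0 F : Set (SS F))) {y : SS F} (hy : y ∈ Q0 F) :
    g * y * g⁻¹ ∈ Q0 F := by
  have k : ∀ g ∈ normalizer (Z0 F : Set (SS F)), ∀ x ∈ chevF4.rootSubgroup F 47,
      (g : GL chevF4.Idx F) * x * (g : GL chevF4.Idx F)⁻¹ ∈ chevF4.rootSubgroup F 47 := fun g hg x hx => by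
    obtain ⟨t, rfl⟩ := (mem_rootSubgroup_iff hD 47 x).1 hx
    exact mem_subgroupOf.1 (conj_mem (X := Z0 F) hg (xe_mem_XX hD 47 t))
  have h1 := H82.RootCent.mem_sup_of_normalizer hD (S2178.datLong F) g.2
    (H82.RootCent.mem_normalizer_of (k g hg) fun x hx => by
      have := k g⁻¹ (inv_mem hg) x hx
      rwa [coe_inv, inv_inv] at this)
  have h2 : H82.RootCent.M F chevF4 [14, 20, 22] ⊔ chevF4.diagonalSubgroup F ≤ chevF4.parabolicSubgroup F {0, 1, 2} := by
    rw [S1047.result chevF4 hD]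
    refine sup_le ((H82.RootCent.M_le_iff hD _).2 ⟨fun s hs c => ?_, fun s hs c => ?_⟩) le_sup_left
    · exact mem_sup_right (subset_closure ⟨s, c, Or.inl hs, rfl⟩)
    · have k : s ∈ rL := (by decide : ∀ s ∈ [14, 20, 22], s ∈ rL) s hs
      exact mem_sup_right (subset_closure ⟨s, c, Or.inr ((inJ s).2 ⟨ltL s k, ((tabQ s (ltL s k)).2.1).2 k⟩), rfl⟩)
  exact mem_Q0.2 (conj_mem ((S1048.result chevF4 hD _).1 (h2 h1)) (mem_Q0.1 hy))

section two

variable [CharP F 2]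

theorem comm_nil {r s : ℕ} (hr : r < 48) (hs : s < 48) (h : s = r ∨ (s ≠ r ∧ s ≠ chevF4.neg r ∧ ct2 chevF4 r s = []))
    (t u : F) : xe hD s u * xe hD r t = xe hD r t * xe hD s u := by
  rcases h with rfl | ⟨h1, h2, h3⟩
  · rw [← xe_add, ← xe_add, add_comm]
  · exact H934.HeisF4Even.comm2_nil hD hr hs h1 h2 h3 t u

theorem cent_gen {l : List ℕ} {r : ℕ} (hr : r < 48)
    (h : ∀ s ∈ l, s < 48 ∧ (s = r ∨ (s ≠ r ∧ s ≠ chevF4.neg r ∧ ct2 chevF4 r s = []))) (t : F) :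
    xe hD r t ∈ centralizer (gen F l : Set (SS F)) := fun _ hy =>
  mem_centralizer_singleton_iff.1 (gen_le (Y := centralizer {xe hD r t})
    (fun s hs u => mem_centralizer_singleton_iff.2 (comm_nil hr (h s hs).1 (h s hs).2 t u)) hy)

/-- the roots of the centre of `Q` -/
def rE : List ℕ := [29, 36, 38, 39, 40, 44, 47]

theorem tabE : ∀ r ∈ rE, r ∈ rQ ∧ ∀ s ∈ rQ, s < 48 ∧ (s = r ∨ (s ≠ r ∧ s ≠ chevF4.neg r ∧ ct2 chevF4 r s = [])) := by
  decide +kernel

theorem xe_mem_Zc {r : ℕ} (hr : r ∈ rE) (t : F) : xe hD r t ∈ Zc (Q0 F) :=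
  ⟨xe_mem_gen (tabE r hr).1 t, cent_gen (ltQ r (tabE r hr).1).2 (tabE r hr).2 t⟩

theorem tabL : ∀ s ∈ rL, (s ≠ 47 ∧ s ≠ chevF4.neg 47 ∧ ct2 chevF4 47 s = []) ∧
    s ≠ 0 ∧ s ≠ chevF4.neg 0 ∧ ct2 chevF4 0 s = [] := by decide +kernel

theorem xe_mem_L0 {s : ℕ} (hs : s ∈ rL) (u : F) : xe hD s u ∈ L0 F := (mem_L0 _).2 ⟨fun z hz => by
  obtain ⟨t, rfl⟩ := (mem_XX hD).1 hz
  exact comm_nil (by norm_num) (ltL s hs) (Or.inr (tabL s hs).1) t u, fun z hz => by
  obtain ⟨t, rfl⟩ := (mem_XX hD).1 hz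
  exact comm_nil (by norm_num) (ltL s hs) (Or.inr (tabL s hs).2) t u⟩

theorem tabC : ∀ r ∈ rQ, ∀ s ∈ rQ, s = r ∨ (s ≠ r ∧ s ≠ chevF4.neg r ∧ ∀ c ∈ ct2 chevF4 r s, c.1 = 47) := by
  decide +kernel

theorem Z0_le : Z0 F ≤ Zc (Q0 F) := fun z hz => by
  obtain ⟨t, rfl⟩ := (mem_XX hD).1 hz
  exact xe_mem_Zc (by decide) t

theorem com_Q0 : ⁅Q0 F, Q0 F⁆ ≤ Z0 F := by
  have hc : ∀ y ∈ Q0 F, ∀ z ∈ Z0 F, y * z * y⁻¹ = z := fun y hy z hz => conj_of_comm ((Z0_le hz).2 y hy)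
  rw [commutator_le]
  intro x hx y hy
  refine closure_induction₂ (p := fun x y _ _ => ⁅x, y⁆ ∈ Z0 F) ?_ ?_ ?_ ?_ ?_ ?_ ?_ hx hy
  · rintro _ _ ⟨s, hs, u, rfl⟩ ⟨r, hr, t, rfl⟩
    rcases tabC r hr s hs with rfl | ⟨h1, h2, h3⟩
    · rw [commutatorElement_eq_one_iff_mul_comm.2 (comm_nil (ltQ s hs).2 (ltQ s hs).2 (Or.inl rfl) t u)]
      exact one_mem _
    · have k := H934.HeisF4Even.comm2 hD (ltQ r hr).2 (ltQ s hs).2 h1 h2 t u
      have k2 : ((ct2 chevF4 r s).map fun c => xe hD c.1 (t ^ c.2.1 * u ^ c.2.2)).prod ∈ Z0 F :=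
        Subgroup.list_prod_mem _ fun z hz => by
          obtain ⟨c, hc, rfl⟩ := List.mem_map.1 hz
          rw [h3 c hc]
          exact xe_mem_XX hD 47 _
      have k3 : xe hD s u * xe hD r t = xe hD r t * xe hD s u *
        ((ct2 chevF4 r s).map fun c => xe hD c.1 (t ^ c.2.1 * u ^ c.2.2)).prod := k
      rw [commutatorElement_def, k3, mul_assoc _ (xe hD s u)⁻¹, ← mul_inv_rev,
        hc _ (mul_mem (xe_mem_gen hr t) (xe_mem_gen hs u)) _ k2]
      exact k2
  · intro x _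
    rw [commutatorElement_one_left]
    exact one_mem _
  · intro x _
    rw [commutatorElement_one_right]
    exact one_mem _
  · intro x y z hx _ _ h1 h2
    rw [show ⁅x * y, z⁆ = x * ⁅y, z⁆ * x⁻¹ * ⁅x, z⁆ by simp only [commutatorElement_def]; group, hc x hx _ h2]
    exact mul_mem h2 h1
  · intro y z x hy _ _ h1 h2
    rw [show ⁅x, y * z⁆ = ⁅x, y⁆ * (y * ⁅x, z⁆ * y⁻¹) by simp only [commutatorElement_def]; group, hc y hy _ h2]
    exact mul_mem h1 h2
  · intro x y hx _ h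
    rw [show ⁅x⁻¹, y⁆ = x⁻¹ * ⁅x, y⁆⁻¹ * x⁻¹⁻¹ by simp only [commutatorElement_def]; group,
      hc _ (inv_mem hx) _ (inv_mem h)]
    exact inv_mem h
  · intro x y _ hy h
    rw [show ⁅x, y⁻¹⁆ = y⁻¹ * ⁅x, y⁆⁻¹ * y⁻¹⁻¹ by simp only [commutatorElement_def]; group,
      hc _ (inv_mem hy) _ (inv_mem h)]
    exact inv_mem h

end two

theorem boxU : BoxU := fun F _ _ _ =>
  have := fin_SS (F := F)
  { cardZ := (card_XX (by norm_num)).trans Nat.card_eq_fintype_card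
    cardQ := card_Q0
    ZQ := Z0_le.trans inf_le_left
    comQ := com_Q0
    cardC := (le_card_gen (l := rE) (by decide) (by decide)).trans (card_le_of_le (gen_le fun _ => xe_mem_Zc))
    nQ := fun _ hg _ => norm_Q0 hg }

theorem mix [Fintype F] [CharP F 2] {γ : MulAut (SS F)} (h : IsGraph γ) :
    ∃ D ≤ Q0 F, Fintype.card F ^ 11 ≤ Nat.card D ∧ ∃ g, ∀ d ∈ D, γ (g * d * g⁻¹) ∈ Zc (Q0 F) ⊔ L0 F ⊔ Zm0 F := by
  have k : ∀ r ∈ [24, 26, 29, 31, 32, 42, 43, 44, 45, 46, 47], r ∈ rQ ∧ (bar r ∈ rE ∨ bar r ∈ rL) := by decide +kernel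
  refine ⟨gen F [24, 26, 29, 31, 32, 42, 43, 44, 45, 46, 47], gen_le fun r hr t => xe_mem_gen (k r hr).1 t,
    le_card_gen (l := [24, 26, 29, 31, 32, 42, 43, 44, 45, 46, 47]) (by decide) (by decide), 1, fun d hd => ?_⟩
  rw [one_mul, inv_one, mul_one]
  refine gen_le (Y := (Zc (Q0 F) ⊔ L0 F ⊔ Zm0 F).comap γ.toMonoidHom) (fun r hr t => ?_) hd
  show γ (xe hD r t) ∈ Zc (Q0 F) ⊔ L0 F ⊔ Zm0 F
  rw [h r (ltQ r (k r hr).1).2]
  exact mem_sup_left ((k r hr).2.elim (fun j => mem_sup_left (xe_mem_Zc j _)) fun j => mem_sup_right (xe_mem_L0 j _))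

theorem datF4 : S2186.Dat chevF4 [[3], [1, 2, 3]] where
  hU := by decide +kernel
  hN := by decide +kernel
  hW := by decide +kernel

theorem map_XX (g : SS F) (r : ℕ) : (XX chevF4 F r).map (MulAut.conj g).toMonoidHom =
    ((chevF4.rootSubgroup F r).map (MulAut.conj (g : GL chevF4.Idx F)).toMonoidHom).subgroupOf _ := by
  refine le_antisymm ?_ ?_
  · rintro _ ⟨x, hx, rfl⟩
    exact ⟨x, hx, rfl⟩
  · rintro y ⟨x, hx, e⟩
    obtain ⟨t, rfl⟩ := (mem_rootSubgroup_iff hD r x).1 hx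
    exact ⟨xe hD r t, xe_mem_XX hD r t, Subtype.ext e⟩

theorem opp [Fintype F] [CharP F 2] (g : SS F) (h : ¬ IsPGroup 2 ↥(Z0 F ⊔ (Z0 F).map (MulAut.conj g).toMonoidHom)) :
    ∃ p ∈ normalizer (Z0 F : Set (SS F)), (Z0 F).map (MulAut.conj (p * g)).toMonoidHom = Zm0 F := by
  have := fin_SS (F := F)
  obtain ⟨b, hb, n, hn, b', hb', e⟩ := S1100.exists_bruhat hD g.2
  obtain ⟨w, hw, hact⟩ := BruhatSplit.exists_acts hD hn
  have hwr := RootWord.wact_lt (RootComb.good_of_mem hD) hw (show 47 < chevF4.nroots by decide)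
  have hbG : b ∈ chevF4.group F := (S1043.result (F := F) chevF4 hD).1 hb
  have e0 : ∀ {b : GL chevF4.Idx F}, b ∈ chevF4.borelSubgroup F →
      (chevF4.rootSubgroup F 47).map (MulAut.conj b).toMonoidHom = chevF4.rootSubgroup F 47 := fun hb =>
    S2186.borel_conj hD datF4 hb
  have e1 : (Z0 F).map (MulAut.conj ((⟨b, hbG⟩ : SS F)⁻¹ * g)).toMonoidHom = XX chevF4 F (RootWord.wact chevF4 w 47) := by
    rw [map_XX, coe_mul, coe_inv, e, show (b⁻¹ * (b * n * b') : GL chevF4.Idx F) = n * b' by group, BruhatSplit.map_conj_mul,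
      e0 hb', hact _ (by decide)]
  have e2 : (Z0 F).map (MulAut.conj (⟨b, hbG⟩ : SS F)⁻¹).toMonoidHom = Z0 F := by
    rw [map_XX, coe_inv, e0 (inv_mem hb)]
  have hp : (⟨b, hbG⟩ : SS F)⁻¹ ∈ normalizer (Z0 F : Set (SS F)) := mem_norm fun x hx => e2.le ⟨x, hx, rfl⟩
  by_cases h0 : RootWord.wact chevF4 w 47 = 0
  · exact ⟨_, hp, by rw [e1, h0]⟩
  · refine absurd (S2186.isPGroup_of_conj (⟨b, hbG⟩ : SS F)⁻¹
      (S2186.isPGroup_pair (F := F) hD datF4 hwr h0).comap_subtype ?_) h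
    rw [Subgroup.map_sup, e2, map_conj_mul, e1]
    exact sup_le (comap_mono le_sup_left) (comap_mono le_sup_right)

end Cfsg.Agent.SM.F4
end

private theorem dce_bb3502d5e65e : _root_.True := by
  try have : _root_.True := by simp only [_root_.Cfsg.Agent.SM.Ex.Id.L4.eq_1]
  try have : _root_.True := by simp only [_root_.Cfsg.Agent.SM.Ex.Id.L3.eq_1]
  exact _root_.True.intro
end

-- part: SM/Sp/NoS
section
set_option linter.all false
open scoped Cfsg.Agent.FastGrp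

/-!
# SM (S3570), sporadic socles: `L₃(9)`, `S₄(8)`, `A₁₄` are not subgroups of `Co₁` (helper26)
-/

set_option autoImplicit false

namespace Cfsg.Agent.SM.Sp.NoS

open Cfsg Cfsg.Agent.TH.Spor Cfsg.Agent.OrdDiv

theorem no_ord {K : Type} [Group K] [Finite K] (h : Spor.IsoCo1 K) (g : K) : orderOf g ∉ [45, 65, 91] := by
  obtain ⟨T, -, -, -⟩ := in_co1 h
  rw [T.ord]
  exact (by decide +kernel : ∀ t < TAB.Co1.D.n, TAB.Co1.D.ord t ∉ [45, 65, 91]) _ (T.lt g)

variable {S : Type} [Group S] [Finite S]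

theorem name (hs : IsSimpleGroup S) (hn : ¬ IsMulCommutative S) {l : List (ℕ × ℕ)} {N : ℕ} (h : Nat.card S = N)
    (hv : valid l N = true) {L : List Grp} (hL : (cands l N).filter (fun g => Nat.beq (ordN g) N) = L) :
    ∃ g ∈ L, Real g S :=
  hL ▸ exists_real_filter base.table (base.known S hs) (fun h1 => hn ⟨⟨h1⟩⟩) hv h.dvd (fun n => Nat.beq n N)
    (by rw [h]; exact Nat.beq_refl N)

omit [Finite S] in
theorem of_equiv {G : Type} [Group G] (e : S ≃* G) {n : ℕ} (h : ∃ x : G, orderOf x = n) : ∃ x : S, orderOf x = n :=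
  h.elim fun x hx => ⟨e.symm x, (e.symm.orderOf_eq x).trans hx⟩

theorem l39 (hs : IsSimpleGroup S) (hn : ¬ IsMulCommutative S) (h : Nat.card S = 42456960) : ∃ x : S, orderOf x = 91 := by
  obtain ⟨g, hg, hr⟩ := name hs hn h (l := [(2, 7), (3, 6), (5, 1), (7, 1), (13, 1)]) (by decide +kernel)
    (L := [.psl 3 9]) (by decide +kernel)
  obtain rfl := List.mem_singleton.1 hg
  obtain ⟨F, _, _, hF, ⟨e⟩⟩ := hr
  exact of_equiv e (H72.AdjPSL.exists_order_of_block (H72.AdjPSL.hasBlock_singer (a := 3) (d := 91) (by norm_num)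
    (by rw [hF]; norm_num) (by rw [hF]; norm_num)) (by norm_num) le_rfl (by rw [hF]; norm_num) 91 dvd_rfl)

theorem s48 (hs : IsSimpleGroup S) (hn : ¬ IsMulCommutative S) (h : Nat.card S = 1056706560) :
    ∃ x : S, orderOf x = 65 := by
  obtain ⟨g, hg, hr⟩ := name hs hn h (l := [(2, 12), (3, 4), (5, 1), (7, 2), (13, 1)]) (by decide +kernel)
    (L := [.psp 2 8]) (by decide +kernel)
  obtain rfl := List.mem_singleton.1 hg
  obtain ⟨F, _, _, hF, ⟨e⟩⟩ := hr
  have : CharP F 2 := charP_of_card_eq_prime_pow (p := 2) (f := 3) hF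
  have h1 : H377.Elt F 2 (-1) 65 := H72.AdjOrth.elt_tn (k := 4) (by norm_num)
    (by rw [Nat.card_eq_fintype_card, hF]; decide)
  exact of_equiv e (H72.AdjSp.of_elt (by norm_num) h1)

theorem a14 (hs : IsSimpleGroup S) (hn : ¬ IsMulCommutative S) (h : Nat.card S = 43589145600) :
    ∃ x : S, orderOf x = 45 := by
  obtain ⟨g, hg, hr⟩ := name hs hn h (l := [(2, 10), (3, 5), (5, 2), (7, 2), (11, 1), (13, 1)]) (by decide +kernel)
    (L := [.alt 14]) (by decide +kernel)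
  obtain rfl := List.mem_singleton.1 hg
  obtain ⟨e⟩ := hr
  obtain ⟨x, hx⟩ := (Equiv.Perm.exists_with_cycleType_iff (Fin 14) (m := {9, 5})).2 (by decide)
  refine of_equiv e ⟨⟨x, Equiv.Perm.mem_alternatingGroup.2 ?_⟩, ?_⟩
  · rw [Equiv.Perm.sign_of_cycleType, hx]
    decide
  · rw [Subgroup.orderOf_mk, ← Equiv.Perm.lcm_cycleType, hx]
    decide

end Cfsg.Agent.SM.Sp.NoS

namespace Cfsg.Agent.SM.Sp

open Cfsg

/-- no simple subgroup of `Co₁` has the order of `L₃(9)`, `S₄(8)` or `A₁₄` -/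
theorem noS_co1 {K : Type} [Group K] [Finite K] (h : Spor.IsoCo1 K) (S : Subgroup K) (hs : IsSimpleGroup S)
    (hn : ¬ IsMulCommutative S) : Nat.card S ≠ 42456960 ∧ Nat.card S ≠ 1056706560 ∧ Nat.card S ≠ 43589145600 := by
  have key : ∀ n ∈ [45, 65, 91], ¬ ∃ x : S, orderOf x = n := fun n h1 ⟨x, hx⟩ =>
    NoS.no_ord h x (by rwa [Subgroup.orderOf_coe, hx])
  exact ⟨fun h1 => key 91 (by decide) (NoS.l39 hs hn h1), fun h1 => key 65 (by decide) (NoS.s48 hs hn h1),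
    fun h1 => key 45 (by decide) (NoS.a14 hs hn h1)⟩

end Cfsg.Agent.SM.Sp
end

-- part: SM/Sp/Par13
section
set_option linter.all false
open scoped Cfsg.Agent.FastGrp

/-!
# SM (S3570), sporadic socles: an element of order 13 of `O₇(3)`, `S₆(3)` normalises an abelian 3-group (helper26)
-/

set_option autoImplicit false

namespace Cfsg.Agent.SM.Sp.Par

open Cfsg Matrix Cfsg.Agent.H153.SixOmega
open scoped commutatorElement

/-- an element of order 13 of `N` acts non-trivially on an elementary abelian 3-group -/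
def Pr (G : Type) [Group G] (N : Subgroup G) : Prop :=
  ∃ (E : Subgroup G) (s : G), s ∈ N ∧ (∀ a ∈ E, ∀ b ∈ E, a * b = b * a) ∧ (∀ e ∈ E, e ^ 3 = 1) ∧ s ^ 13 = 1 ∧
    (∀ e ∈ E, s * e * s⁻¹ ∈ E) ∧ ∃ e ∈ E, s * e ≠ e * s

variable {G H : Type} [Group G] [Group H]

theorem key {s e : G} (h1 : s * ⁅s, e⁆ = ⁅s, e⁆ * s) (h2 : ⁅s, e⁆ ^ 3 = 1) (h3 : s ^ 13 = 1) : s * e = e * s := by
  have h4 : s * e = ⁅s, e⁆ * e * s := by rw [commutatorElement_def]; group
  generalize ⁅s, e⁆ = z at h1 h2 h4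
  have h5 : ∀ k : ℕ, s ^ k * e = z ^ k * e * s ^ k := fun k => by
    induction k with
    | zero => simp
    | succ k ih =>
      rw [pow_succ' s, mul_assoc, ih, ← mul_assoc, ← mul_assoc, ((show Commute s z from h1).pow_right k).eq,
        mul_assoc _ s e, h4, pow_succ z]
      simp only [mul_assoc]
  have h6 := h5 13
  rw [h3, one_mul, mul_one, show 13 = 3 * 4 + 1 from rfl, pow_succ, pow_mul, h2, one_pow, one_mul] at h6
  rw [h4, ← h6]

theorem comm_mem {E : Subgroup G} {s e : G} (h : ∀ e ∈ E, s * e * s⁻¹ ∈ E) (he : e ∈ E) : ⁅s, e⁆ ∈ E :=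
  E.mul_mem (h e he) (E.inv_mem he)

theorem Pr.map {N : Subgroup H} (h : Pr H N) (f : H →* G) (hf : f.ker ≤ Subgroup.center H) {M : Subgroup G}
    (hM : ∀ x ∈ N, f x ∈ M) : Pr G M := by
  obtain ⟨E, s, h1, h2, h3, h4, h5, e, he, h6⟩ := h
  refine ⟨E.map f, f s, hM s h1, ?_, ?_, by rw [← map_pow, h4, map_one], ?_, f e, ⟨e, he, rfl⟩, fun h7 => h6 ?_⟩
  · rintro _ ⟨a, ha, rfl⟩ _ ⟨b, hb, rfl⟩
    rw [← map_mul, h2 a ha b hb, map_mul]
  · rintro _ ⟨a, ha, rfl⟩
    rw [← map_pow, h3 a ha, map_one]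
  · rintro _ ⟨a, ha, rfl⟩
    exact ⟨_, h5 a ha, by rw [map_mul, map_mul, map_inv]⟩
  · refine key (Subgroup.mem_center_iff.1 (hf ?_) s) (h3 _ (comm_mem h5 he)) h4
    rw [MonoidHom.mem_ker, map_commutatorElement, commutatorElement_eq_one_iff_mul_comm, h7]

theorem Pr.inj {N : Subgroup H} (h : Pr H N) (f : H →* G) (hf : Function.Injective f) {M : Subgroup G}
    (hM : ∀ x ∈ N, f x ∈ M) : Pr G M :=
  h.map f (((MonoidHom.ker_eq_bot_iff f).2 hf).le.trans bot_le) hM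

theorem Pr.quot {N : Subgroup G} (h : Pr G N) : Pr (G ⧸ Subgroup.center G) ⊤ :=
  h.map (QuotientGroup.mk' _) (QuotientGroup.ker_mk' _).le fun _ _ => trivial

theorem Pr.sub (h : Pr G (commutator G)) : Pr (commutator G) ⊤ := by
  obtain ⟨E, s, h1, h2, h3, h4, h5, e, he, h6⟩ := h
  exact ⟨E.subgroupOf _, ⟨s, h1⟩, trivial, fun a ha b hb => Subtype.ext (h2 a ha b hb),
    fun a ha => Subtype.ext (h3 a ha), Subtype.ext h4, fun a ha => h5 a ha,
    ⟨⁅s, e⁆, Subgroup.commutator_mem_commutator trivial trivial⟩, comm_mem h5 he,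
    fun h7 => h6 (key (congrArg Subtype.val h7) (h3 _ (comm_mem h5 he)) h4)⟩

theorem Pr.out [Finite G] {N : Subgroup G} (h : Pr G N) : ∃ (E : Subgroup G) (s : G), IsPGroup 3 E ∧
    (∀ a ∈ E, ∀ b ∈ E, a * b = b * a) ∧ 9 ∣ Nat.card E ∧ orderOf s = 13 ∧ ∀ e ∈ E, s * e * s⁻¹ ∈ E := by
  classical
  obtain ⟨E, s, -, h2, h3, h4, h5, e, he, h6⟩ := h
  have := Fact.mk Nat.prime_three
  have : Fact (Nat.Prime 13) := ⟨by norm_num⟩
  have h7 : IsPGroup 3 E := fun x => ⟨1, Subtype.ext (h3 x x.2)⟩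
  refine ⟨E, s, h7, h2, ?_, orderOf_eq_prime h4 fun h8 => h6 (by rw [h8, one_mul, mul_one]), h5⟩
  obtain ⟨k, hk⟩ := IsPGroup.iff_card.1 h7
  by_contra h8
  have h9 : Nat.card E ≤ 3 := by
    rw [hk] at h8 ⊢
    exact pow_le_pow_right₀ (by norm_num : 1 ≤ 3) (Nat.lt_succ_iff.1 (not_le.1 fun h9 : 2 ≤ k => h8 (pow_dvd_pow 3 h9)))
  have h10 : e ≠ 1 := fun h10 => h6 (by rw [h10, one_mul, mul_one])
  have h11 : Subgroup.zpowers e = E := Subgroup.eq_of_le_of_card_ge (Subgroup.zpowers_le.2 he)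
    (by rwa [Nat.card_zpowers, orderOf_eq_prime (h3 e he) h10])
  obtain ⟨j, hj⟩ := (mem_zpowers_iff_mem_range_orderOf.1 (h11 ▸ h5 e he : s * e * s⁻¹ ∈ Subgroup.zpowers e) :)
    |> Finset.mem_image.1
  rw [orderOf_eq_prime (h3 e he) h10, Finset.mem_range] at hj
  obtain ⟨h12, h13⟩ := hj
  interval_cases j
  · exact h10 (by simpa using h13.symm)
  · exact h6 (by rw [← mul_inv_eq_iff_eq_mul, ← h13, pow_one])
  · have h14 : Commute (s * s) e := by
      have h15 : s * s * e * (s * s)⁻¹ = s * (s * e * s⁻¹) * s⁻¹ := by group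
      rw [← h13, ← conj_pow, ← h13, ← pow_mul, show 2 * 2 = 3 + 1 from rfl, pow_succ, h3 e he, one_mul] at h15
      exact mul_inv_eq_iff_eq_mul.1 h15
    have h15 := (h14.pow_left 7).eq
    rw [← pow_two, ← pow_mul, show 2 * 7 = 13 + 1 from rfl, pow_succ, h4, one_mul] at h15
    exact h6 h15

variable {F : Type} [Field F] [CharP F 3]

theorem of_mat (m : G →* Matrix (Fin 3 ⊕ Fin 3) (Fin 3 ⊕ Fin 3) F) (hm : Function.Injective m)
    (L : GL (Fin 3) F →* G) (hL : ∀ g, m (L g) = fromBlocks g.1 0 0 (g⁻¹).1ᵀ) {g : GL (Fin 3) F}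
    (h1 : g ∈ commutator (GL (Fin 3) F)) (h2 : g ^ 13 = 1) {e : G} {S : Matrix (Fin 3) (Fin 3) F}
    (he : m e = fromBlocks 1 S 0 1) (h3 : g.1 * S ≠ S * (g⁻¹).1ᵀ) : Pr G (commutator G) := by
  have k1 : ∀ S T : Matrix (Fin 3) (Fin 3) F,
      (fromBlocks 1 S 0 1 : Matrix (Fin 3 ⊕ Fin 3) (Fin 3 ⊕ Fin 3) F) *
        (fromBlocks 1 T 0 1 : Matrix (Fin 3 ⊕ Fin 3) (Fin 3 ⊕ Fin 3) F) = fromBlocks 1 (S + T) 0 1 := fun S T => by
    rw [fromBlocks_multiply]
    simp [add_comm]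
  have k2 : ∀ a : G, (∃ S, m a = fromBlocks 1 S 0 1) → a ^ 3 = 1 := fun a ⟨S, hS⟩ => hm (by
    have h4 : S + S + S = 0 := by
      ext i j
      have h5 : ((3 : ℕ) : F) = 0 := CharP.cast_eq_zero F 3
      simp only [Matrix.add_apply, Matrix.zero_apply]
      linear_combination (S i j) * h5
    rw [pow_three', map_mul, map_mul, hS, k1, k1, h4, fromBlocks_one, map_one])
  have k3 : ∀ a b : G, (∃ S, m a = fromBlocks 1 S 0 1) → (∃ S, m b = fromBlocks 1 S 0 1) →
      ∃ S, m (a * b) = fromBlocks 1 S 0 1 := fun a b ⟨S, hS⟩ ⟨T, hT⟩ => ⟨S + T, by rw [map_mul, hS, hT, k1]⟩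
  refine ⟨⟨⟨⟨{a | ∃ S, m a = fromBlocks 1 S 0 1}, k3 _ _⟩, ⟨0, by rw [map_one, fromBlocks_one]⟩⟩, fun {a} ha => ?_⟩, L g,
    hom_mem_commutator L h1, fun a ⟨S, hS⟩ b ⟨T, hT⟩ => hm ?_, k2, by rw [← map_pow, h2, map_one],
    fun a ⟨S, hS⟩ => ⟨g.1 * S * g.1ᵀ, ?_⟩, e, ⟨S, he⟩, fun h4 => h3 ?_⟩
  · rw [show a⁻¹ = a * a from inv_eq_of_mul_eq_one_left ((pow_three' a).symm.trans (k2 a ha))]
    exact k3 _ _ ha ha
  · rw [map_mul, map_mul, hS, hT, k1, k1, add_comm]
  · rw [← map_inv, map_mul, map_mul, hL, hL, hS, inv_inv, fromBlocks_multiply, fromBlocks_multiply]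
    simp [← transpose_mul]
  · have h5 := congrArg m h4
    rw [map_mul, map_mul, hL, he, fromBlocks_multiply, fromBlocks_multiply] at h5
    simpa using (fromBlocks_inj.1 h5).2.1

/-- an element of order 13 -/
def a0 : GL (Fin 3) (ZMod 3) := ⟨!![0, 0, 1; 1, 0, 1; 0, 1, 0], !![2, 1, 0; 0, 0, 1; 1, 0, 0], by decide, by decide⟩

/-- the Frobenius map -/
def r0 : GL (Fin 3) (ZMod 3) := ⟨!![0, 0, 1; 1, 1, 2; 0, 1, 2], !![0, 1, 2; 1, 0, 1; 1, 0, 0], by decide, by decide⟩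

theorem a0_pow : a0 ^ 13 = 1 := by
  have h1 : a0.1 * a0.1 * a0.1 = !![1, 0, 1; 1, 1, 1; 0, 1, 1] := by decide
  have h2 : (!![1, 0, 1; 1, 1, 1; 0, 1, 1] * !![1, 0, 1; 1, 1, 1; 0, 1, 1] * !![1, 0, 1; 1, 1, 1; 0, 1, 1] :
    Matrix (Fin 3) (Fin 3) (ZMod 3)) = !![2, 0, 1; 1, 2, 1; 0, 1, 2] := by decide
  refine Units.ext ?_
  rw [Units.val_pow_eq_pow_val, show 13 = 3 * 3 + 3 + 1 from rfl, pow_succ, pow_add, pow_mul, pow_three' a0.1, h1,
    pow_three', h2]
  decide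

theorem a0_mem : a0 ∈ commutator (GL (Fin 3) (ZMod 3)) := by
  have h1 : ⁅r0, a0⁆ = a0 ^ 2 := Units.ext (by
    rw [commutatorElement_def, pow_two]
    show r0.1 * a0.1 * r0.2 * a0.2 = a0.1 * a0.1
    decide)
  have h2 := Subgroup.pow_mem _ (h1 ▸ Subgroup.commutator_mem_commutator (Subgroup.mem_top r0) (Subgroup.mem_top a0)) 7
  rwa [← pow_mul, show 2 * 7 = 13 + 1 from rfl, pow_succ, a0_pow, one_mul] at h2

theorem of_mat' (m : G →* Matrix (Fin 3 ⊕ Fin 3) (Fin 3 ⊕ Fin 3) F) (hm : Function.Injective m)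
    (L : GL (Fin 3) F →* G) (hL : ∀ g, m (L g) = fromBlocks g.1 0 0 (g⁻¹).1ᵀ) {e : G}
    {S : Matrix (Fin 3) (Fin 3) (ZMod 3)} (he : m e = fromBlocks 1 (S.map (ZMod.castHom dvd_rfl F)) 0 1)
    (h3 : a0.1 * S ≠ S * a0.2ᵀ) : Pr G (commutator G) := by
  refine of_mat m hm L hL (g := GeneralLinearGroup.map (ZMod.castHom dvd_rfl F) a0) (hom_mem_commutator _ a0_mem)
    (by rw [← map_pow, a0_pow, map_one]) he fun h4 => h3 (Matrix.map_injective (ZMod.castHom dvd_rfl F).injective ?_)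
  show Matrix.map _ _ = Matrix.map _ _
  rw [Matrix.map_mul, Matrix.map_mul, transpose_map]
  exact h4

theorem psp : Pr (PSp 3 F) ⊤ :=
  (of_mat' (symplecticGroup (Fin 3) F).subtype Subtype.val_injective (S0778.blkHom 3) (fun _ => rfl) (S := 1)
    (e := ⟨_, LieClassical.SympCenter.upper_mem 3 (by rw [← transpose_map, transpose_one])⟩) rfl (by decide)).quot

/-- the Levi factor -/
def levHom : GL (Fin 3) F →* H6 F where
  toFun g := lev g.1 (g⁻¹).1 g.mul_inv g.inv_mul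
  map_one' := H6.ext (by
    show fromBlocks _ _ _ _ = 1
    simp)
  map_mul' g h := by
    rw [lev_mul]
    exact H6.ext rfl

theorem oodd : Pr (POmega F (quadFormOdd 3 F)) ⊤ := by
  have h1 : Pr (H6 F) (commutator _) :=
    of_mat' ((Units.coeHom _).comp (H6 F).subtype) (Units.val_injective.comp Subtype.val_injective) levHom (fun _ => rfl)
      (S := !![0, 1, 0; -1, 0, 0; 0, 0, 0]) (e := sie _ fun v => by
        simp [Matrix.mulVec, dotProduct, Fin.sum_univ_succ]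
        ring) rfl (by decide)
  exact (h1.inj _ (extIso_injective (Equiv.sumComm _ _) (quadFormPlus 3 F) (quadFormOdd 3 F) (fun v => v () ^ 2)
    fun v => add_comm _ _) fun _ hx => hom_mem_commutator _ hx).sub.quot

end Cfsg.Agent.SM.Sp.Par

namespace Cfsg.Agent.SM.Sp

open Cfsg

/-- **an element of order 13 normalises an abelian 3-group of order at least 9** -/
theorem par13 {S : Type} [Group S] [Finite S] (hs : IsSimpleGroup S) (hn : ¬ IsMulCommutative S)
    (h : Nat.card S = 4585351680) : ∃ (E : Subgroup S) (s : S), IsPGroup 3 E ∧ (∀ a ∈ E, ∀ b ∈ E, a * b = b * a) ∧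
      9 ∣ Nat.card E ∧ orderOf s = 13 ∧ ∀ e ∈ E, s * e * s⁻¹ ∈ E := by
  obtain ⟨g, hg, hr⟩ := NoS.name hs hn h (l := [(2, 9), (3, 9), (5, 1), (7, 1), (13, 1)]) (by decide +kernel)
    (L := [.psp 3 3, .oodd 3 3]) (by decide +kernel)
  rcases List.mem_pair.1 hg with rfl | rfl
  all_goals
    obtain ⟨F, _, _, hF, ⟨e⟩⟩ := hr
    have := Fact.mk Nat.prime_three
    have : CharP F 3 := charP_of_card_eq_prime_pow (p := 3) (f := 1) hF
  · exact (Par.psp.inj e.symm.toMonoidHom e.symm.injective (M := ⊤) fun _ _ => trivial).out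
  · exact (Par.oodd.inj e.symm.toMonoidHom e.symm.injective (M := ⊤) fun _ _ => trivial).out

end Cfsg.Agent.SM.Sp
end

-- part: SM/Sp/LCo1
section
set_option linter.all false
open scoped Cfsg.Agent.FastGrp

-- part: SM/Sp/Enum2
section
/-!
# SM (S3570), sporadic socles: the enumeration with some orders of `X` skipped (helper26)
-/

set_option autoImplicit false

namespace Cfsg.Agent.SM.Sp

open Cfsg Cfsg.Agent.TAB.Eng Cfsg.Agent.TAB.Use Cfsg.Agent.SB.SporL Cfsg.Agent.TH Cfsg.Agent.TH.Spor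
  Cfsg.Agent.OrdDiv Cfsg.Agent.H940.Eng

/-- the order of `X` is skipped or the pair is in the list -/
def Ls2 (K : Type) [Group K] (sk : List ℕ) (L : List (ℕ × ℕ)) : Prop :=
  ∀ X Y : Subgroup K, Fa X Y → Nat.card X ∈ sk ∨ (Nat.card X, Y.index) ∈ L

/-- the list of the pieces -/
noncomputable def okW2 (E : Ed) (r : ℕ) (l1 : List (ℕ × ℕ)) (sk : List ℕ) (W : List (ℕ × ℕ)) : Bool :=
  frcL (divsT l1) fun DV => allL (fun a => cond (memL a sk) true
    (cond (dv r a) (allL (fun d => cond (dv d a) (memP a d W) true) DV) true)) E.oa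

variable {K : Type} [Group K] [Finite K] {D : Dat} {T : TD K D} {R : Rows} {E : Ed} {X Y : Subgroup K}

theorem EdOk.mem2 (H : EdOk T E) (h : Fa X Y) {ld : LD} (hl : ld ∈ E.loc) (hd : ld.r ∣ E.N) (hb : Sp.okB E ld = true)
    {l1 l2 W : List (ℕ × ℕ)} {sk : List ℕ} (hk : Nat.card X ∉ sk) (hs : E.l = l1 ++ l2)
    (hW : okW2 E ld.r l1 sk W = true) (hD : ∀ w ∈ W, ∃ W', okD E l2 W' = true ∧ w ∈ W') :
    (Nat.card X, Y.index) ∈ E.SV := by
  refine H.leaf h ?_
  by_cases h1 : ld.r ∣ Nat.card X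
  · have h2 : Y.index ∣ prodl l1 * prodl l2 := by
      rw [← prodl_append, ← hs, valid_prod H.val, ← H.card]
      exact Y.index_dvd_card
    have h3 : ∀ x ∈ l1 ++ l2, x.1.Prime := hs ▸ valid_prime H.val
    obtain ⟨a, b, h4, h5, h6⟩ := Nat.dvd_mul.1 h2
    have h7 : a * b ∣ Nat.card X := h6 ▸ h.pd.index_dvd
    rw [okW2, frcL_eq] at hW
    obtain ⟨W', h8, h9⟩ := hD _ (memP_spec (cond_imp_spec (allL_spec (cond_imp_spec (cond_true_spec
      (allL_spec hW _ (H.mem_oa h)) fun h8 => hk (memL_spec h8)) (dv_iff.2 h1)) a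
        (mem_divsT (fun x hx => h3 x (List.mem_append_left _ hx)) h4)) (dv_iff.2 ((dvd_mul_right a b).trans h7))))
    rw [← h6]
    have h10 : allD (Sp.leaf E (Nat.card X)) l2 (Nat.card X) a = true :=
      allL_spec (f := fun w : ℕ × ℕ => allD (Sp.leaf E w.1) l2 w.1 w.2) h8 (Nat.card X, a) h9
    exact allD_spec (P := Sp.leaf E (Nat.card X)) (fun x hx => h3 x (List.mem_append_right _ hx)) _ a b h10
      ((dvd_mul_left b a).trans h7) h5
  · exact H.okB h hl hb h1 ((h.pd.prime_dvd (H.loc ld hl).1 (H.card ▸ hd)).resolve_left h1)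

theorem ls2_of_enum (hI : In K D R) (h1 : okEd D R E = true) (h2 : Ords.{0} E.N E.ords)
    (h3 : ∀ A : Subgroup K, A.index ∉ E.ni) {ld : LD} (hl : ld ∈ E.loc) (hd : ld.r ∣ E.N) (hb : okB E ld = true)
    {l1 l2 W : List (ℕ × ℕ)} {sk : List ℕ} (hs : E.l = l1 ++ l2) (hW : okW2 E ld.r l1 sk W = true)
    (hD : ∀ w ∈ W, ∃ W', okD E l2 W' = true ∧ w ∈ W') : Ls2 K sk E.SV := by
  obtain ⟨T, hm, hT, hu⟩ := hI
  exact fun X Y h => or_iff_not_imp_left.2 fun hk => (edOk_of hm hu hT h1 h2 h3).mem2 h hl hd hb hk hs hW hD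

theorem ls2_of_cert {Z : List Ze} {l : List (ℕ × ℕ)} (hI : In K D R) {sk : List ℕ} {SV L : List (ℕ × ℕ)}
    (h0 : Ls2 K sk SV) (hv : valid l D.N = true)
    {P : List (ℕ × ℕ × ℕ)} {SG : List ℕ} (h1 : (okP D P && okZ D Z && okIdx R && okSG R SG) = true) {FL : List Hd}
    (h2 : ∀ x ∈ FL, ∃ CL, okL D R P Z CL = true ∧ x ∈ CL.map Prod.fst) {SS : List ((ℕ × ℕ) × Ps)}
    (h3 : okS D.N l SG FL SS = true) (h4 : SV = L ++ SS.map Prod.fst) : Ls2 K sk L := by
  obtain ⟨T, hm, hT, hu⟩ := hI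
  simp only [Bool.and_eq_true] at h1
  obtain ⟨⟨⟨c1, c2⟩, c3⟩, c4⟩ := h1
  intro X Y h
  refine (h0 X Y h).imp_right fun h0 => (List.mem_append.1 (h4 ▸ h0)).resolve_right fun h5 => ?_
  obtain ⟨⟨y, s⟩, hx, rfl⟩ := List.mem_map.1 h5
  have h6 := allL_spec h3 _ hx
  have h7 : Nat.div D.N Y.index = Nat.card Y := by
    rw [← hm.1]
    exact Nat.div_eq_of_eq_mul_left (index_pos' Y) Y.card_mul_index.symm
  rw [frc_eq, frc_eq, h7, show Nat.div (Nat.card X) Y.index = _ from h.div] at h6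
  exact runP_spec (hm.1 ▸ hv) (zs_of c2) hT c4 (fun x hx => by
    obtain ⟨CL, h8, h9⟩ := h2 x hx
    exact dead_of hm hu hT c3 (zs_of c2) c1 h8 x h9) h s [] [] nofun nofun h6

end Cfsg.Agent.SM.Sp
end

-- part: SM/Sp/NCo1D
section
/-!
# SM (S3570), sporadic socles: Co1, data (helper26; generated by notes/SM/sp26/gen3.py.txt)
-/

set_option autoImplicit false
set_option Elab.async false

namespace Cfsg.Agent.SM.Sp.NCo1

open Cfsg Cfsg.Agent.TAB.Eng Cfsg.Agent.H940.Eng Cfsg.Agent.TH.Spor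

/-- local data -/
def loc : List LD :=
  [⟨23, 23, [(11, 1), (23, 1)]⟩, ⟨13, 1872, [(2, 4), (3, 2), (13, 1)]⟩, ⟨11, 132, [(2, 2), (3, 1), (5, 1), (11, 1)]⟩]

/-- the pairs which remain -/
def L : List (ℕ × ℕ) :=
  [(42456960, 98280), (251596800, 98280), (251596800, 8386560), (1056706560, 98280), (3113510400, 98280),
  (4585351680, 98280), (43589145600, 98280)]

/-- the candidates -/
noncomputable def SV : List (ℕ × ℕ) :=
  Fq.dP 8386561 541451068516484904961 110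
  0x139b1b67b5b7d864add9a1a00d19fd7c230f4ce15fc56a604ee6cc1a2cbeb878e4fb4f57bdaa6d71f1f184466663b9f39c795783cf690a68dd9d9611bc9408259b712e075cadf0ecffdefe8c68919332faae89db26148f15c5d9c6e0593f6c72d3ffc67e7b3a05381d0726a53bd130a21261b56bc861d0b479736cea7f7ab5d8406778cc3c4e7049a386e93d98bdf0b9ec514e5f167ab2a475142681d8f3eab58487faf59a071e597af3d858c32174f5302ad7722e52bbf4430e415ba432d673a2ec9a61636ae3f740c2800e0f6a2f78a3b91c8319b3db54b9d1c2d86457ab74f34800ee3c1dd8db8a5d6d0e734bc9798d33e58bcdb71ba4f336a6c6178a618e17affc885cf0bcc7a1b59d1c0dfe64b9bd5c461ccc31f1a4087fafc0004b39c531da219c06ccc0bf8defe2f532eee4591577df3759b141963796241993095f03093cd251aa64a42ba398cb4084a03db1cb94bc58ddfd333405ef5331b473f60ad79ae146b888f02859cf03f581225571938e1e4576b5feaf1bc3be4f90e2e2a78df0db1b3caeddbd68176f611aa0f18d7e0c3f45d3fd72c39e2e74c3c043fed98545ab6b48b2e3c8926ce4d65b36904b1c858230fec1e83e938cec9278575575aea1bf5939dffa03fa9de711098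9c042b3bc2a429d49e4d5ba151eea89153f9304c9800ceaf9e82f46a6645fdc4af85eb17bb1875d95750706b259c05ecdb4f724a8b392dd5f37c5879305ace592409ddea04ead3f74e46f7f1e2705ed35f8d1611aeec36898454df3a7a876833ab87c2b6ad954e2cbedc39246f2a7ac670399f306ee438c7cd24c030c8374d365f95ae25fbce029b361278017f7132c5c3264e8c3ba61ede3c9466827e291722949e38224364a24c0658a029a933446bf8863e57f20fe9cc71306b61d59f0064b4e764314bf5270b19da9f2fc20ac13f2c4be3659ed990c04ec31a45544588d3d0f19c86fec969fece2d0bb439416556eacb8ccfbaf4630762382ed3499e1036d3796bd30004da1084a3368addffa4bf7979d1442c239af937718d0c605c81bfa92815a0f2a20e5da4e4cf67e04aebffe3096aa36d80b7f52293c880179d92668cdc6f5332e132ce920f4543dca45856147e5aef8501ec25bba85cc0eca0f19515ea0574e9a2573e27f7fb81047a0bca355cdc07a9f22cf2727fb8fef0863c272478cc62e28072e1ff8b2f6b7e9254823184ad76677238a1b44807eff2f84c3059682ebcbb26b65eb08fd4ed82d62c56ad6dc999589e904c2fe0a955b77e9e4d9519b800651cce91b2f99f13b1a4398695eae4b3bae86c0f8a4f5c2d97cc6775a30ead706283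

/-- the data -/
noncomputable def E : Ed :=
  ⟨4157776806543360000, [(23, 1), (13, 1), (11, 1), (7, 2), (5, 4), (3, 9), (2, 21)], H940.Eng.D.o_co1, loc, 276, [],
  [(23, 77), (13, 57), (11, 43)], [60, 168, 360, 504, 660, 1092, 2520, 5616, 6048, 6072, 7800, 7920, 9828, 20160,
  25920, 29120, 58800, 62400, 95040, 126000, 181440, 262080, 443520, 604800, 1451520, 1814400, 3265920, 4245696,
  4680000, 6065280, 10200960, 13685760, 17971200, 19958400, 42456960, 44352000, 174182400, 211341312, 239500800,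
  244823040, 251596800, 898128000, 1056706560, 3113510400, 4585351680, 9196830720, 43589145600, 448345497600,
  495766656000, 653837184000, 10461394944000, 42305421312000, 64561751654400], SV⟩

theorem ok1 : okEd TAB.Co1.D (TAB.Sm2.mkRows TAB.Co1.RA TAB.Co1.RB) E = true := by decide +kernel

/-- the types of prime order -/
def P : List (ℕ × ℕ × ℕ) :=
  [(23, 77, 361545809264640000), (13, 57, 26652415426560000), (11, 43, 62996618280960000), (7, 26, 235701633024000),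
  (7, 27, 3535524495360000), (5, 14, 1374926192640), (5, 15, 115493800181760), (5, 16, 277185120436224), (3, 4,
  3091200), (3, 5, 70726656000), (3, 6, 330057728000), (3, 7, 7638478848000), (2, 1, 46621575), (2, 2, 2065694400),
  (2, 3, 10680579000)]

/-- the types -/
def Z : List Ze :=
  [(1, 2, 46621575, [1]), (2, 2, 2065694400, [2]), (3, 2, 10680579000, [3]), (4, 3, 3091200, [4]), (5, 3,
  70726656000, [5]), (6, 3, 330057728000, [6]), (7, 3, 7638478848000, [7]), (8, 4, 11189178000, [1]), (9, 4,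
  3524591070000, [1]), (10, 4, 5639345712000, [1]), (11, 4, 14098364280000, [1]), (12, 4, 85932887040000, [2]), (13,
  4, 270688594176000, [3]), (14, 5, 1374926192640, [14]), (15, 5, 115493800181760, [15]), (16, 5, 277185120436224,
  [16]), (17, 6, 417729312000, [4, 1]), (18, 6, 8593288704000, [4, 2]), (19, 6, 26734675968000, [5, 1]), (20, 6,
  26734675968000, [6, 1]), (21, 6, 200510069760000, [5, 1]), (22, 6, 267346759680000, [6, 1]), (23, 6,
  1203060418560000, [5, 3]), (24, 6, 2887345004544000, [7, 2]), (25, 6, 7218362511360000, [7, 3]), (26, 7,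
  235701633024000, [26]), (27, 7, 3535524495360000, [27]), (28, 8, 45114765696000, [1]), (29, 8, 676721485440000,
  [1]), (30, 8, 676721485440000, [1]), (31, 8, 2030164456320000, [1]), (32, 8, 5413771883520000, [1]), (33, 8,
  5413771883520000, [1]), (34, 9, 2138774077440000, [6]), (35, 9, 8555096309760000, [6]), (36, 9, 8555096309760000,
  [6]), (37, 10, 433101750681600, [14, 1]), (38, 10, 3464814005452800, [15, 2]), (39, 10, 3464814005452800, [14, 2]),
  (40, 10, 6929628010905600, [15, 1]), (41, 10, 6929628010905600, [16, 1]), (42, 10, 25986105040896000, [15, 3]),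
  (43, 11, 62996618280960000, [43]), (44, 12, 30076510464000, [4, 1]), (45, 12, 451147656960000, [4, 1]), (46, 12,
  902295313920000, [4, 1]), (47, 12, 1604080558080000, [6, 1]), (48, 12, 2406120837120000, [5, 1]), (49, 12,
  4812241674240000, [4, 2]), (50, 12, 7218362511360000, [5, 1]), (51, 12, 14436725022720000, [5, 1]), (52, 12,
  14436725022720000, [6, 1]), (53, 12, 14436725022720000, [5, 1]), (54, 12, 14436725022720000, [6, 1]), (55, 12,
  57746900090880000, [7, 2]), (56, 12, 86620350136320000, [7, 3]), (57, 13, 26652415426560000, [57]), (58, 14,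
  24748671467520000, [26, 2]), (59, 14, 74246014402560000, [27, 1]), (60, 15, 769958667878400, [14, 4]), (61, 15,
  4619752007270400, [15, 4]), (62, 15, 23098760036352000, [14, 7]), (63, 15, 46197520072704000, [15, 5]), (64, 15,
  138592560218112000, [16, 6]), (65, 16, 64965262602240000, [1]), (66, 16, 64965262602240000, [1]), (67, 18,
  19248966696960000, [6, 1]), (68, 18, 76995866787840000, [6, 1]), (69, 18, 76995866787840000, [6, 1]), (70, 20,
  8662035013632000, [14, 1]), (71, 20, 103944420163584000, [15, 3]), (72, 20, 207888840327168000, [16, 1]), (73, 21,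
  16499114311680000, [26, 4]), (74, 21, 65996457246720000, [26, 5]), (75, 21, 197989371740160000, [27, 7]), (76, 22,
  188989854842880000, [43, 3]), (77, 23, 361545809264640000, [77]), (78, 24, 7218362511360000, [4, 1]), (79, 24,
  21655087534080000, [4, 1]), (80, 24, 28873450045440000, [5, 1]), (81, 24, 43310175068160000, [4, 1]), (82, 24,
  86620350136320000, [5, 1]), (83, 24, 173240700272640000, [6, 1]), (84, 26, 79957246279680000, [57, 2]), (85, 28,
  148492028805120000, [26, 2]), (86, 28, 148492028805120000, [27, 1]), (87, 30, 34648140054528000, [14, 4, 1]), (88,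
  30, 69296280109056000, [14, 7, 2]), (89, 30, 69296280109056000, [15, 4, 2]), (90, 30, 138592560218112000, [16, 6,
  1]), (91, 30, 138592560218112000, [15, 5, 1]), (92, 33, 125993236561920000, [43, 4]), (93, 35, 118793623044096000,
  [26, 14]), (94, 36, 115493800181760000, [6, 1]), (95, 39, 213219323412480000, [57, 4]), (96, 40,
  103944420163584000, [14, 1]), (97, 42, 49497342935040000, [26, 4, 2]), (98, 60, 69296280109056000, [14, 4, 1])]

end Cfsg.Agent.SM.Sp.NCo1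
end

-- part: SM/Sp/NCo1
section
/-!
# SM (S3570), sporadic socles: Co1 (helper26; generated by notes/SM/sp26/gen3.py.txt)
-/

set_option autoImplicit false
set_option Elab.async false

namespace Cfsg.Agent.SM.Sp.NCo1

open Cfsg Cfsg.Agent.TAB.Eng Cfsg.Agent.H940.Eng Cfsg.Agent.TH.Spor

/-- the prepared lists -/
noncomputable def Qq : List Fq.Lq :=
  [(23, [23, 253],
  Fq.dN 4157776806543360001 8 0x6fc042d1b6945fa82ab087a45400bc561cb0f22cddeb7356ddcd7b6dbfc60992736f308cd45680f4c59f7a8b015ccf5b48e52e050aab4bf1fdd5f40e484c,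
  [(2097152, 2049), (19683, 1), (625, 1), (49, 1), (11, 1), (13, 1)]),
  (11, [11, 22, 33, 44, 55, 66, 110, 132, 165, 220, 330, 660],
  Fq.dN 49893321678520320001 122 0x8befa1281743eeb9c029c5bff48d613af1f37f90b36632e94fa0f00f4f9d469dc470e6619f0802734ab33c1551de97acd1b18028fcea4a3096bc42784497c70cc543a93612bed3ae839f1f8ef5f93f7ac6d8ef93b914280db58d0064c685dddd363bf919de66308a86845d40c02beb015fd9e098643c4cd49733eb3075be1d9c2c21294a865fc9aa8395df288ea7bb579bd338cb9a8278dead0d8abc61477836f98f9d2465b408371e57e605b6b323abe2919df16240e1661ac7f8315ac05ff4d9e30b40b8ed528712597818ff5d633d17649c486bdde682333495cb363b40198d4d6bd12e2ea8ad5bcd7c536203977781bf5b343a6a828c5851066936e2ab3f24d88def55cbb341ff14cdbb58d70d626b4dbf3a2db52957db3a934a087b97896777c8c67c30f7d79e412acacb5f6474c131219299d06b38a6c59ff1d1f27eae78453a4a1450d3994b8c6f9fc300086da7455345d6a6f1f241408cfc0486715c16ce6aac6b1e7943230a6549f0a2a99e73d1c9c23e4098b07ba161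797633ca6f0f02f62f0337cd20f916136a5387334affdbc14c1653e18cbb1860c551acfc4357a5d5204cf5679417a9b5578c7711ab3ec8deed307cfbcaf7ca26af61f0e07be63acb09fe431f0e787d685fae6792b54340fc1c0e3da2704e7f93c0d8c02b5e8d8f7b68174b73720d20194c011495d1b27dcb79e4cf76232ec75c1c8acc65e41def78e8874af3ab292f1d7d73c05688a6d3decdb6c7eb430d9e3e521bd6975b2741d7beafda86c958e79ce08173e119a6c0eeb1def0fb6052f31a72011e35f626a667639fd8e7cdab410f3bd80fce855010437f49b4d937893f0d7d8ed9cbf6d0a3354761dabafc9ed64ca96a03b560ec8afa1ae1a2bd631880ffedd044c9eb7242e88dd47c2b79e0215375b716cff223f8a5dda8473aa42edb86ade1e4ca8bbd151f92d1a0bd8087f0f9703083a6a7dbec305f7fdc77be83ccf9ac0f46d5db7f9d3a3c561c91a64dac1a67f42edef6452c951a85e8891301f9a13c036318cccc4b65f3f55fa0c49b1c7a1229e9d5d94b57da14238c2007c0c5fa66f56c08b54006423bee65f1ecf47db131171efb1983735ad1e47ae40d16e0c0690eb8f1fe06ade2282e75aec0e8b269b9952008be07c63ee7fc9a74f4d7bd021bc6cce03ab1ae951a3a86741b60808430e620cc85d8ef839d84a281231590f8fc2787c30ca65e47dc409f83c285df908db33cf0433aa45d12a462c64d61ab851f911eddd849de10c5bf399d426fca0abcbae8184fdf2791627981a65337722575805bfdc1a27e2f9994abc8699d90c38caf7714547a13fb74a04b36d858d6bfd211579ad59d114d454e4e301fc509e812eebd80332f369437baeb6aa94487e92a9819d70ffe50c169ada4,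
  [(2097152, 3152903), (19683, 643), (625, 1), (49, 1), (13, 1)]),
  (13, [13, 26, 39, 52, 78, 104, 117, 156, 208, 234, 312, 468, 624, 936, 1872],
  Fq.dN 598719860142243840001 200 0x110372494d28984ed5851750f94a7119684e223196bd7ad28a926248d15f3e459f6b689da9bb496eb76a9d28aec8f7bc40d44fbb248a7177118cdf5d51e262f71e6d65a8e7825cb93319af4704cf43e7f0973fb69fc21650700eaf999f1c34ad0452311445a16930015f9e28caf62fff756ae9de6736ce7af61bbc3fead198a2cfa4a5c023ee82a57fc0c84ea931543a9afdd83f7998fa83fa9dcb2ea9b2d913fe4d6c882a0586a57a840ed96f6a140162870046d4a0585f72f2dfdada554ce6c5d48990b55a7eb06f46a19abe0520ced89980053aa69041bb5b4ab2e4099ba5b789d2b5a462b4d5a5c4d857a6ede61e640e42b53ffde433d506d56dfcf88a294692348149e35067905c623e58833136316dc33954049b7d9388af7c02b17bc0f509ee35b5da8d67e426dcde65c94bf61c034702de62dd5711de81654d2fb57108b8b859b3e359f68431eb37417fd802907cafd1caba655be1d80b657e569c27509672b56205f923942ab06ca25fb5ac909e6bce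ca0b083d82dc77b3621ab637919a063c4ffdee5742e61a243a388d1d476cc9f7e96e94d94bea5b07abc2720987d58120b87ebc7beef3713f2685a68b47053c00e85f06424b53fca8d0784b35b2f12c04e4273bcd908a51403fd1b5a24d74b64cea5daa0293493831a21e9148d5a50c3086613b31f98f9a118c26052ea370208913a0ad9fc98cd37680dcff6c395459e9518fb21a2bf3ba5d4c973c05594c5e78f53bf0bae4326208f5b47ea04d63300d4363b3b63e65b5caffc38e2894174e717ba49c92d995b1c58e73eeaf61f926f8a0f05aeb8a5fdcb2fe8d6eea745d7599a6b2211dc0be8ac28e3a7bdebbf9009846e673ebd41d8e727d0938c5c72a14136500011895e14dfb3f2917ca3772bf04c3e62977dfbd7b5522615f57479e67f12258424634532c7b6d18dd9e9e4371bfc252505471811ea15a73891935abf0c81f08b51baa205465a7b836c4229dbbf26fcc6945fb1c14458ff59edf5c3d9b40c51fc78ccfc57bf23eaa82f4a8bfa55088d337686ae12a4df1926ee0af8cace071b361f0e60c06b262899db7cae3e5b65daf22e5e5be516c040bafa5971ba8f64a777cdf8f7b62202e93853198c0fbd20dac046536b7e9d162da940361f3e3476d8f6ff6a2f74805b614ec58f73182b0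eeb6127feac047be295711818bc390d4c36bbd8a0470714b5674fbc8f8e0956b3d0ee4d4784d8d9ae98f1fc241f279cb87db008510c677d6a1bcf240df26b5234d350be3dbbd1b1a6891b72273002b4faa0033f46ff2fc534f2a533e0fd32bffcb07a2a078fd0663883bc3a1e3c5a02ee903c4ff5d0a29226a56624d0bbd7f81b01c3d99532d21e6411e1062b391fff4d461eb8fda8df13130a140a358593d6bfb908ee2a9d51c46398cf5e1829fe84f17a621df266ed3ffc0a81ce4d4db1b28d63eb5f7f4e2307848978902bbe73323deed7cfdc6d6f1abf9e6b4804ac528d7a02cbdbd24dec3194211a2c4dac34ea222cd5a044ae1d8bfb61d63b82ae4c13ce17dacdb1f4f173b83b17f0bbf5b89c2340e55ba9fd0d2362e71e6f330e413d5318167a1506a9fccead16d5f2ef1de21bae7caf18751a38b59cb703285c541edba4b01084b4fe93bb488760fc89f5b6b3efb407dd373b34230306e526cfcbafb22f426f5377221760c967a4cf328c82cc69154f2fb696af2450b815db471f21e71c08815b5f7b8bb1ab1d2f984da2ec25a8118d74aeba2d88d05eb4263f87bc9634ed789172b5dd23a15d8dbbaca8a39a8644aa9f8c5f3d87c91ff5041ad672fd0461d66bf034bb3a71d4ffa3dd7e411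4bd3375de2e1ab31bc86abc8082c58f0a1de786f2a065640e2ee945e2742012694705db616afec3dbbcdd770187e2ea45c7525d7af3173a5d7f52c9fa63673cc7e4a1f81d85f94f60071b6f961a8dc10167cc527b3b0e3acad5b290f6b51253391d6b470c653c3cb8df844ed8798501b098282b06b3e999e584544fd101984774ec13488aed4d2616e65556585ea75103dfda5066e0deac33b314e2ccb9c2d39ecfdf60a2a9d71abb5664fe58f8abcaa323ba30faeaae1b693bfccc5f6ca1142de65557e74b7e3be2384f494d44380b59c1e691abeb4fe4a1d789d706432e244f37bebcc3af93a793fc6fd62392d2b014678f9a30a6956733bcf4f7dcf56979d0513571568488c224cfe14c872c4f59b8b7026935d9a64271ada94ecf1688ee9a7782ec652b6a2a8869f10a57f4ae649423434c145091285754654972088e86f782de73583d9903d6c45dba7c4bbc1ac9eb69321f406d8815b16be58ff4fa00329fd19fe7198985b10f7394a3b23e778cd6f94305b0b9f5e63f16a0cbc1752e63ae48c86e65ab39bcd2b15851a3d37f9bae542f7e3ed6f3ed778ef6abbab2b44990a6181e90f5958e8ab,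
  [(2097152, 127007), (625, 513), (49, 1), (11, 1), (23, 1)])]

theorem okQq : Fq.okQs E Qq = true := by decide +kernel

theorem okB1 : okB E ⟨23, 23, [(11, 1), (23, 1)]⟩ = true :=
  Fq.okB_of okQq (ntd Qq (0, [], [], []) 0).2.2.1 (by decide +kernel)

/-- pieces -/
def W0 : List (ℕ × ℕ) :=
  [(6072, 1), (6072, 11), (6072, 23), (6072, 253), (10200960, 1), (10200960, 5), (10200960, 7)]

/-- pieces -/
def W1 : List (ℕ × ℕ) :=
  [(10200960, 35), (10200960, 11), (10200960, 55), (10200960, 77), (10200960, 385)]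

/-- pieces -/
def W2 : List (ℕ × ℕ) :=
  [(10200960, 23), (10200960, 115), (10200960, 161), (10200960, 805), (10200960, 253)]

/-- pieces -/
def W3 : List (ℕ × ℕ) :=
  [(10200960, 1265), (10200960, 1771), (10200960, 8855), (244823040, 1)]

/-- pieces -/
def W4 : List (ℕ × ℕ) :=
  [(244823040, 5), (244823040, 7)]

/-- pieces -/
def W5 : List (ℕ × ℕ) :=
  [(244823040, 35), (244823040, 11)]

/-- pieces -/
def W6 : List (ℕ × ℕ) :=
  [(244823040, 55), (244823040, 77)]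

/-- pieces -/
def W7 : List (ℕ × ℕ) :=
  [(244823040, 385), (244823040, 23)]

/-- pieces -/
def W8 : List (ℕ × ℕ) :=
  [(244823040, 115), (244823040, 161)]

/-- pieces -/
def W9 : List (ℕ × ℕ) :=
  [(244823040, 805), (244823040, 253)]

/-- pieces -/
def W10 : List (ℕ × ℕ) :=
  [(244823040, 1265), (244823040, 1771)]

/-- pieces -/
def W11 : List (ℕ × ℕ) :=
  [(244823040, 8855)]

/-- a certificate -/
noncomputable def c0 : Hd × Tr :=
  ((1015330111488000, [], []), (Fq.fr 2 98 289 11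
  0x291ce789722363006ae6497))

/-- a certificate -/
noncomputable def c1 : Hd × Tr :=
  ((2347700060160000, [], []), (Fq.fr 486 98 23985 19
  0xadf704b042a1aeedaf78aaa610d80f59d005a12f786a10c355db0f6079b0742fbb753))

/-- a certificate -/
noncomputable def c2 : Hd × Tr :=
  ((2054237552640000, [], []), (Fq.fr 486 98 23985 19
  0xadf704b042a1aeedaf78aaa610d80f59d005a12f786a10c355db0f6079b0742fbb753))

/-- a certificate -/
noncomputable def c3 : Hd × Tr :=
  ((1173850030080000, [], []), (Fq.fr 486 98 23985 19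
  0xadf704b042a1aeedaf78aaa610d80f59d005a12f786a10c355db0f6079b0742fbb753))

/-- a certificate -/
noncomputable def c4 : Hd × Tr :=
  ((1027118776320000, [], []), (Fq.fr 486 98 23985 19
  0xadf704b042a1aeedaf78aaa610d80f59d005a12f786a10c355db0f6079b0742fbb753))

/-- a certificate -/
noncomputable def c5 : Hd × Tr :=
  ((782566686720000, [], []), (Fq.fr 486 98 23985 19
  0xadf704b042a1aeedaf78aaa610d80f59d005a12f786a10c355db0f6079b0742fbb753))

/-- a certificate -/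
noncomputable def c6 : Hd × Tr :=
  ((684745850880000, [], []), (Fq.fr 486 98 23985 19
  0xadf704b042a1aeedaf78aaa610d80f59d005a12f786a10c355db0f6079b0742fbb753))

/-- a certificate -/
noncomputable def c7 : Hd × Tr :=
  ((586925015040000, [], []), (Fq.fr 56 98 15815 55
  0x2b7d5c599cbe7e9415e7161a500668e6d30e08a8e27a21e52ef5d93b2c18ce07a59a7311991598edb69cdda124ae2ec2cef9e284cb240276ff013e619ccc62a70c0af55d5375cb56bf7a8fa184b64eecee366be841db25674f62bd6a7fabc9a))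

/-- a certificate -/
noncomputable def c8 : Hd × Tr :=
  ((513559388160000, [], []), (Fq.fr 486 98 23985 19
  0xadf704b042a1aeedaf78aaa610d80f59d005a12f786a10c355db0f6079b0742fbb753))

/-- a certificate -/
noncomputable def c9 : Hd × Tr :=
  ((391283343360000, [], []), (Fq.fr 486 98 23985 19
  0xadf704b042a1aeedaf78aaa610d80f59d005a12f786a10c355db0f6079b0742fbb753))

/-- a certificate -/
noncomputable def c10 : Hd × Tr :=
  ((342372925440000, [], []), (Fq.fr 486 98 23985 19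
  0xadf704b042a1aeedaf78aaa610d80f59d005a12f786a10c355db0f6079b0742fbb753))

/-- a certificate -/
noncomputable def c11 : Hd × Tr :=
  ((293462507520000, [], []), (Fq.fr 486 98 23985 19
  0xadf704b042a1aeedaf78aaa610d80f59d005a12f786a10c355db0f6079b0742fbb753))

/-- a certificate -/
noncomputable def c12 : Hd × Tr :=
  ((260855562240000, [], []), (Fq.fr 486 98 23985 19
  0xadf704b042a1aeedaf78aaa610d80f59d005a12f786a10c355db0f6079b0742fbb753))

/-- a certificate -/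
noncomputable def c13 : Hd × Tr :=
  ((256779694080000, [], []), (Fq.fr 486 98 23985 19
  0xadf704b042a1aeedaf78aaa610d80f59d005a12f786a10c355db0f6079b0742fbb753))

/-- a certificate -/
noncomputable def c14 : Hd × Tr :=
  ((228248616960000, [], []), (Fq.fr 486 98 23985 19
  0xadf704b042a1aeedaf78aaa610d80f59d005a12f786a10c355db0f6079b0742fbb753))

/-- certificates -/
noncomputable def CL0 : List (Hd × Tr) :=
  [c0, c1, c2, c3, c4, c5, c6, c7, c8, c9, c10, c11, c12, c13, c14]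

/-- a certificate -/
noncomputable def c15 : Hd × Tr :=
  ((195641671680000, [], []), (Fq.fr 486 98 23985 19
  0xadf704b042a1aeedaf78aaa610d80f59d005a12f786a10c355db0f6079b0742fbb753))

/-- a certificate -/
noncomputable def c16 : Hd × Tr :=
  ((171186462720000, [], []), (Fq.fr 1458 98 71613 19
  0x2af8bfff0ceadbc8c1e39ab73641ccd57c0b7a16206cb61b6e536268bc931dd8627293c1f5303))

/-- a certificate -/
noncomputable def c17 : Hd × Tr :=
  ((146731253760000, [], []), (Fq.fr 2 81 243 10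
  0x97cbbc8998aa19dffd03))

/-- a certificate -/
noncomputable def c18 : Hd × Tr :=
  ((130427781120000, [], []), (Fq.fr 2 81 243 10
  0x97cbbc8998aa19dffd03))

/-- a certificate -/
noncomputable def c19 : Hd × Tr :=
  ((128389847040000, [], []), (Fq.fr 2 81 243 10
  0x97cbbc8998aa19dffd03))

/-- a certificate -/
noncomputable def c20 : Hd × Tr :=
  ((114124308480000, [], []), (Fq.fr 2 81 243 10
  0x97cbbc8998aa19dffd03))

/-- a certificate -/
noncomputable def c21 : Hd × Tr :=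
  ((97820835840000, [], []), (Fq.fr 2 81 243 10
  0x97cbbc8998aa19dffd03))

/-- a certificate -/
noncomputable def c22 : Hd × Tr :=
  ((85593231360000, [], []), (Fq.fr 2 81 243 10
  0x97cbbc8998aa19dffd03))

/-- a certificate -/
noncomputable def c23 : Hd × Tr :=
  ((73365626880000, [], []), (Fq.fr 2 81 243 10
  0x97cbbc8998aa19dffd03))

/-- a certificate -/
noncomputable def c24 : Hd × Tr :=
  ((65213890560000, [], []), (Fq.fr 2 81 243 10
  0x97cbbc8998aa19dffd03))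

/-- a certificate -/
noncomputable def c25 : Hd × Tr :=
  ((48910417920000, [], []), (Fq.fr 2 81 243 10
  0x97cbbc8998aa19dffd03))

/-- a certificate -/
noncomputable def c26 : Hd × Tr :=
  ((42796615680000, [], []), (Fq.fr 2 81 243 10
  0x97cbbc8998aa19dffd03))

/-- a certificate -/
noncomputable def c27 : Hd × Tr :=
  ((36682813440000, [], []), (Fq.fr 2 81 243 10
  0x97cbbc8998aa19dffd03))

/-- a certificate -/
noncomputable def c28 : Hd × Tr :=
  ((24455208960000, [], []), (Fq.fr 2 81 243 10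
  0x97cbbc8998aa19dffd03))

/-- a certificate -/
noncomputable def c29 : Hd × Tr :=
  ((12227604480000, [], []), (Fq.fr 1846 96 1259769 81
  0xa8dedadf9c3591f98c0e89997cca086fd955bace4ebcec907cb2ed7776b0b371ac29361aa64f3d305c4739a66b686fa31211e58981c729e2b6770503684aff65ef96f792c3ef488406d7d6c48613e7db055852e0cfe6c8c101251ed98a6a305af4585150aa893e0b149042217378618231cbf1bb08964da3c45554ed64bf34cd52370e20f1b5ab3994c496df6d23a260f13e2d85053b8b0ee1d5821d44a8d683f43ec2038565ff6528169b0c4b8827b4c7d6a8423ee550bb8a2454e841a2ace5b85ae7d446dcf95988e4b3ef9))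

/-- certificates -/
noncomputable def CL1 : List (Hd × Tr) :=
  [c15, c16, c17, c18, c19, c20, c21, c22, c23, c24, c25, c26, c27, c28, c29]

/-- a certificate -/
noncomputable def c30 : Hd × Tr :=
  ((4075868160000, [], []), (Fq.fr 20097 99 3897205 81
  0x15a42f647f60136ff93c27c9df2a22b1ed0b556dd8ea59370ae7c973e6674aa8e5714cbd7645aa645fc1add083f6d9b7a4db8ce0fcf7c0213fed876efde49764a50de31920972766203e8481e5c973be03f9d4aa9e2b214e4be05e09933284aa1e2e5aa14a539a0f8eb37616db1dc2d985ed9a41fa6e8047f5766bb288ce535bf1218712e9b85ce50980518472a8ea39a7315f8d28a7b8bb4a5de07d424063ea5f3254c2684beacdd75a835ac582b66782ce48ede6ffada34b754a3a7c98d5ebc7831b7d41b15848d76fb2512a9c24ba594876b5a50cd86bb224c19a6e7f))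

/-- a certificate -/
noncomputable def c31 : Hd × Tr :=
  ((86951854080000, [], []), (Fq.fr 2 81 243 10
  0x97cbbc8998aa19dffd03))

/-- a certificate -/
noncomputable def c32 : Hd × Tr :=
  ((76082872320000, [], []), (Fq.fr 2 81 243 10
  0x97cbbc8998aa19dffd03))

/-- a certificate -/
noncomputable def c33 : Hd × Tr :=
  ((64194923520000, [], []), (Fq.fr 2 81 243 10
  0x97cbbc8998aa19dffd03))

/-- a certificate -/
noncomputable def c34 : Hd × Tr :=
  ((57062154240000, [], []), (Fq.fr 2 81 243 10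
  0x97cbbc8998aa19dffd03))

/-- a certificate -/
noncomputable def c35 : Hd × Tr :=
  ((43475927040000, [], []), (Fq.fr 2 81 243 10
  0x97cbbc8998aa19dffd03))

/-- a certificate -/
noncomputable def c36 : Hd × Tr :=
  ((38041436160000, [], []), (Fq.fr 2 81 243 10
  0x97cbbc8998aa19dffd03))

/-- a certificate -/
noncomputable def c37 : Hd × Tr :=
  ((32606945280000, [], []), (Fq.fr 2 81 243 10
  0x97cbbc8998aa19dffd03))

/-- a certificate -/
noncomputable def c38 : Hd × Tr :=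
  ((32097461760000, [], []), (Fq.fr 2 81 243 10
  0x97cbbc8998aa19dffd03))

/-- a certificate -/
noncomputable def c39 : Hd × Tr :=
  ((28531077120000, [], []), (Fq.fr 2 81 243 10
  0x97cbbc8998aa19dffd03))

/-- a certificate -/
noncomputable def c40 : Hd × Tr :=
  ((21737963520000, [], []), (Fq.fr 2 81 243 10
  0x97cbbc8998aa19dffd03))

/-- a certificate -/
noncomputable def c41 : Hd × Tr :=
  ((21398307840000, [], []), (Fq.fr 2 81 243 10
  0x97cbbc8998aa19dffd03))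

/-- a certificate -/
noncomputable def c42 : Hd × Tr :=
  ((19020718080000, [], []), (Fq.fr 2 81 243 10
  0x97cbbc8998aa19dffd03))

/-- a certificate -/
noncomputable def c43 : Hd × Tr :=
  ((18341406720000, [], []), (Fq.fr 2 81 243 10
  0x97cbbc8998aa19dffd03))

/-- a certificate -/
noncomputable def c44 : Hd × Tr :=
  ((16303472640000, [], []), (Fq.fr 2 81 243 10
  0x97cbbc8998aa19dffd03))

/-- a certificate -/
noncomputable def c45 : Hd × Tr :=
  ((14265538560000, [], []), (Fq.fr 2 81 243 10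
  0x97cbbc8998aa19dffd03))

/-- certificates -/
noncomputable def CL2 : List (Hd × Tr) :=
  [c30, c31, c32, c33, c34, c35, c36, c37, c38, c39, c40, c41, c42, c43, c44, c45]

/-- a certificate -/
noncomputable def c46 : Hd × Tr :=
  ((10868981760000, [], []), (Fq.fr 554 99 433083 72
  0x2519bc4eccf8663d9bcf88453ddeca6c50257158788e5fc52b8a4edf51dcac19695907626f6ced642e993d1b2f7c65565fedfaa05f7623ca676f70d7d8c06e8193d9970a02b367680ac9c8a4a7e358f83e5968ef0588720a7a2725a7432d2100630e9659ae777722e1a2f2ed57332689f54f3307af073318b38cf932b50b475e36550c295308f1a388722b7ddc4f3e694bab7f0c0399193b4623131179aaf64e622625c223d999605))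

/-- a certificate -/
noncomputable def c47 : Hd × Tr :=
  ((10699153920000, [], []), (Fq.fr 444 99 433083 69
  0x196e88b6c60d9fa0487081fd12178304ebf4375448b417423f6e9ad95bb371ff6d3573c64399e9d71d3d8fdec02fe4291f1201960c3302d2f9b42f065cea46c7a75a236ecfc34cb4dfaa977e1c4aab7b408b1327f5d03102089c19420b63e79582b9f1fd34378f51cfb4c3c05e7598abab9a1aab53467d4bd1bdf8f02288baf14d51ad2efd5cd8c960d8eae43b9dd6d94f2e73708758c9b713c84de24d8f70c5fbf))

/-- a certificate -/
noncomputable def c48 : Hd × Tr :=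
  ((9510359040000, [], []), (Fq.fr 604 99 433083 76
  0x15806854e72c2c6348dec6d92ab9321659bdb08ceb4fa67fa3f1ae4d90a6b844be54b3672a418e31276a572b5904c6c5f956d6ce33d8bc2b58ae3c042e91311db439d35972e488df85ce264917925d3df2b2aefd9eda4c03dc13f7b2b546bae7b5dc3df82d9e63d80641facc0296b68f3738ca6ab8f7ceeba5c0926be75b9b8897ec16cb8b76c372338fb20218f06f3072bd37e72c7c75d424d1f4d77ae8e92dd3ff2ef821d2051148d2e93195f58339a510))

/-- a certificate -/
noncomputable def c49 : Hd × Tr :=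
  ((9170703360000, [], []), (Fq.fr 2668 99 1299135 79
  0x1df27e6e800efc7175078ceef23de19a1d24781ca43a4be5d4a4e6896dea7efb3025e548771768adf00a0d83ee7ae0cce0e11d19fa41639ad66bb7158fd067e7a79c4ad756bafcd2a79f0f606365b478e4ead02c9962adc017e9f3bd33fab256da177bf642776ae3edc0bfe8bd2dbd52ad6cd33f5eadaef18fff2edb77d1b2f5b60c92353ea4d42c725ca2563caf3005b0136ed802842855a2c7a19dedc9ab905042cac2d037585fb54a705db393de605748e6ad8806b43d0d7ddbee67deb23eaf218c5e929744f97))

/-- a certificate -/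
noncomputable def c50 : Hd × Tr :=
  ((8151736320000, [], []), (Fq.fr 620 99 433083 78
  0xd84527d64af572718488518d6cb85047a98fdb89284b555babde10e197d95497b706d078a40fe9709af39283f9171e645f9c7756239ceb1e7ef227bfb478e80a47c490f736e41f5d73bef0b3e8fb363d4829b97be7d6a86c9d420035e150db4c7c55561236049fd76562f8e4b8544a89146a77b0d996b544ff219c91016510bd03c3cc62e2e91d13378ca367753eeb084c79374aeb8bfe9e7985c1ee3ce63e8ad7a9b2ab4052d618a9b24aaeedcbc619aadd12eb179a))

/-- certificates -/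
noncomputable def CL3 : List (Hd × Tr) :=
  [c46, c47, c48, c49, c50]

/-- a certificate -/
noncomputable def c51 : Hd × Tr :=
  ((7132769280000, [], []), (Fq.fr 648 98 428709 79
  0x109bbd112a7297949b05be4f9bcd2b67e3ab1f87b85535b9e1e31f729439d7c446b9ea3257d4df82762af9bd95c216c33714268600ca8121be9690e30b7b06699ebcfe4b7f22734265891109db431393f7089f270f63a196259fe232d67e06ec8fd7991143f8cd5398b9688e6b75f6da55e7c712167ce82e58276de6c6ffbccae1d4e28d899a55abbf66854367dc5f9b16ec278a131f59ab439bdc4ef0c7f7e44f0d54a83802503509f98f6090a05ad53efd5a5103a5a224f))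

/-- a certificate -/
noncomputable def c52 : Hd × Tr :=
  ((6113802240000, [], []), (Fq.fr 1344 99 1299135 77
  0x33188c8100692cd09edbe894aafb49149e73774b35961bf0752eb1f2d2ebee97b1cc8aba7c88f8f8f09b11f24456f5e8f85d9fa886c97fa53f1f51777f91fdae8470f11c98c466d520255b13a4f315d153a946eb5764ca78630e8fbbfc19272e7e57c52b175eb149916730a0094e5e6d2446e6785d1f170db8d835f04e88fb13d637bf95d95542931c560e5b64d2bbe79bf84dff3d631c4305f75afdc506aff8edcbd4178d8f856f96b803b106eefdaabcd5b45ecc10b8331cece5c64803916a54ac46e))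

/-- a certificate -/
noncomputable def c53 : Hd × Tr :=
  ((5434490880000, [], []), (Fq.fr 442 99 433083 76
  0x16496a490b716815e60541f898c6cb6f0aa7e7f0dfdbf3c25b3d2d860cf5525c5347299c882531f2e96d067e439a6b575ab78de2588917006cf05d2266c8c56bbba7e17ebf3f6663a2926b8564222650c0b40ff9f7760ff16d06445e885a2e335ebf3b2ecba58c644930a5d62136d29834a253e7829b5707f058f7663c3ff44df253dbf8424f46b8201da20153f699e9e97e906161da0d0692d2c8a9149c9a8f826877de34442f7eed76948472bb8290c26c))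

/-- certificates -/
noncomputable def CL4 : List (Hd × Tr) :=
  [c51, c52, c53]

/-- a certificate -/
noncomputable def c54 : Hd × Tr :=
  ((4755179520000, [], []), (.bf 57 1 (Fq.fr 9540 99 315676051 86
  0x1a8dbcaa79a5969adbad550bfb6cc318753736fcf1327ec14ab5c6fe83da952ffdda1273cd3bfdc1858913dd36176bca641408601ea2a2c92da713e358d56aec0a541e654b529d1ddcd4709a604c341ff299573a7095490e0d98f42873daf84a5d4087fc6b6e9fdd85b4de4421caa3f324a49f7d1a52d8baed9ab8d62d5e097511b75a198cba2218d70cea2613e7df07bb068af7e2cee608799889827b75e4bcef518d51bbfe7deda9d737f3fc75b7e18b48bd3ac900c999158e56f13d1981ee4cf2ce8b218c1d8827998cc52768f33f063285d1b220164256b3950efb8ede4151ac64a5ab09c84f77e761f56787b51123432a91c5f9b540dd3025507287cdec400e58354c6264c9cc46ddc7162a9762335c0c6bc3a722d50e1923f9e90700539b1ea997eeceeda8b223b148e3c5e4) (Fq.fr 3738 99 315676051 86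
  0x154e546068093f7a9cf5f417df9e95b8030534d01de70404ed2f2fd0c257e435e380a5fb98d46456823fcb28b29521698b0672ecb30e596608ab344a44aecf018c52ef8593713218908417b0ec40cabab650a088c92de759fa3bb6924c3eadd6960babd89080fd581341bbb9f930a9428e9bd36d0a4a551c58a4cf5fc467afdf9c885683d392f2b260de0754ac5ffe84a135e860125feeaa44374b57466dac9f811aa67640fbb7256631508a41640ce0d0d2f8f583aad332d3493f31ce785f223e979bc4417ffda33cb5d3d1e4bef790e4a82f5853f191ae093a1793ebbef6ed42499581cec03a53ecef203c287baa67c501b0c0d8296fe38875d6128e0775eb9a1fbf4b56876d10f14f6bcb5b093ee1a7dd86784940b9f167789d01af5555fca5ba3f2873613eb78503f3f60ff813)))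

/-- certificates -/
noncomputable def CL5 : List (Hd × Tr) :=
  [c54]

/-- a certificate -/
noncomputable def c55 : Hd × Tr :=
  ((4585351680000, [], []), (.bf 57 2 (.bf 26 70 (.bf 26 49 (Fq.fr 159620 99 2841083683 86
  0x3da3e7c66f9f076b64dbfd5fcdc373321c898d3e499fb37e7c724ff715e8864664ac08d1ac45ee18cb3b69a078282eac306c8d49962003dd9c24af000ccd93cbb913d0028fc824f5bb03ca8a433d55c8f2c0317a5acc2bd2fdf64c5167b3a72a5dd7f88a9a3e3dba9bf914a8742a6bab42c70d2f7203616bf94ed3aaf52ac7a4c6d1287164af5107cb195f3640983b68df6df5a519ed4e6e05f50532d27ac50543a200842c8bb8c8c5a70103eed9e360b3b187e1e26dba235e850ed157d94d343b33344b842956257fa54d034429158b5cf60f278656b60a07ed32de7305840d8012e176093576838fc83279b2fa33370f90d9e26214a3f8b59b59f05dae11ffe10aefb2cfc4bd978229ffbea6091a725950b1073ccb1949e50f4dea2a380bb99c3e5499d2ca2d01b3885b8ff0ce1ae748c08350e911f444d7a46ba21f8990514bc7b9625e459888de25a42e0679908529) (.bf 27 7 (.bf 27 0 (Fq.fr 6666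 99 315676051 86
  0x13fa63b022411acefe7c1de879575387808c80cf1637a3846ab5b39d945d7141955f5de4c5f228bcb1269b2d7e60fc3f6c751e5dd5d7ebf724d3fa62fc41dd96a38971b972ad8ba2300aa5a89ee9306a9dcbaf280b6edfe1f5f645eaa40b5edc776d43d1d95155e3c4dabd315c214be434de874d82ae6e0e6dce3f9ed6ad2e2d9e54a908213b14353e84377ed9ddb2643376c55849427abebb37f5c7178ea05574393743b7ce73e925ee0bba7cb8da0960630a45090f1352412001497bb6941cd63e57a1812e943f1bfa86708afa25a7ef41e68acf873a3eccdb0fc39a38b85b390b29aa49706b62231412b09ee59fa0d8252141e3fa1ef3ef6918b6cda22e21b65ce8bac8aa5977c04cc5da4e7f21afd8ffadff4b33a3201460525c16a9529b4603429c2cff92ad85d1faf40588ed) (.bf 14 557 (.bf 15 27 (.bf 16 7 (.bf 16 2 (Fq.fr 440 99 35075203 84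
  0x6964ae651207eaa6312b558e81f84c1a60f942a9b7495e87a91c8c4f5694b3b3811f21268aca45dbcfbd431c2745240f74020562613066e15520209185ba59d615f923251ed94abe282cee2f018b87aae020809ddc28561a3d0df4713aa5ce0f7ace0ebbce73e99fcdd9530b3ae2ffd2bfbbd7761df4422441cb5522b66dcdfe3b55e94dc293d2c16da701c54fe6d1f1f647d214b00e45951498250cf6c3faab133062abf056ace308f69884f367d7ba3d42afc8b5b9a504ec05f8112cdc6d8a2e1ac5b2de48bca58b0cdc9b4a4692d2cd20a544c0d5a9b553d7f7336c5543eea827ba2b6dee1391d36c9117e6e30fc576e588f0bf459558bb015f4b0ceaf89fd3d692f08aa3d) (.bf 4 22154 (.bf 4 20372 (Fq.fr 1472648 99 8523250755 86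
  0x4129e04828ef71383ecdf6f6d2066722aae2b24dee1fb05de0815fb603695302927ee0206a96bd06f846816150cd902dc45cd84a7cfc1ff84b4904758d6ae617b93b2cf5fba21c9e02ca03fff88c22ff95f37d455a7ba54c7a857289b8c181c3109db90aec5c04445ba3aa2f8bcd6e5a3ba0caeabb0432bd5b3830899cc7d7cf6b85c1ea6110f90a2fdf3763db7e3392e54b8c30ce3353abb0ef9857d588f2360eb64c592061e369108e829bf40d34e056867bf8ef430cf5012c5026320208cea7129783936d980e1e46bf9642bf9e1ffc24cc650b1dc35807ce3923c93b16272801149a03b9ff577658b44357e029b441cb3076beca1fb653f8bafa7d9f99ef1f97d7fe6f80d31c4aaa408ece53b54be315ee6ccbfa729a2e5fb67bc24072bce79aded7bcc435c46926f6ca6b6150eb0f0a338f908abd243594d2222d6a3ec6e0739d8235280f3c79ddf244841d763733ddca4e5e1251f24ce830781d321126997c) (.bf 6 131 (.bf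
  7 38 (.bf 1 2048 (Fq.fr 20430 99 11691733 84
  0x14abe279a83d4a9275ad68f48a891ead63a994b210fbc986aaa14bf5fbd791c3f3efa9811a7912035450a8325f3cf74f344b34051e2abd0fc05f9cbf4a45a2684ac1fb10505542a86ac7ffc31b4a4e3e7ad49f98649abe84972fe1884b7ace6c087d2132337856ac1ccb1261d0f1cb0e37d31ad479a2ec0ee03866fa195c8273df64987db42232f01435f04683e45689ddd6a9f7c86b126aef6499a8c07696b1c603b4e0e06f0d6094f4c79bc9ee19b33e418237c2af5f30c615d672852bb0f5f4b84e8df80a4b9e723b38bf840de78f070c524f5bd81154b197c34ab5188d6e09ed9a86ec45e886f84d93022b0025ca21a7207ee75f4) (Fq.fr 9532 99 947027959 85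
  0x75314cc3abe30dc921989af3e3db23cd80d474803dcc6a87e87674d1fe057099b629f673412cce8dbeda6baa4246f05eb6c61ae1c81996c030e3f65188e31f760bb35066139ead115c660c81aed5de8dd308840a7cb0bd8f5220ab5cf248652a0d0d7fab2cb1791709d27c2aae9d0a08e8f96c75aa912c4e03acf6964701b82701563c3758192dbd896035fac443a670f8b129b9d939e0808411b79a62fedc8b449b94caee2bc52abd878de93192782e9ae727a71580edefb696a9662bbe4fea3618ba754ff449af6aae4b787fa557910ac6331c4243168797426372220762257ede818c3deed759668d8368c0e675ce34077c4e1c4d12097b14eed42c3180b5049d8f4e6838ec3a4775e198631cd30d06084a97e66112d021d21aaf9f2bae89aaf1b35bceb46ff16e1cc8caaec302f0338cb5ec4471db6d16066538)) (Fq.fr 1595 99 2841083683 85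
  0x1cefc507600e7c38ed8a0844fdfa5aa7140bcb6e0fbdf77c8eeb7e9d31bce412fd54a7ae43acf3b6d585805f303893c0c5cf7126c8e290dfbf5eebf3964e3ba94b1b6d5c80c7cb4c410d5bbe35ea36131492026327d3f460c4e4e3750dee2b9eacd74895a02ff4ef743b3d5761fcfbb86483640626c1c789f8808dbc78832d7c7382738bb2ab5dee52f5642025d24e965c2be110511fd1af2bdda894f50f7794452329dea1052f06c3b50da7b31b05a312d64b71f955be31ae130073b9c41246505bbec7faf1bd15ceac4b7c3d6f4e9a85863b78823a1046cd3df1c7c79a5e4cd4db85bfd798a462cad1aea24f512b3855da508dae07b27b2ad795f493c8ab4b95fbc6ed71ee90d20ff4c2b8323cc3e6e6f9bbae75d55e34432fa0447bc886ba8339f7934a85afcae8998df2be234ae9cb9fe7900a5f26757aab3ba50f967236dc223a2959f7416882f9fc3c8f)) (Fq.fr 74702 99 8523250855 85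
  0x12ab1a433ac1c7a7f840d256a1fc616340abca92648cd49776c2ebbe82c37e04763912eaf89a3b217a029ad4f9025636c8822dc6b80daa1bc89c12e6cb8a07a64c265483055eea728abbc9e1d59eecb7367b31f09748df131f5ca723059bebcb210b096875770177d8226ed4bdd2d3a83cae3b78e06036f8adfd836b5dba14f6254fcad11280eda678f842af54000f7e9963372be0ce40c9f3af1ee134c8c2b627e5b27c5d3dbcfe10345b4a5e5c7724f3ff192543bda758e87187e21971079826c43507b6e6e6d6cea4a7f09d89446689b4c549cd99db904ca97e899f53f887b49a24594f3529e60a4c9da1344998c65be6dad6b5a01ae5a07cebf5365bd6cd9bfc4bc97e472cf428dd367a3bd824fef8395b03cded50f3bdf599bbbfca4b68f7e117e1e2c54e37adc4b1d5a4a076b0c9d698b22fcdca948c7037839daae35d91d13b4df99055dcfb9ead1ffb7fa46bf5349124eb747eaa84f382677055))) (Fq.fr 3021921 99 76709256919 84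
  0x18c7d4513699eb223e0c7739b790456563f8247031c7d9b11abc389f1dfc7ead401795da9141f12a636ab4d7a7adb18021b67f09e26982b43f68e51312e4adb22440d731ac229e90fef079f11d516f08a34edec685743b62b71021e11345e1a5a004cca43ee18f248a5cea21c9cf1ab50e7772f9161c9dd9dcbb3bd3c41f3a2096a058042bc935e4c30ac49e531c3ef1fe6374932bd71677029e87b5fa06cb04719bb23e8a417b70dd687fc50bb4e2aa97028e8a1c1022a935e8e3d8fc2edf174d325233c6491083591b18ef96b35b58f7f5c9ec465a0b05343e2b97c45aac622ee1eecd922ccf2774158f1407cf7cc96e22a31affcb6597c375a94c0e0e5bb0665f1f968ebde9a3e36b1afde2bea7cfe734a3bd0a849479c7ecac25c214b8ca4682c7d09d1caa821899a60ee18e9675c4323693ff7d5985eec4ed0566c3bcef6078a8bf92625a662ea648d47f5b60be398c3dba9d45416e3443532f2730b7f760ab9a7b9f2a6ef4dcf5113bbdaa1a9f88402f270f6e28c82fd178))) (Fq.fr 963 99 35075203 86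
  0x1b25ee6598af697d9fd894ebcbccedf55039785b4d62d09319b7905f6e0558e3a0580c1b6a422c8096f3ea37d1019ae95a6df755526e6e38e2770efb744a6a13fb1b39aa58c57cd0c89226bd45b4ba2f49b900e684f85aa9b5e156a7e053df44ca84689d764ba5653f307b3f66d511fcb9171e0acd4353332c72173a2d7804277f218a3275c53ae048bcd26abdbcc79231b9cb2f483759fc92da97b276f8c9f683e336de0ab005abe28f9e8877b92a2fd8bb44fc056221afc0dc4dd063fbb2ff0c5250eaeb20b362b836ed65bc27c0f5b0fad00dd26b35a942761b0f0a9c5e274ad9b0fc83e50d188942e1e9557b82135871c78b467ec33382b53b636e920030dc3fe9f2900bdc681315c83782)) (Fq.fr 55728 99 2841083683 86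
  0x2462a4dc49b5e8f5f7e42d114587553c81e108787d42766e521010f1ca22861149f6a485cf3558fd04571caa20e86706b0b217709fb2934b43b3dff4d6695684d4e5d5b9fa3dad8553fc64cfd3afed4c7547dc03c3a44b3b3f46f7c94470629caf9ae84ebebcea5c2d96495c90bac0b36d4751e18f372ecb318ebb3813cea00dd05acf8808cd2dc0d886cbba9c481388a6ff6b8740f71fea9e3e89cf1ec2723e284fedf790d4f3527b0d0e8ea8a14e9ecdb3acdd395e7cc4b25a3983ae1c0328ff6b1c1cac91235bbf13556faae0eebe3b2ab995f0ba595d9cb07043ea6a75fe8442f19c4d154f65925c92fd4bf37a3c5f3b88c6e64f74180f129924e7cfca689caba45920c81178de0b9f15a63db6b028c922acebac33a742c87961a4ac21405d076d6758623715323ed77d8a3d7d9155168d666052fc6544d7c26afe9abe0348dd45da83198223a07c915fc29ee819f9)) (Fq.fr 25187302 99 2071149934291 85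
  0x3de38f811ced89ff654b91a5e65af802ca927d8bd3250de78db811ade9d541f8a0fe81c3249177223fe1cdb800da4cd9055ef63dd1505c8cb15376686a1dade044d18b702e84486559ae50fd754e6878b513e33a888ccfcaabbbeb8e725202eb4817e4a5f9dd5288489de70edddf823835ca21b8da14ea4a8081eab65813ab41fe92cfe76625625ad50ea2e3ee6b2e367c18afb4f77619236c9d3ef7652b466fe5f47dc0413a99f2ae3a242269a8635417f486bdeebbbfc7b4b2af1c55c6e78ad86d42f6fb369bfe606ce4b2d7e1b24f147e9f7f9258d3b624c24ee1f8d2f0198fc0c4ce12ece3cab43d40ac12acafaea036f6d4ac3d83a3e32150de3bc1e7c3c3973f8c0fb17de0673677039c829de0b970230b215f3c39047b3aa7f9cab359e189de4debe7ea5908241b0eeddf91d175124b4738ed21df452d19f1127e2385c7baabdc6710d2088442d86d8a3ed9c8de70b0d0fc858f728327e8b0eb5f0f9eff4dec9aaccb201502cdd46a6588845d039f2720fc8bf43ea361d5792be7fdc54c3708863b24b370e275fcd807a5a3aac115ce3f798a046f1330dbf7af9c21acea5a3c036528eccd7aa506250d7c72ecdd45))) (Fq.fr 7007 99 315675953 83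
  0x6fe380671be3dd01d3ef4bb95c467bb2f7336d3928a173bc136dff5ee80d773ad54b4a3ad8f84b5ed1b5d54e4e00d3f9c6d17f43fef6cf8fd2c3a1be4846c4244c429c3e1895fdd639537a85c58eb31a2b25c26d9d457e3f3146306b019cc28ebd243606d89c22458dc38f87ba0624d12aee8a32348fa5e88d5d84a0ffff82f78145823d807eb4571140ef8c86cfa849f875d8da874aeed55ae68874cc6a92b5cd045aba332f4f91985c478c32bcd2c932c999d4a21e164c855bf7f01fcbe2edd21817926642e7a13313704a9e32f7d1d5e88c44ed3c72e79f3de2245e132e9440102ce7e9f90bb1df4bd0a2200a41972652a9804b3edddcfecf4ca2caddf22e28e4425fdeb7f14a4f029d393ec6f002fcd113dcce6ef19259087b68565e14c623545036))) (Fq.fr 719574 99 76709256919 83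
  0x264192b1eb04b7ba2c9cae95362591af32643995ed0f4548ef562d1c3857c1039daafd5da80b136a6e05f2f1a0681f1ba4981f9465c93145ec530de5b052e61739a4ae9f19d2553f2ae2f34a5e1f8da3812b9b1a9f6f8b2afd2daf2f14003efd362de7582b7bb1005c07b35b66e67e090216e7502706371d4246b48bb4bb288f10da4fd9e95c59f3b7fa8b0d29d3fc8152c49f3e08548200fa1935abe1e373ec350731be238d1074c7c55f396ab516b946c62476f69cf4880b9b67f308afdb7775a9127f71557092187014f3f7bc73f824bd0257caf16ab2b98e8103ef0fe465e8e2f7697a60ee38a4098c732e4630d3f8dde0a50a147f1a478e3cdf0b82996a6bb6992a816a5eb9cc0d5d9857f5e59e5deab99e72904f2f1b254d998da60391e2214b16fbb3a1d6565211dc915d32d9114a9adcdd6a6e5060685cb49c96107c78b1f09eada35473884ec4468fb9ab86a770ef744bc5813af6961f79490df94631603b23034d6bf21b7696b70941a02213103754292fb)) (Fq.fr 3740 99 315676051 85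
  0x11d9275e5f1397ffe63a465a4890918b7b7e78107559d95bc8e31f581d61ca057316edcb7ec6cb208c2609b045cffe1b71aa3002a94d8b2d7b7909cc5d40387527c7399c8dc36e693bc72cb3ed8f28902edd17f4a174d7d18f627b1e0a123bbcdb40f3db506741f6b4a7d33c9041ee321f8a6bb7767a6481511b9808f5aaed742036b50e514d8493672c9b979bb0d0ce50e6c081f3c92b444bcd7714ce9e7cb3e1f417658ff1b00638bec8420aa755af091477a2d473a3c9efca49e8fb9cc77d7290efa92d0819e5dc44eb50e119be62f92bb6d680fe20dd0c94f696b2658df1fd007ec3b69a32413a9caccfdc9d2656efa166bc21c4c48df5c4d0018a8d71b42e9e534949ab3b227cdab25574508f73caf9870b857beebed86b9d761a9abc79013000174fe74c076d58e81)))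

/-- certificates -/
noncomputable def CL6 : List (Hd × Tr) :=
  [c55]

/-- a certificate -/
noncomputable def c56 : Hd × Tr :=
  ((3566384640000, [], []), (Fq.fr 19493 99 3897265 82
  0x66b42ec16413350ca44e5d493d1e758a68f3de813226c0488e3c6c86375b4e4c6a8db6c61ac87162e5bc3d72714945c837864b84c0781ec339ac7a7a46ff73eacccf9286f1bd79ef2497c3bf1faf4ece875fe6538aa0f2cf56a6b407879ba35a805603a922a147979fe149706f30850c2af449884e492dd3087c1036115c0c7812ccbc9e32313f8a225f6ed838ab9922aa9f3951e4905830087dc77f4f420bdfb9babc7656dfc09159a4eae22ea3e7e9fb3bd1deedc9e1d6c689976b6661153e7dfadbf80999e3e8d87a682e7b5adad19ad784184f02d1dd423cb6b41a7c3522e))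

/-- certificates -/
noncomputable def CL7 : List (Hd × Tr) :=
  [c56]

/-- a certificate -/
noncomputable def c57 : Hd × Tr :=
  ((3056901120000, [], []), (.bf 57 3 (.bf 26 119 (.bf 26 49 (Fq.fr 17438 99 105225317 87
  0xafef9b68abbac107d5a5cda80763d8da7f141c7e3e27d5b31ace52b79adbff384e1c159cc8cf02aa5dc65e4b92f35573054748f185468e117642bba2adc2713d14ec9f5c98a36dc6bae75300811540ded5955593352b2c50a1f4eb0e6157788a3183ffcb92861ae25aa67dc83599dfc871b32338f50802c2e5ec5afc1ea4b33fee7b38db9b0f4e465c5af08effd502dbf72b55e0e17a031214b20a9c59758cf99dbb55a52c149e393e8675ff67087e358a159101df483e62b847caa7668c83085e03d1e04b748425d124e9c5eb26bc6c4da82380bf67048a8cf55ecd394113aa5f13d1ecf93d581cbc4137a60ab3130352ca4a6f242ef499ceb15df4d68b031100f71b2638a51be0c921b339740a9be5df74a58658a27cfd29346aed0f803cf160) (.bf 27 7 (.bf 14 948 (.bf 15 38 (.bf 16 8 (.bf 4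
  36630 (.bf 5 324 (.bf 6 207 (.bf 7 75 (.bf 1 3840 (.bf 2 1908 (.bm 1 0 (.bm 2 0 (Fq.fr 793 99 432931 84
  0x7a6310bafefb3db908b3f66942917037e5621eef64858ae9002041437e174d724731843cb1c637a7e0ae3433ac3de8a986fd9e6abd9f07b8eac041fbf2842ccf555f4f9ead24ef03aa2b2167e4a614126cc3fb50179c22c47090cb6e242084cd6c9715274646b66d061c768469509ad8a9c8008589e1ea16850bc64ea8ec90ceb3ee6a70e712fc0484d835eea149f1ee1962f29c535fc8af036c1a2c06cbb7d1e9a02f1b7c00a0bf0daec4ecff6be82931072e95ab2128f0f1e07b8c6a371b8777d3a9d81) (Fq.fr 563 99 3897233 85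
  0x6da7d8c1834d97004df0947858c8509bc42fe26887f7f9a566ad781121cc8ea4e8463675c65ec5da36015beaf1d113d879cf53deaee6eb57fe7220ed289b68d910557e4088bfbd6d12e3882ce14472bb405b919d2b0d7693226b1e1d079190ced999b6a5c657cfb999043d4d2e394b91bf3eecb5111cc11fcbadd3ba319175fccc7bff53bcb7daeb43f570dbaab9d9563e2b1b850a5d4ec7324a572c537745e27826747ca0747fe87946e684fab89da64bbf8a4de5d149429079b0abf8c44e8c8cf10f8b59007960a388eb18da58267fc09c73efc55a969180720a12629206ab831ac6c12dde0712)) (Fq.fr 56 99 3897331 85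
  0x5d4c9b2176f1d3e7f0b139afffec4ed20817bc74a771a989432d433e16e204817d9f114f2a932d3de9d2b96ee778a044a52be70e8f671566aab35cdbcf1acb76e4a2157a0e10f5b11a8292b2d321e5520f4c0d038e5ea9071c8723fdf53418a5ed114b68bba6889bec655681bcf56434ae2ebadbbc6e9ee108785d60a22ece6b64b878d35ad4d50a54924bfd59d224f3301e2270bc219283c4304756154225deccca0bc12e5718b6434a6b8a1cdb5b40eb121e1893284fd1e55827af103a127ddf983086d88a507324880c6fd30db31dbf6d595f558597c1173ed9c97146dbef6a301c67fc943a74)) (Fq.fr 43708 99 25569752371 86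
  0x424f81588687b697e53b0d80a361d577aeca22cccf26497d29f6844d10e7d97875bcd378bf6b10d5b3edc3ef52b6e18c096493d279f1760116cbe4e265427c3a64d7dfb4e610959868434db908a91be4f8a4f06225d82eea1894f643a264e74627f964202c8051aff72a5e8dc8a4d928b036138464843fa368ef65051ee3fa1683e24300a9e14dcb09c690ce9d74d22683363e8b841977aa5ca0bcc5a98587d17fc5480a4b77829a3a1828fa3ae063b3e6d9e5450250b04b81cebd91b227f6ad7d0f8d052aa68e1068d3a16786d20511f88d7713579c7ede782a28e3b955f7a1ac3fe9ee93119541c1a9104f34079d4e11a53cef10b1c107c101f7d274b7c4dcf9ab6f6edb9322d0204d52b33fdfc51056eeaa47dc9f260eb81819a39cc6af9d6d325d7ed706b5c9ed9ce7f44120699b3818db47665fff00b96199a9dfaab88eb102c3635cc2447b649af5b590fc3933029e0553d8d1389e87f49824d6ccbf813aee2937d233c6163fe6a9319e8c1875a447b9)) (Fq.fr 2038 99 947027959 83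
  0xcb4fdbc186908f03e9616db7dfb33e8ba4562984ced0809fa900334d45a6425081723c7343e92bf20fd6b4a53f34d75b50e262a6f964787d554231c5ea196db4dee942540ac0c651f879f9c2d81633398ab2d96b0937ef890bd3ed77e3cfa13a9c56aa970b65c84e859c6245173c91b86020e5ce807372320c884e8c172b1c3f1ba3a2846bc9cdd3a1bba7dcd583c80d079eb76292f95a865cb1ffefce59822dd6f6ac161dd270178d178085ebd031a4ca18dd7b3ff589b5106efbb813274678cb82d672106f8cbf4178ecb0925ebe7179befc5a1f70523b4b8569cb0360559372946ae5c048291c798125d799b367013d8a51667364934a3be2c41a6680d255567843e13911b5a79d64fa4ab89f78473d27aed41c05c972ec6386f39ce5e069151e6172d6a500efe924cf4a85c289b0c993398e7)) (Fq.fr 6812 99 2841083683 84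
  0x36a40c5834c701da46016bacc3dde94adfc580997567b31d473fa97c8311cf0664d39cfac3f7e501ef6c2345807252ac8dec13eee4d6609a59908e2318efa240a370dab629658f24b65771088c223732249c48439fa487c873deea3cfc394d20c9cf9dfe62a959ca07f36dbcb8188743f3240d9cd016ea07aa82046daaad84849bf864ffa8abe962a871fe71bd76bd600189a23711933a3363729bd038ef311806fef7706ceb9fe3d814d503b2a05d61e4a5e8e9daa6fc6286ff932bbc8bc4c8d6c5d15ea9c10d86c34e84dc42e9a6f7d510784f5454d5480db0806a517c683a087f8bda3f024789641b1d55a6b379ef2be52a63dc6cc369085edb9bdbe750555466ab9d6fdada338258371ab5572f244ed41e063c2958a7e7651b51eecdcb30079e7fae79efde0fa0a61e0843290ce792326b2da97ed0276b4bcf2640e1086f4483ec09342440838b)) (Fq.fr 147609 99 8523250855 83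
  0x5802abfb478000645d2bc55d713bc5d18a975eaa6a3da4828a69caf28884781b60bef5221efe3c3b29cfd697317784769c309efd9926299af2b0a817548746553413845f846b38dcda017907298998405d475c9e1da0d0b264650b01cc7b5f5f594280543c0a5c4b7e7eeca3ff6282693ecb832ac949480d5130a1eeb2c1984f1868616ebe9ab47de3091a3f672f34b6f60fffd930c34ebc5b264df019ea34d1df9d9b65274c095cc07fd60108f2e8cedf69f6742dc3a24c7678e8c41b44a928dde74c50fb763f757c891ef2ccebb9becf576dba7f05888b8eb6ec510dba9aed90dd349d15588019394c99627f14cb444b6049b39da159eb1fb5bc8f357441673d82513f4e96e7d65b62768e8c593582fe3e57dca6711222e95c0a521379e829f09086dc786576b34b0b75039ced3730ec135b1a09b7cadb743f0ec3c23969de812d91a50902870c463bfe0c6eb51315fd378b215d4)) (Fq.fr 421482 99 25569752371 84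
  0x2a08ab9c6609741b3a6fee3ef96c5ba6bc4a18834ab63872ef7c29b150a56f0ebac7140abc120e1de31f4d37f77331902443bd72a6c7dfaa9382666502480e3d5558f16c2872c0792fa72873ef5b00b3ae2eb3140c271de7398755cb10d17702b0a28ec11ac9b68aced9a46c59f4d8a0f28e41dd383f59f5d01463402a4812992c6569abc91a3c5d9253692df7f1b99e4ca1ecd982f8f7efdff53a103ffc7db2302efaee7f1a6bf8027a388f64db5429eb646c9ed21f3aa6d67cbd42d32ba7b27252252bd87a50bc5dfb1bce3016894e116aa1df1806c0c67036503afd4707428279f819ad79f76a3ec7d01f01f162d6abf94016b188f7c613706524e63d941ea31581bebef81fd64e0791833b4bbac0b802995bac145310e274d83b4baf2c59a1244ca670c9703e3c0311c5af407bd46258ca66d727a96c9e8c4a5b8632f57f45a1118e3d09c23503eeaf8b81fe3946da7578e6887850acf2fe45f3fac0dfd454619dbc87ed1a8c6d8af)) (Fq.fr 4028117 99 690383311495 84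
  0x1110a0e3f29185ddc32592165ba9306531f3155963e43e34e91076f5a2b56193dda01ddeb09568b73355046733034515c20ff625f7a91a7c711a8964d8bfc9209e7b9f4c3cbada94f86fed6e3ac48abc85e54b18b22710118f515148a097c66b2bc96695c6f5a92985c1c43655fe2951cb810ec202270cadc97aeedb0a0fdc8fbfb4d75ce5bdcd8708a4f94abad6cef3820c6b33c93240e6b69044c13fbf47613655e867e5db921c9a69d74ae4d90e451733c741ba947cd8c367511713d6a1630c2fcdd05d0519e0d1aa282b8253a6b81e044103197cae6fe1a365c0b01e69b17e7514e9659a5bf68ae2040b756fccd8ed60e4ee2f423c8141e3d6f2a3d8858fda83c94ddcc28d7d03677955a71cf2a9a79b383ced795969c781dfdc3eca5ec74797fae415056c991f433093fe6be7db62be51d6320da370759e78a87f7ea6ef206826c60d57fcad2942246ad4b657a58104d9c66f3bf76b57b2feb05c8c35c4fa7a799e702846d3caad4d4b7f935ddfb25f44e3c061dd406283d0ccc30fbc120cacc7c5b765f386be0db4f3b9d17945c7158f3f08ec6688e606f7869)) (Fq.fr 11941 99 105225317 84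
  0x22feb6e30cac80a6cbda8fb16b3c6c96f894a04d28cddde2467520ba7652df95399bd442ad6932489078682a44eb3c5b4590d351c1f28c11ec03bad7a24e7bbc5ffda91203fc4f46b3b5b719222113e3f7d9fbc2f2b754fff42913f218cd7411d935c3215a8c3666a1c203dedf6dda5638354afc002d666b43e918168717a1e34d6853d1d95c0eea5ce0b97d91a770d4ad56f9555151e827568a7dbc8d1cda33f68fdff4a90f4af7b92047ea2ae2890096e7ecbb073322a2f1f8d320938376bebfd1b33d33f18be53a05f80fbbd1a16c89eb2759d8e179222e7dd0ec4b62ab864a3fa533ccc31da2203124bbd0145ec58959ff6d04ffd7ccd13ffcfe86fa8fd634b0c287e41fdcffad5915506f992432f0c82810849eeb8)) (Fq.fr 8006 99 2841083683 84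
  0x37a1af876d88282c9b1d3c7ed5ebbe63f2a04d9dd560f29988958d0b5f90eec7f6784f12c8d489f56fa0d219012ab72049fcd08e1fa6c5ef3c4d044b8add69b33f95fa3298ce16d212d0208bcb0342bde078a5934122d09046c637765e4ca6d5f08cbcb4d29a7e8443ba1022b1f799bec4361385e785d7b643309a5f65f08298cb387be70db92a23b094c3f825d0191712448eda98d051e2ed593acdb78649f4e095da8c3aa076c643b9a763fffd1c881644d0ffa9eddf1bde77639c3054949e50ef80c594b29cc4e6fef9e9265806a8b49d7c1b0d889867c6f01db4e79c9d8336fb5ef417b79b16a162e471c33256e764cb494bd8aa682a9454b49c19271231c28d39781781d84973730ff4b932e63ebeedbf0f892be1b154b49d89051db86ce8eef86a15f9c3dd3977fcd4cf4cf74bc577afd6e1eb9e89ff51e046e85ee85e1af611ee4c0bbd76a5)) (Fq.fr 103779 99 8523250855 82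
  0x1f15b416f5380e8048fc20b953e5b8ebd0539a9d06c7254357cd03f3583cca69160f5e633d47e9420bb4043880680242f7c41f2fdadd4d8c95a50e2b76325063adcb9b932dbeb3a69446ab3d0328c36d569112d19ff313eebc53bc6b11422eb2301a352621597f38498e09a418d42742ce40d380e1cba6f11889104682b9ee5fa113c87a463dddd4cd720b54ca441114e48a9f6862b2e6740db22ddffb0f494a4b924b08779cc6d60b40a69f77877c341ef57fe2a4ba2fc3b3c4656bf6943a90b98579bc9336398ed38d313b390955c3d072de88e6b9a2d1771c2c6f8bbc97761c66973aa4b9ad83323a12d0536acc60232e65c91b2fc809761e41e6143259a299e4e05f8613b90348e70982a7e71329f883e6696b2b830a3df4c5e21037d7b596b454235cbf3f64d4722f6c220e7ab269306ac954d29d59260a30c6df7a1e7cee3a71d14f7e1913bc6f314c5988539f739)) (Fq.fr 6445 99 35075105 81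
  0x17b4368cef6940452e5a622eab5083999b841c20df9178d099a582c2d3336a261c8f3f663bb3e64a5f4037c78b4ed74a8e6d9402a3795d3b5e19297f8285bc62b1f63069522fd5be662c18546b5221c76d14a4dbe4882525d55779cc921a4d7a8c04b302172b668c8edca49e338a7b5e5da99e46b5d4430a7f81e385fe73be728ec17b93621ebc3c4e14bbe36ba888b9e457d07496d240dd98a907479c66a1c5f16244edf084f2221879535f682fec6f7468ece293d56b96f24be754f90a2dad55715321f56940afe12ed6967031384cca4897e3b6e064b22ece239e7a00d8e048dab85413013ff03760bcfc2a191925938d197bd56f0639aa9a19ed992))) (Fq.fr 56939 99 947027959 82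
  0x3cb65358d8a59160b7c0d8b2fa3369a417e6fbd00e9d875de83056f544852fab76d376c37ce060ad644043e4e827940129e1a5047db00adc0258c0ddc92b0e14fd52fe242ab599398d20e56f4c50329b6fc4cce74455c64509166bf58550ed8dc3b5f9fb5ec0ce8e4da6abe621eabdd69444bee06784e5e0fffca2c93d5762a55d50079f3fd54447eb03c5b026582bb17ca7393b7050277e19e02c231f3daea844ef9538e333f99d62a54a8dd1cc41ce6573321bb6992f07b4d8ee41a9889568d4448a40837ba1a01ab33b9fd2a1d967a57f780599ec4e23932750166c7d183a4f515abb59c55a6594673eb45a4e7f3b2cec36e7a80eb2862fd0330d4825eeaf76923c7b1db01b78e4ef7a031ee1899a7b68f66baee1296386d8188667c3190e110bd8c43724044022a41b73c558538537)) (Fq.fr 2327 99 105225415 85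
  0x3650d152bf0fffa484df7bff542b9bbef45e45552959cf1ce3acdd3e1d10a94ab0cac29d4f28455b49ed4eb8d84d081305859c6f5b89445dde483a31a054075ae09af0fdb2350e78859e6bb1190b4c591579082383e9154f09b2de74e303333abcb9578d8fd7764827e7064439f4cbcaf9c9b875a3ff016272cb031fa7944f7e0548dea6d9f3d4be405d88435529652d002f630fbd0db1e5a9ed194a9010df996199d83a03b4fc07c71538399230d83c62e4e31ef5842e52970efb0a7b27a613821f7ebefbb6c963a4b982f9467f31ae36aaaf0e4d2b645e79681c787bffd313612b5b524b8d0151f3477869a1cfbaae31680aac12eda95a472c7f935b9f815b6d173ffc1f0580420a39d6487159e312d82514f37ae1acefaeb6)))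

/-- certificates -/
noncomputable def CL8 : List (Hd × Tr) :=
  [c57]

/-- a certificate -/
noncomputable def c58 : Hd × Tr :=
  ((2717245440000, [], []), (.bf 57 5 (.bf 26 70 (Fq.fr 111975 99 2841083585 86
  0x64b908a88863526faf12ca77232f422ed89e16b41cade33b73171c2adbcc7324f4f849a4c4c1c0aa72869ba537b23dc3f77c0a179438cb5328e636cd94e3877ae8d389dd3960ebaded547babb8766036440f983161f23b19a84804e4c82f760b0f1333f23ceb8f75473b84ecf9d76464dc08dc9a3501241911e578f22d67a0ff12b7f2c42ee5497f71f4c08baf2cb02b7632383d65b8c7cc391a4d747074a6d29a55f49d460b70fe2b53af777cf45b818108da2f537ee3810323a6d30af963ada124c642657c6340ef4fd8e8554096c468ab2a1c11e5248948b723fd8a201cfbb3c35b9f3f8387d3445943f8050149201f0cad6c1e5ab4ef5c0f02c9d87f3c96790de643c8c01b80d9a198ef66f37a420032a9d40001658e76a5542cec56bb9548841b7f9871edab83d90c057aea4d388b5567f0055db1e333aed10c35cbfa7c5b1a2a21ffb8457fef01e77bc415dd540) (.bf 27 7 (.bf 14 1184 (.bf 15 44 (.bf 16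 9 (.bf 4 42273 (.bf 5 297 (.bf
  6 162 (.bf 6 81 (Fq.fr 9672 99 35075203 85
  0xb14f4092a0237de7e734957b6b395532c8c89e2393a7d460f37705ae2d4c590959caec4ff48ef7389c693fe4fc240614257f3002331ee32aec822256debc83e1c38197269f15b6e1e9243382888a1fdf28ca5c297a6d250febddf9069eea2dfe727365824bcde1d8586fbff139b82eff3a8c05bdd8271fde411b22c497319ce3256fe7660580e8b643b3accd18c698d9b692ac00a8914fef426fcff65e44db54b251654f9a6904ec1430e0f8c81ccdd5a23e55096deaf373fbc36e8d536dde038d31fd9ba08e52317bc52396b0b914e713d8c17d987f2e376bffb23f70ebc90393a1c6166caa43e89a2abd4b01657e22eb882a0696d91209d7cf00e3b735a0eae70e9efa4b23d708fb9) (.bf 7 84 (.bf 7 54 (Fq.fr 21840 99 2841083585 82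
  0x8f5f6b380f55185b1dde79cebaa106fb9092a5413b7ac4bec6601d1842b45c2ab8c3a1f6d4d88f1a607e36ae4c7f0fc427a20c44215a708665dbe8050326a6c6523f4378b8c95014c9e82bcaaa8c5657759597fcbc4a62fb9bcab2cbe3458d3a927e77e3702263712dccda2b9709bce3dc86be3c3e6c8a0139bbe8cecdfc5b49ee0f8537cf44cc61c0c1044c2e8ff02d9a8655dbcd2ce63bdaf1fbad5f9f5b20d2727cb163a0751a521e8f0aac1df8612a0ac32d5d6bdc6c15ad4d7e601461cf56025b0cd5a06894662bd1e6b5445e29e2a64365b66054b219239dea9e7fadbfe0a7ad0c8c72af763034e57fc293c5c2dff70f707cea5c13fcec87e1758e5931cb0007e577c3add92586c136e70fbe7672c7d7a7b2ddbe62332af8883f2ec33186863dda1e6a153ca730aede4b2f666db35e95290843026744597ee04dfaea4c7) (.bf 1 4064 (.bf 2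
  1978 (.bf 3 1100 (.bm 1 0 (.bm 2 0 (Fq.fr 555 99 144245 83
  0xcd067da6daf3607c508c25c95241969d1a0d89b28fc4b8cdd6c0a04e06368d1ff5bcb4aa89135fc020a4c58196316c674d01d741c3326a4b45d2ad81cf97afd09c115d8c06b302088ed237ddfb3fc286546cdcee4b4153db65f94cc9463782c365229e68d402542b0ac1cddb52ae29be27407d6779733bcfe2768988a4dc3152f393caa41033e3f9a9ce8a5fb73a490731558328aa80434e80872a208f832459686e7d39f7497c77bc5842353211af48690)
  (Fq.fr 363 99 1299175 86
  0x339dc1dc606f02576dd8bb23548c40f6f7776a38d710e497806553b1f2e381b947b6ac766d3e411792640b5121550cd9254d10581ea062f604cff64d893f655cdef32620788b58b2f3a760012d5d9187dcc3c1f7d68de2f862d014a23a42905e5d4b06c5325a8a817cfba7eec67756baea2c9cb93edb2d95f5981a4ddaa3014d9801e6e1d056545e26464eb2ac08cdbf45fcce210f3234a2ad76473c0e3894b1bee7c40f220f4e2df57a5edb913cdf18e5d5c8b121755cfa21d74cfeab0c060607861f412bdec12f1191a5b142aced348617938c67571d468016)) (Fq.fr 246 99 1299077 86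
  0x3650cae8b95426225d21a3e30feb2509c863f65c1faf97519d41b8bc4a030bc3082c76471cdd5ac26299e07725639918e98894cb732480eb9c3cb19e3b2b70d29febad95c7a1c173102f4b903cb69f479aa438c2a40eb57e2362bdf4ce9cdb93cc259bff5c7b439101c9ebd18153b2d6089814dc3963f748a7dd47123a1db3bd832b2ad910ed8614333212386c2d56ecd837e70825134fa869e801347b476590fb13bdb57c8380f158c3209d6faec54436a65c8a6b8d7d4fe11393c3390fd1bb7c32a73c8fe9f4f921753c8e6aea6e69e30d3e361cfe49647125)) (Fq.fr 16435 99 947027959 86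
  0x1befcae0260b34df1003e2edec838e345695c6bd9bce7b00596258cdfae03623adaa3aa57167ad53f8d29cc5167918002ccb14627c9906a1a8234d9ff488a36c3b3a2b4bd4023d60cbc624e1c5e530939d72270a5009eb6b93df67fbf063815797489640aefffa70238c5dbb10486c8997377c247063606c481f2684aa8d5b2bc302951831c36dae7c78b64702acefbefa12777488bc1e2bdd84e2b526178273567eca0b5da4b48d7e33b9441bf01f16c59f28501c5f2540d590ff79bb4d49beed87f3a55dbd55addd59331b4c8da014b6c485ccf98fb14c21d712dc32d8132df89fa2729014f691e2c9100b553d4b7e0b92b040d4a5e2b19e0fd8ce120a5f8268ee6272c0ff7aba94b945a187813d2d414e8d8fe2518da3b50f06d7f6154b840a8d60cc95af8b72c806d5cca156405e610e2ca85eb23015738335bf7c3652e1)) (Fq.fr 442871 99 25569752371 83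
  0x86bc162f51b4ae27d4b28d8aa522541e5cded0ac98bf2d096b0c8467e271c950c885db604975a00530c4f52ce79d4549a9c890478ae212d971b9ad2ca47eec2a3ecb23f4a7835e6d0944fd47b4c90fe08a60f3797463b17ef2f124c06550f3e8c5dcb65164261905d9a5cd81fe91adfbc093c4fb2096fe8a866bf2d6ccd1319d60cc78d29bf0ff0a2772ee37ee0166a455b5d3debd0d8f3380aac15bc08e7cbbfe9d517b0a78c353bdcb89f432398e1f74624c2ea4c8aee0b957a5713f7920c5d2cbc16a36ca8f9e2e1eba9165f118159eabce482ba33614660fe9fc537e4d1e636ad7c469dc3d7d3beca5ace9a2a81da8ae28aec3d4d4bc30fd04544a28e4bc53ac35526a284a5d78c4b3c3ff60dd30f25a2da1d518df2d35bf52257c2551a36106f16d560872ede8414f26a4c354c0fb063d0fb816ea4165720362750a3e044d02d4dc040433aaef8f161210c1c34e90129e31295ea89ebb55927928e2b0abc60bc0cba79b)) (Fq.fr 62561 99 25569752371 84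
  0x1889f492c58d8e1115b3bf2d00bd23e778c8d0797e69405a349d8b3fa49e8284f25f77ecd4b3c956f5eceece7f4fed10bf85ad815918cdc46d730e2143ec6781dcc699b1c7a4516c55d1e889370b1c9e62de7d7f3e1925173ec6d29f1322c737a1307c7f3958a56a9b12599c2ff61b75b928c27b4ccf16c27dca810b26421cb8056bd0840b476364c2ca22b58212151f04c77e36b7955516fda9e0f358e5557382b3e4723007df604431af8ebb73b6005c4ae5eb4d6a0fa1c19754402b52b2ae7b064d5e1997d4beb3b462c707829b003b3be4e508c7953ebf4f675b0ee82312e0507859e6289671ac0039bd81d2af7f8f9ea192c8439f471a2fe91e54f37e88334ebf41ab719c98d4ee610ca174fa61d29dcd9f73dc785dcc2bb905aa2cb42f04b3fcf5ca936c932d7e6900727fb0289dccc32a9e95536d4d243d16f5d9ef37b0f7dba5e98dbe0c9da92da40a2236bf13d3e3d907af05a4d54d5fca0c29762b6dc3f10bc0891c98f10f0))) (Fq.fr 8364 99 2841083683 86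
  0x188cf0db1763ba80552c9f46cb230bca9086a769c1ccbb6df60f09ba077837e47a4e8ecd625cc235d563ed34a2d5c715902d4d058dc9472703d01bcd1120488e948ecd3766ae2f822c85cec26f540e3ecabbd9385ba0c927d57b9233e3c3c219c6652a86c3681f65d9a10fc7d769ce9be9dcc8edb6ad46abce7f29addb4dbe4518e19431efb175eae3d9c5a2ba766816339fc00ab8614335234094fb19f0f3b2cb4c4e0ecafe7730099ce61ae4775958755716878195c11531e5a12e830d45e82310f6fb54c9bbf5ef47ce849ce2fce8f61233faa282f0de71ca63643ba721d83f45766a153d5201cc8885d09b6c9031e78627b3fcae4c634e8f9a01753ae30aad8fdb8d0d0914a0d71a053ea4241db04b1b661ebe482e008c1af2fef4c6e38c427a6278c334b6857f92b9d16f9a9d48c42e77b5b19da7b4101a0f09b59d4dbb9fa4a3127a45f336174e05396c291f90e0))) (Fq.fr 37643 99 2841083683 83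
  0x8a6d3f334fcd7672fb67d40d7611dd246169885ae9186753dcb6de4510c45f125a87c3d2513069c489700252176d14de5d7769e54fbb1e0584d9b48ced0c77c3a5eae588c445acdecd3721ae95ed234a5e7da3b96d386f843c5be0f73ca629f7dd613677ce23ad0d2c6c1ff322302bed0ec7dba72728f056f83ff117d789898451a66e1e6fedad8335b013f4ae6fcea0c5f77b0159346a908b3698943d7a1c36490a1b45d67f1d69247a0a4aab740f6700f064906d697866dd855378c25463d197e5a47981249d3d2b9cc1c5e84594b3267b02189aa1c7601d3c5c4538bf83a1934a792676c2c6c3bb5da2823a4cd1c41ec19ec3401232e58ad739a6bce3a9fffc9baba63e7f1a6d1790003d8fd829743ea20c2689190af7d3a85ce4bab5d85b079e552455808a9c059ec149f69cede7e1c7efefa41d687907b1fe747a27773e9fc9726098)) (Fq.fr 10500 99 8523250855 84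
  0xa92763496c32f8c5f1fcbf66874b2ab9c292511ba0f6b30387917bba9f5d507737a9618a44788a090af18a7fc50ef21941aea31e0abee08aa36d5a9d0b8f9daa0ab1ed053ffb78f284c051f0adffd631a1db2a1afc0e0f4945c98519ffe61f695a304ca70f42182e7bf24e4f80fee2b813acea53c4fa3f2848acfd0d6cef607a9ee95036cbac475b010f9fa7fa97129a0a8b17a2ef0c5decab8706c090d3343caac716f5cd228bc97755c51d511a9845428df81ff83d5ec0ba9114d2d12c39e801ecd268523396ee6ef044043d87691f5ea8cf791364522fe108b02cd3016bd98c7a3cea214e93106c82bc2fdce4add03e1f5d294b5205495531376bd946f52b9cce61b4554b67491804395db30664710ebd8a8e35e26ef532d7ab90386f6233939e7f498834f340fae8d58b78646863667880d72bdf8fbd2ed9ebf38794a1a117818f7b93b53762188685eb84b364ede4ae24f80796d9510d6)) (Fq.fr 69115 99 76709256919 85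
  0x3f8ae880dfe9256a9f2c41c07fe08eab604a82596e1a0b09e85f1ab18ab3e38940c2f580146ad01d33ffbff2abb10171fc047349cbadf1b08c4216607ccb33bf3a4cce7592c056958d6ac98b60c0c12293b89aaa45aa2000c013245e4c7b4b8891370febded3da20f9743ca8abee70f6ef7a16443be3118d3368e1de032f86e47f5fea720d22f51bc7bb714ed4d09aae79e0d8231d0270ea90b1b57fcf90d8548771d8251002ce43979f25d3cbc1572e35952786b6a505f2483c1ef2f56783348cf7d1e6156114b495eb47a08d2aba760f036c2a158c07269b16412e52816f2369e4dae54467b947c3353877cb61c741ae21d88e436d7381c28341e33f117808fdb9febfa8f409c400480a4d0ff238807daeee95ffe3982978eebe0d5a35d4648fb7e97841b993b083da142558c907931a2b4604a18a18ce8ecbca7857c60a4ed5cc442564fc8d44234a59b548557eb712608ebc4bdb4b7ab30140ca315546fbba67acaabf6f54e9ce6ef963612e480064e421c78a4cf6023c76a183e244771)) (Fq.fr 13925 99 947027959 85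
  0x23d24cb041c9288188b2c2d2b0710552bdb4bd6346e265764074b5c03b866fff5059a4f2e363d809d40d6dbf56d17a7238033f4a78f918a91b612e6cc5af0960a9d66c81d289ddb6f93502d499c176dc7d5d494fdc6eea1cc23dacda39e1097928b550457a086d2f56e12c3c189369c8fc0887d21923d89bd515fa32617c79af28a5c2452f95cf6423707b3312f0cb9f9ae40981ed45d278d66856cfdf936e0beda2c40957dfc7b8809de10604073f14da292011f063c55cfa9129fdaa8876e2f765e56b7a7dbcb5da3617cafa9e8e5ce9763d32dd9d0cf4e87107480f861b272423724ed0f359a06b76d5e5233e7a83535ee5c9ecfa00bc3939ddf7674cfad5acf3d6bf3c14d13bb27c6378d5e63d295bac4d9bf71a0f57c53cc17280fe8e149f0839a090ca44c39eb4208921a95f984e032eccddd11396de0f39b)) (Fq.fr 8057 99 315676051 82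
  0x1ce0583803fb1bc2755296f21938b6c54cc8c1365ed9d8343770ef935abb7cf43c132ed87cc26062bf49122a086a028d4bed13793a5512f08fde158906da3bc214ae02bdc3bcd57f780c5fe4192521f993b72c480ac3dbb11a5407c5d6107ceb914ab24376d35b796075b9c71ec6e7710292c10143977d10a2ad73cd3918bece7dd6ed29993b2da8e39dd5f36fda8e565eca226410b6c1c7080d3a5d9ee10d3d04ebea22ba7487b931fcca1f4245ffde8aa4fec5ad4c2784830dedb2afdc46129ba73c708d57b6e9815c59023af936497f3e422a9eb10e99beea6065b89bd1ea4300122e940e0a6d10182d7ae5540f35e742b2abc5ddc33550fca503d2b920c7b85dd6ee4593ea00f82b2386b74b32396025aea37c8687c646e1b67051e98dd7c)) (Fq.fr 96302 99 25569752371 82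
  0x702f17dc46ed6516cd7fd01c3063baae8551d413b4c71a8a4f1cb81af8d5ca817ec400df8123d8fd6291b12b3d759cf430eda3c7029b6b609eac8e75ad9868cd5aff69b910850b8138eb40455ad47e0b22579a0bc8333de2d9d0057d16ce1539a7c0158d5d1b0b4289d4d7fc3dd751738729a6cfe4db274ac87ab912de69ec2dca8976d67e4a243dbc09e65dd0253a5b1bd52e550c2c15726bb1e82f8ac125141f13291948e910a1913e7c1e377071c0698b39428154e3feda3266acb6425e6cedd8935ccb758575c205ab85812b8d5a546dcab7dc84d3ce773a127b4e2579f8196b220b10dde38334c2d6c5c055efdd183863e93efa8148f9a167ea5d98f2cf0c233cce01bb1da67e81ca9f3fd171e01b14b8ea7a4b3d6df71b8dfa8026b2fc95ff36f50cdde88ca67dad247f7c0d91a6753e6014282cfef9c8c6a2d49a3cba7de7c0281175c101cadc56544e0a695a985c2a4a84074da2ba41dfd1d70ea8bfde2)) (Fq.fr 10989 99 315676051 82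
  0x1188f0f3d9f76e0f6d427737e0e4b3482b9efc770fa11760a2eb855478cf1461292c0369eaf6e0f9114b673cc6473e3d65beecc34a08e69acd064e9cd87875a7ce230f78ffcb4615453cbb39d74b8f420fba066785e1b525331b85523abf017d8c765e7caf67d45a7bab17721379ad43e4c76a76d953eef1f24eb6e937ac9fb28dc642e12340bdc8b08cf9d9556f67586838849ac7accf02ccf2877be7a141af237ff4f5de1d9cf7775d9cae86517c75e53468c9d65fb0faf9d0b37af6602f3687f44d2797aa9c0e736270a0634f568a48dc7880a1aad9a29157d50bc8232554006185c6e94eb807a8433ba872b444f87719f23a79c20a7893fe751e39233f2f49307b5e1d5c420cb4a419756a5f5d2d4f7bbb1ccdd597133b8646e7a5f2a630f))) (Fq.fr 677 99 315676051 85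
  0xb5d20682b3bcbfdd44b874d10de57d4612f386e7145938a08b3ec41ca2ca7c05e714b9c56102bc8cd2b6871a8663969a2ff853233e98e75d4fe98719e8931f034241e3b5a4830304905f94139ff2a91a9287027e59c95267c3781cf049e09da3b6a626b302e7f77f6f64c92ca0b163df98ab1ad1b6b94f3b55c319be6f3d7ff60dca1d9465b7cc23636e34249c29e6455d89be4803be51fcf3ca2a052c1da0a28db83bf5419d16e06d55b7f7c4427339fe652111b5255ed9fcf3f6483efb11fbe98c4fae58935dcdd53359b22775869194cbebdb9986bad3ac1e8d73ba13f548aa0fb09b9cb4eaa7e2d268adeec81b5edcda359f7f2cf22f29063e2145782430e850a548f0eebffda2f0b8a3a8109ff69a18812f4fb6aee760b51248497e006307bac501905456821c1277)))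

/-- certificates -/
noncomputable def CL9 : List (Hd × Tr) :=
  [c58]

/-- a certificate -/
noncomputable def c59 : Hd × Tr :=
  ((2037934080000, [], []), (.bf 57 11 (.bf 26 231 (.bf 26 161 (Fq.fr 975395 99 2841083683 82
  0x9c1be2bd089ab7bedd0121e0ec84741e470a965c437886c47f4779b30617fbffa7feebe4b02fe128511551bb7a21c5455fa2ebfb261920ee3d7895ebdf1ed7350358d9a25f709e93aac14e4772ec61ee95661eaa2dbb30a8677021911dcb964af5c11f6e708a7f60ec8553280761f663224df71487bf321b81e1e22ab2dd6592fa4f79de3a87f3d9827c2a4080860e89424d2997989f2d0e137f6cb414c294bbd52fefe58b14cadfca7f5db8bc2735b37febea71695d80c77266c57c64a0bd191ad55660d7e9e540935af7172cc4953c7efb7f61218205d2908c5c86f4dfe73218c2f56abf23ee5c641bb4d7f3341a3c0935d6baf416063a3663eb53a6ed546913f3945f12192ecec6d6262f997c7882661618d5a0547e8d49e63d2373b66949c4ef418fb5358f4565d200b54d48834ef0d014d0604458339c58df411895f97c24) (.bf 27 7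
  (.bf 16 7 (Fq.fr 3245 99 432953 77
  0x43af9b0584238900a04bae60a01c5760d3976d17a787c33ca09641b456be7ae0ab7b4318b86f8541826b69d01001ff586ec3f3336b070312f187f0bee030c127cff7d182b71c3c2626fef5529f70cb6720c6c2bfa5edddc626df1e24ff9ea12d491086a5ca2aa428aaf05ab33bcc70edfa45f4505ed15af621c639ba3a8189f85050a6c073ad1e97d80e12ac343800bc78699b8a1bb14a4b5ca2919db415dcea768f60af6d3067805439666475cc2661e4e6c8cb) (Fq.fr 15765 99 947027959 85
  0xbd7f8eca3ab06c15c4f825d21274235257bcc5b90d9a5a49ab06f2759ef91fb03580dc64c087d02347d29c75128b5ed28091b7ad01c7d93afb197956e94d12a1aa785b2bcefd8af415537d291be548e39dd80c86e604dbf91b1e8f143179353deebeff9389128af94af799712adc4f83b23ec9e90eba793b3a8a2f8465e3d910b2b71da5ba6f5fb94713ff860ef2a05ac4c1fe401b67986608d5aef449a15daa211a3eef9be42a2ac1d81a56914f11459a1c601632c2617b110c523c9e89dff2d4f13ee56571e6b8a250d5f304e8de4bee41bd6a1b38fc9d653dea3d3c448b9b4ed0658536df79cad3bee802731dce784f7d699904b4d3c1cfc7928acfec9e88f39e9ec186998795fb7c9f265afc6457e023222da4e923a1617ef3e4869e7d7ac00c73d8c05436f59bd11e6c09c44b3dd9e9829b6bc5f3dbda70e41))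 (Fq.fr 13993 99 315676051 81
  0x1319bc6c952edd0a0f20c8b23c949698f33ef09b5bf3ecbf3eacf91b7f496ed07d496936d755232ed873105fbc47632e158991205d4d2f0f53d14198689049523a6a62414d16ad7b68050a0020c9bcfa600ef360ad23fa64b2de50efd1cddfcc3dd24e01a5a131c2251d74a3b0f0dabf88578f1450d7e8ac34068b58b08871c60cc5f671247abff738b79dc95cc03c718aac3ecda9c126e15326d8910c5cbe3966cc54a80c50b00e12354e7477c86f68aa2b25c0246f4a821c611cbd1fc70b6b64e299eb21b8f6c5d20b18d01b0bc24a7d3adc06974819dc71af35d41734960b1f02295ebf9ce93df4099ea0f0ce86512e83b50fc08ea7eb433377e955f3b74be6cf819daa20e7a63f54bad475e1d72bcbed0b51d2902b484e1d56fc6a))) (Fq.fr 9147 99 2841083683 83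
  0x343537faf750985b73307bb1d218e5da5079ebf62f42e34df17f5b0771b865cb3ab2099e91d22bffaa51f02a1e364a715257ab30048a03fac2f780e67af68a45d5a5d64c21d71337af9b28824d69b692783df19778d0b8728327275c1317ff3181feb976c307bfdafd0a735e9f1c4bc9e4fc96c4ea2758ccc70f167c4bb001a20c16c920cff7dc8d3c988736414278b322276b8d4ed6147a922c78b1dd131a80efab763304b5b58e098d8fc3a126d3930339706f94666462493fc93a52f44f38853ce4478ceef5338644e2dead74e4549d1a9f53dc59c16c47477611d837989e28446f030a14230dde416fa5b7eb095722c1c60de6013a668dbae39e2746eb4e64e34301e64a34daea29e45a377cdabd03e9707f38dc8444a8268fe4c3b770b19a7e9c9cbbb88bc9dcdf52e1667937da5bde92eeb23e600cda5c26437b3cc7dbd1389bc9e9)) (Fq.fr 931 99 105225415 84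
  0x1ab9ee22c25ea7c189bc7dab73619a7ceb56dfe94e1e66e73f1e7d06def2dc999d5593d7dd2e67747d896787e1bedaa6f2c0c3a6d9a649ac66fd56ac9b814f1b0509abaafbbc63b40e2818006e9e71771e1e6fbfaceb0532e059b32aceb69b052185e7488076830ac1f7a5d3fc07c3bbc46fe0b38308034236803b9783b06050285c0073622d0c23b874856e290db139edf663e77c42ba38b67c7b1306fa16675a2344c97fbd648e79c4c8836dca9569cf968d83ff32079f443eb27cdaebced6e7817a077d2aea08170a7593bc9395d4e1c68c0d2b984069d842b4a79aa7f29f5f82e6378190f7ca5b57a7f38f32eddff7d26514feded0de7e1870d61a288d390af7c7da8f5a7e32c59f3e9982f1c51520c5c1e4a3812f)))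

/-- certificates -/
noncomputable def CL10 : List (Hd × Tr) :=
  [c59]

/-- a certificate -/
noncomputable def c60 : Hd × Tr :=
  ((1528450560000, [], []), (.bf 57 6 (.bf 26 70 (Fq.fr 19401 99 315676051 83
  0x34c8e88ea1796e611353bf10092d741931e3339374d2f987c844ce8b8bf9b5885d7e6b63736d2f8bb28c9bd6afc5b623017f6b17f83a574c98dbdfa8e899abc914fdbec484b17524da68bc2b12f6235eeafeca251081f9b9d0eace7a7a55648789c501f624e1b822ad6190e1902031af355b5fd1bf5ee8e9ba0714b3721cb8dbd4eb0d420daa85c046b0f78dc9b69455b3848aaf9c5166268dabdad3f71aba0f5c771051533fd8042f5cba42be83fd3d7950da77192090c314a549a9e5286671dc6a6292ae57fd8e566f0bf3a61b4975a1fab1c52f04707b47a9a88d4ee993e5d6deef68394ae036c0e495c65eb579794ab016434c8de080140d3dc653e5b5a93de55c44caf11a98a34b4d98fbec0668b2aea82059fd926353a96fc557a9787fe81f03312) (.bf 27 7 (.bf 14 1931 (.bf 15 56 (.bf 16 16 (.bf 4 77088 (.bf 5 867 (.bf 6 294 (.bf 7 150 (.bf 1 9216 (.bf 2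
  3056 (.bm 2 0 (.bm 3 0 (Fq.fr 1733 97 1272835 80
  0x163b0b985bbf758e4c01fc85ba102bb770ff9a2fe2587a80b2143fb2814600ad0ed172bfec3d84f29c1d4b855aa32806eac2e2c731e49ba9c68d4946ce8666f13f2598538ff3e00ee7a1f37bb06eb877e1d2685305e054f8cf19c28e41b17cc2a74bd478b0c8165f9e7c1e7ae907bf03616aa400ea1f6775a02856821082641b829bf4a2d33c1035df278cbe793b4d849e1788ca6be27c68e163d7e2b1e035e8f22e374230197625cbf39e028d6075a6015a4acea7e18a4a0217cd32d9bc8d3340d7f153cb211c15fbd375) (.bm 4 0 (Fq.fr 1411 99 432933 75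
  0x238ff16382230a3b362721065afb2927f02e0335d914d8995fd3a4e2c6693c5d2451ff4fd34660e1007c192f6f01b31fc57136ea885ee14355c373035eb21fcd4d3c3b1638108d59d31d46c53220b3ba7c3b4d140100dcbfa8c26e1def53744a2276dc8bdf5bac783238d8d9140470edb7cc87aa01e7a34a65253fbff2610ea08e8b6f3d65ac31d280a0576edd51916abb562ff394bfe7efca3b56e1b8b06b22fb06a9d3e908ef521dbc601bb4febe8) (Fq.fr 72 99 105225415 85
  0x301853b5f7a15357667068bba8b0406b80375fd1870ed99017803fd279aa2c25eca29e52ea9ceef89dfe39bebadbfb1b73f35d6de86fc987ee2c16e021ad22d0a5172c84458591cfbcf62eac8ddf37d0698747e74a8fbbd3e0a3a37149ca8d999ed1b7e0f05a5ba399e9a138f847d6cb61379567fb32aaed9b2e591753d801090ee2266aced52383f2360d04f2e690d582b3bc3a6ef7f00b56e5387352e766a8f24f05dca0c39512dfcb93170c8b4def81ea8b815f4b57f58848b86a3b68378d2ed4f3d3485a9d6c4cbb14197368f6813689c0e4779a930f8d160dd14cbce7de8d640afa92df1b6e2d3abae652f42e55d71de961610c5a3075535d28b7858a90647aeee745de27092d4a52547cc329b8ac9f31be95bf471324626)))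 (Fq.fr 3501 98 11573603 81
  0xcf74b3210bd4004bcda8290ad8340039a021e8a7c265bb136aefd4a51820435f62e2de4eb5220c2052d38e003a48faa29668b6f3886e74bbb4ab937bed67995f33fc9b665996f7e4a36693a4d3ddfe05de5de933b9ee6a6bb46191305a788d5239b54ced2659f017c87f55ca09da6433b6b89e22ee4258e6e59609d54f26c8137225fb75b085497deea1ac3187c566658a054dd5fdaf1e7b542ddc687c9364e9a72a193ad427e4ddf9178c9e5f56fe07505de6e6bcdcbf73b19954ca1077151240a3e5bee4546eca7265ec6c921d28450e7ffb9e69be92b7470007b48e7b8e9c03fc4075ed50aa35112544db92)) (Fq.fr 221777 99 8523250855 83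
  0x8f7ce2c600b05c2f069a8aedc8b01b2ae291fe98999161d80db4b2989ba88a26a0a8fd9000ee36ef9c7805fec4e61f74e6a18c68d3190be9926197d9288a63bce930521f196770f6648ff01a4d5ad197fca8cb6dc903abff041521e277c66941d37ea1d33e7c14fd40503b0adeae2fe3b5f20bf37bce0cdb0393aa4bec6595e0c03ef79e8f710b1093564888d0fad5eb68257cb4a513b0b432d5c14a0c9b7df42662345a89569a899a597aeef1b1ffd43e7c57665e33d8f66d3383728e23cedf7441150b1a5bcf2bd0711a724951fa8bb041ed3a9688a5faaedca89543fbfbf1346cf0d675d89d5acde7ebdcf5832f29d8c92c8dff9a2d1e35a5e44cb6321c8e3031cf1e8ba9a6cd8c5175ba9a9cce7de7c369110223c3a1fcb81f4dafd0348c707c9850585da90167531189c8ea7bba38d82a49bdb1db241ffa24d8cd15db8ea309204ec542ea260cc684c244b961c034110cdce0a)) (Fq.fr 5218 99 947027959 83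
  0xae59d192e7d65565561bb991afbb9a99ac4c53785c93fc0acd445649c5926bd7f60ec8138437a3db1ef57b8f4d366b4d2f11d8aa49e6f2933cd5bde677583f2505e8a0fad7fef96ecee75b209886827684a7efc63def081d0b551238b8bdf6eb479ccaae27b67df4e468b64577d6aa4082a3b3071ed4c1f8ebf840c0e0e8d1cabedecd3f9d787358920e5a78ca5f74fe72346dbadd228d5cb3ca1da28d39f5ce8f114f11927c8bcb4c119abeaf33272c223a8c3612a8729483a89015c12caa6a06ff7e4f1e347e3ed8d36a138121a091f6ddcb9c459f15119153937229cd0216466bbaedd3cfc46cb86a072f1b158623be20f810cc5f096995579f80838b3806a704a810039da1bb57be7b5beeaba3b43a5f12408f3e3e8fe89d2d0747f45bc109fbadba928cc3543c6d19a7bbd29f9c23c7b59de)) (Fq.fr 128015 99 8523250855 80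
  0x39111b01d18c2044414c1b2f57f31c62b708f10b52054df551d0c7580ce67f71dfc8310e903b268011a0128d1e4fe4573186d85085c4bec40616599592d7c3d5b72a141aeb3095352deb3174e2e7ab4b28d20fc1310efaf234b8e2dcc8f2e7738972a74cf2088c92030240199f1dbc3dc4889c93198d50c919bb45b7cf2e311b3b628279944a8b755bcdc2af18a4f57140e2a0ab6466f3ab075efe57ff175a2ed959cc51fee61e8b71d365dd891af80cc1f7a498b4f0eb24c710b478dfabc90bdc516fc243980d39a1fb77acc4f9fd91461e09b8ea4d6c4667dd323267efde6b79429483078ac3869eb2f5cd9f53e6d96b5af1263ae046c5f0b113ac188cc1071a18002a0ae04c8c0377bda3bf8e985169ed9def120ea5d0ad1d3ef830b6f8a16879c17ba5bf2f9c1d064e80ad734a56b7a18177dc43636ae53c4336ea1c1f0eadc31d1a6a894cf4ed)) (Fq.fr 114435 99 2841083683 83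
  0x927514cdd00398572a2265e846d0b79868d0e8fd36d7ccb73347471c5a6ad6a81daa3cd0ea8ee545367152f59e8910bef20d9f13d4efe217b31397f43029f44d9236f9f6369502e04f545627633f99bdec12ba44157909477b10608346eba8db57d159714b2225a03cf6403389536813ec2f58d41ec1c44a846711fc0ca0eaf9eb99036ccf8a3ca8362a9ab12f8dd1c4387ad887058e4bf659af5c5ba947e95e3cb065cf0aad5ac48e9d1e41aef0ae59535f6e1bc2bb18e89e3297e212323abc27b69e1818365a88d61af547bd8b7574a414dd503c1476ab57ee1fa3110a1c7f63cb7f471aca2138f1d5a6a37755967493e84b12b6c1fed903e484d4b19c2c3be4182833ac3b4ca46224f4dfb1e55c844391df64ac8d950380c397e52a977337d1712b31fbee50e041cdd9d5dcaf771f8d46bd88eb867ae2c3dbdb2504a4394a57153db5c8)) (Fq.fr 3090508 99 230127770563 81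
  0x29c6569d0c5268e1a38fe75f89528163448c36ef9a2e62465fc1c85253e119d7b455e084576f7b50d2a5376af9da1446573e36f1c09ea119679ff49ab02c455e7f744fa9b828a98631a2151d5c2571d8213026c4200e6ee094b18e74ff90c9bcdf65046b5e7677232fa2a4d3013cc5cf53b36cc7adf23ed60d4ebf066e73a0f6c4263771cb1f1d02d5681cd01d005dc9ba1905d5e0b870b2857cc4c86f5a7c6f48aa3963b023c94b1c1aa254db19903fd81cc7d962c4feef7b7cd5dad90f25fd5acc19e627929465885534368b47ee8c1bd591306e1844bc23641cb15f2023a26ea4c1cfaaa106bf91f8139ce42ee20fd38fcdb583fea96ab73d339efd658f11fb6f10dec09fea72550584fcf6e2bfaed0adb80e92a557fb59a27e31b562b687a648230d957158c7f17e3cc019061f668fea6edba716a813fe9db133173e8636cfac31a0cff79eeffa3571b51790fa8e5fab3f24f3162ee188daecbb9176eb94aa6d8739e52f9c5ca9cea19b1cbf1d640188423d181c0b7d2111d932f54)) (Fq.fr 197247 99 76709256919 83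
  0x2b0fe949d8514cb8def59c905226b8e96a21738a2420214842f82c21bad7a1a1361bc8166b5ca9c1efe3ed361c23de0e05a1276fdde88a9e08095de23fc2915db623b3674c6eaa62518842f7ac0fec544fb45457b4fbaf6f5b7a8c5d4131fc73ec43311ea9ba1226816050f9cc40d17a1d647b2b121cc9d1cde409d4331efe2f125a3e2a633f43ebf403df5777116ade4a9fda97bb0e969465e4daa547068deb1c8cf98d9f233a31c6d1af3a4c53b331c5d67ca124fa522861108214ffa19bb1aa1e91f79759b5d8b799b9bd2fcc74e3f5677f7e418bde04d5d629a2113c841ff4029a3a61b1edeaaa567a8684e5f6f9b7db768d96b1fd07e00db3068597996c14f7d313276746bf406fb0092acc41fc7e3a02366c3b02de0599a150d6e9d44fdea9bfd9fd1e98962733aa0e2ed012a764d8ba65102cc67dc6d900a41c0089dbe7ebbc31f6c1c55364b679aa93b66123a70651e34352d29fe5f621223b25f5f3d27e9bc90b6af089c71f0f785f96f6c5b4ddbf9ead09e)) (Fq.fr 18505 98 937462021 85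
  0x16ee2f3d35ba05e6872e9d090f5e715be32978a114a935236edf559cebc9a31f4373c572c3f4b6e432aca59be7cd63ed2cabb09cd6c2e4064e93425e5051f63aca1bbbd076b55e3407843932ef490cef19577d41e5f65b35ba5282dce2eb0168163bd2a19ed204267b19c57460f0328acd035e921188a78aa6e4a1fb5ebbfef87f3e576b64058b8f4301032f1525d0e4fd307d6f47dc39527144c057f69199c0e1853983844e103347fffed7ca0f34dc82b5484da479fa02b620a3e6752891de9dfc291ef9413d67f7224191eaeb7f506cdafa2e9bc9ec82413b4541bf186d9608334da74cd34a123d5bb26a161ae609dfcbbebeea473770584581ae93e1054f64367e5245075f32a9e7a3f5db0c40c7fd2ba3af74bc5cadb243e0fbfe30e9b4dbe4677e75ffd226a47e4eb603c063fa5c3178bc411cd039d8bf1b1c)) (Fq.fr 7881 99 315676051 80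
  0x4b7f521ea4c258f84eb4ecf7ff8114df17211b1c046986d7e857c9205e133ca0b3d2e43725325d6aae2d01d6800eb00979849f4f554e9fa79fb847a4c3cdd6886e7166a5660899c7399ab10b97943f4b15b7e5f72da39bc08750c74a5d18b7cf55510b821aae122d3cbd20e6c3dce44265ef3732b57eff951f599e4734fd63803c96f812ae262789ecf638ab49c5cc64e05fd066fc750356f0dde3a4d8a7958816b0d3d9c03ef6bf6b897c90a29725108ddb2a87f7586638e38d58aed167bc0ac87303e8e3cd546d154b2fbd4504a52d8d5e1e3a607ca5f6d7b83e6817f9765fefca133f9bc69560f8a23c976387a31d7baf720b8ff34e9268b58f57d13c308a511694232365261a4196816920cc368d8d28d42987d14234121)) (Fq.fr 48507 99 25569752371 81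
  0x192b2675a5f127bb75b56e681ba30a3b7d6684c092c5d7cd3407183b0b07ee21419439b751c9a2ebaeb693c590d9e81b1355c87d25bdb165fec3a586c15af4b1ea5d2e95c9310b69718a38a4ad7bae5f09f34288fd3f9bc82bc6477f581dc23d2beab2f3109d134b44102bda40d7d10226ad8f902e82715acca1c3d119cb0134b085dc0c32b43cb3d063ccc7ccdf0ced902b4bf9738ce7b5f790c435dffca7ce7b5f5a6dcf0aa040bf83229bf449b22e29ad9a768d44125738f83125b6260f49051158a9d3a8fdd25142de3950c444477a51af1c1f27f69936de2aec6b382de3b8745f461bcd84706c6c4985deab3724d07acaa38a44c961687e10e49fe2b542c1e292fcaa355d25fbefb545dad09e2415185a1942a27de46764d9bc603171965092c3e25ebd9ff3b9eb9f470f9763b6fd7bcbfcea30eca82314e34df551c8d71f99ebd4140b2663acbb7a57109bd5d9309560159426d894a5ac4d061f8)) (Fq.fr 64109 98 34720869 78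
  0x2715d17254313c56fe0b7dff24cede4e094c76b6005dd3c575afe4189defd6c03b4d2f26b51026c10b148edd71572dedf89c1455e03d16f53023a8041d0542ee652b769216943120c732a3e74c40bd65b193eef804980b22a89a42d6e035cb5944fbfe35fcc30d5d58316160ae3d71426547815df65ea7aee93df7c951ce7d3676dd92a14f362a935ea02fc868959a9db33b1906a3a785cbcf7778b4adf791a164567b2108c2d6049720bd2de4cbc55bc74b24e50940f27eb4b1114fe89f021471c36672f8d735b8a98f63cb2d1ef604f49668da2d1843bf469a9e8a9b9d1b4ea0304af8af166ae3c94db94044cfcb2838a45859)))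
  (Fq.fr 12397 99 315676051 83
  0x39f4553fb091160c6ebf9b7a2245f2a29fb198bd660df05f1f2ec42f6bd53d55e9f69af5c07e9970df93dd524695785b49de9433df85fc839a8996c8ab65e2df9b32b6d8ae7f2e890207a93cf607bf824646b122fbaa9ddfcf41de620da860711e7b6b4ae85bf6080b19770910d7549bcedeedcb0458b3125928d3671ad22e8174092b835209880473b9807d956491e13ee588d9ae705325a74f3bc2b0af1933bba585f0534bc1e717e828635e0938ddbf515456f3ca8f6c82feffd6a0bba843cd0ea20174f23e2d2b21295919311d71c1c5e03bbc2265af61f335102e8c5440d2db2f3615b5f2cc2c89036a39954b69e5ae46c48b0f28391ff2531cc41b7549b5df3781c76cf9b5b9908ee02ffeca74168898191a9fa47d1b0fa47baf96685898fa49a8)))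

/-- certificates -/
noncomputable def CL11 : List (Hd × Tr) :=
  [c60]

/-- a certificate -/
noncomputable def c61 : Hd × Tr :=
  ((1018967040000, [], []), (.bf 57 9 (.bf 27 14 (.bf 14 2754 (.bf 15 94 (.bf 16 19 (.bf 4 104313 (.bf 5 1335 (.bf 6
  324 (.bf 7 168 (.bf 1 14336 (.bf 2 3656 (.bf 3 1408 (.bm 1 0 (Fq.fr 2137 98 1285951 80
  0x1a473164aca1827a67a86d0347233465f25a629f4bc8ca714d6330b44642b04e8bae311559b594c9bd00b3fb3f39e833edfdd19a8b7facab7bfcc5022cb1e50ebc59614ab3ed8a8b7288ff2a90df89387c3f6a26d67a0442c8b44e1f28394913790c784e3c3a25a283c7141da88173631f780f500b0d5d161a4d9f8626609b2525b41e27935c06e7b172b2affe21c87f3b16be5df4e70811b030b7d3d8f091023c1c5896a7d79a28bb5356c7cbb88a22d2d28c7e44042b79b21b1ae35bccb70aba4708df1a20ce23ff8df6)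
  (.bm 2 0 (.bm 3 0 (Fq.fr 2171 99 3897331 83
  0xa9c706be8ba3f22b7c0f1245c4d2d5f5a6d8fa083f65696cf0f51f27f0214aef7c4c5763fb00c072168b38f22877bfc0d3b465c3fedc6b87c92c28fdc916d2585a27eb4f397db099afcc0e04b83c0833301a4208514faaaa092ca2b9b1c40070a297d7d1c8d0917e030ec03506a5a4ff0e6839589f098c33a497fd23dd0d938c830ae7b6bdd4ee9c80f02ec9531bced19214ff413666d0cc20e9d28c51bd56848cc84eeac4badea5d3ab5695e65a7475fc5e630bc823a7af7dd6782c6c4cc8ba7c2fd367b463ee63316522a4a07b7316ee30cfff9f097b4690d0a8fe838e658600bb2) (.bm 4 0 (Fq.fr 437 99 48021 75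
  0x1b79295ea8a515388abb1a59e175e6cd799957f990538128d792e07308e914dcd3295db861025d210d427d158f488401c56769f672afda6f81207d5e48a5b487a96e088c72af9f2daad2010e4f7afdd18d8647630d89378d8e19b0e971973e239fb5aaebd4f49fc53efb2ea397c144795dfd81f8763d7e282f748af64105b990119fc63265bfc7d18627ef89cb6b88c8f4cc) (Fq.fr 1615 99 11691701 83
  0x5e9ef67f333b134493e6ce3dc87f540f3b025469e586df75c5aef89a4595e7d335cfeab12bd40906bebea1d075ed52b8bc5bf4e5a0d96bb6db135a6baa76c876278d4c7dbb8e3aecf8a59ef83623d251d142f4ef811cdc3fa57e1e6dd9f017e18234e1d576715ca25c6174490fc73b324ba9ed9fb140aa00bf17ae792da63d16cc728b7b9829551b1e76a290d523283b33b1d82e936c38636afd8e5816ad3620422afe4fabda50180fc4a7a5cfa6bf9b7adea1a1d499a2f5276652bd3f41153c1652b5129a2cd27ec40267212cfa6fa43eaf5e58e299c949096d4cf1ee734a95db95dcb36b8d3a15057c53a6106b9c5d42f039))) (Fq.fr 2685 99 3897331 80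
  0xe9c2e5ccea9fd73d175fa026f5d07140fdfeb2147e1ac7757142593125ceaa6300e109c18291e4b5d5810d55060dd82f6b5185ffcba45e1f7d7e6a6c32a0077a1aabd0910519ce59776a97232138aff000a707f82fe7982b1d69a5561d59a09ba3289d7de1e4c13086bd3e769e1f25be26741ff1e36c6197b0aac36fb52d6a25431abd9e923852d9e44ba66f2dcbf31f4b66ff45d2ff8e39e9e3d41f05e4d2982f410d8bea6f474deab59d83882f0938dff437b2c7413c9d5444efab51d9b77cc33056dffc719235784305bb72f90850b4cf1dadbc3ff6cbb782e))) (Fq.fr 22835 99 35075203 81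
  0x1ae35cece47185b9915c6c76d7b22bbe9d0cfc0c0a97991f73f0e619e8fd0a0838d5f8509414a5993d59826210594395dcf113c932bbc81d48dd49b37e9cdee680bef5f7b290f6a68bdc028ff2ebd2b3dc63b122fe2140d61a13f77efe6d8d4e8c978f7fb7d3bc8c2f92a41bd680aee0d84cbcf127cc617662da604b77bc49894787d8f81f5728d13d5cfc5f151d625393e023c8d624b383ab8062f94714dd951e923479bf0260bb6ea09eb1efd3b72be803b1064331a428e985dd510adce1f5b9151fe455c2eb16867c7bfa07c21b9670156fc8aee54ad15146d572b23a0a8926d395b70cee6d0bf7f23f642e0fcac26548629ab15f146f4a6c48121f8)) (Fq.fr 2098459 99 25569752371 82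
  0x208ebca51a81f4f9cf08bfd3087b43a25b733db3b773782ae5f5244c2a533b5c118e6f8d5dcb75cda3928860add960f60ac63bb90f2790e2b5a9d9dc0a03c74791f7520b85ede2091119fc4711192034aafe014086410fa0fd79cb78aa058f2244b9f0c8d589829d22ff76a32ae2d358daea29e294f2b737f5579a4bf02ab527efc7d6c83c334711502607895fe0caae12327df52afe0b1b356608b6ce4dafbbd12e7d3dc5bbc6289570cd8377db83a20122345706ce100ed11eb9607184bfdbb5ae1f387017af30899fa1b094bde1ea42c30910ccd98af2692bb93f05e346984e772543ae5fb0b5b00236f9f7c591e38d8cd69846328f9e980901f6ff3a0183e5d0ae8f709701fec5f796b8c6112633fa99867e22cf2ea84b50ccc8b6d6919b70926d1fca7bb3c86620f86c0bf73076de27801f181db3c6a8ad6d90697e3ba207c25141c7a6bb052874d219a24abe646947c05e29b78d2df842907609ede5901e71)) (Fq.fr 78649 99 947027959 78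
  0xab741706e9952b055250953fecad79b23942a239c26599ab88d3e6c4f0ecc6ff5488f7457f1fc666a9737e895164384a7492763c05a520a15bcf920fffe61b3474bee896ff54c48655d78b6ee95483d3f5e607566288be5ff2bfac6c2cfddbf596a2db97f58368622580c80a0bd491e356af62c58c4aa12f46ef448d51b3dd99fa099f762f745e032f8ffda8905fa915c29d595ae4bfe6335217cad41c5fcf70f64f7c74511cd6ad1ae778ea93827aa4c2b454652b08c482e5e41ec9c4b0cb7285f6209f30d82de84e1c99b8263ac5cfe1545033671b53c42fe548d1bf2effbae97a3c4cc6b81d01562dd5c39c0fca52d986167a3f409df5268720bf1653199fbc8d0ac8705064f03915538725cfe3eda0d79b0f38c7c1fde6b0314bc14f48dedb80)) (Fq.fr 124809 99 947027959 80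
  0x87fe0f1b043eed12270b42a5671526f77d747b4bc5a3e929bcab78296123e947d7c54ec36ed4f904c8672b957cc2e6b500d5aaa3191ce248284e9aa9aa924c522e0d7a06274bbb485ba1fcba1376c9f1a7d55c43248d9fac4e33c917775a6f49501f3ae34b2adb37da977df3e91795cdc8c3fe3bfa382427de9ceae70d70bfb4821e4a793c9e4da98540b0fd1f0ffbb2443618101f913d582f802950a1d0c80c418c8374345c97636a57efd257921e8bd6acad18a60ff77fc4a26f23db884cdd5d7420960f6253ca3c81f9de69d65eb85b2df6a14a4c06262c393135e5d028423a33276677c8df68bf518777afc37826e017a5ef702a1460c9aeef67b01ee66dc0f2c2cafe7c0b1b5aed681bf2f7186e84191ca15e193c961f7203619e8f847bf44f7cdf9ca95642809)) (Fq.fr 65477 99 315676051 80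
  0xd01b7dccdeeb2fb76f1138875dbe7b7825618e77833195cf722b350e3a8f57c55a7c1a8855b0b5b892c4fee973d18305a7c1a0e7d60f4549c48e241e9d39b05c7e966701f5af483627502603b6991712bb3fecd772b6a5c9b08954350155e21ff733c7c367ea9cdd085a49e9a0ff540da2fb2f05525b1dc512b3e0e30b1b4f64dc02be8242accc07b982b18027acaa08890f5f9c1192f81dd5aeda8e58652abd3eaa277c549f7c9669f2dbe468634eeeaf74c13be7c41ecec68e4da1c9c5ba14b16ab77e1aa2e23ebd58d8c0c4c7f02dc395f83eeaf4fe51f7b616ec3e09c03ba53e5a0c49dcc96f66e294686baf1a02ac6a651f4965e396b0e8e6f498a6122bd969ba7ba2d014fb8b6db143c5ab94a9499f5bcf34fae0fc2db)) (Fq.fr 4230387 99 230127770563 79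
  0x52c5e428a9c11abaecdd3b198b3d220544932436fc2d5b686e8fc83e41679ee5ed5513bbb80369c23d8ec328adee7b21bec0048fd8e23966ae8913d9b393ffd2988ff50189b9dcca555490f8c19ccac72a627fe52b7cdbacc4ee8a209c9a6cc8edb759d9429c9fba77519eead4073fc654f7512b2e93aa081b92b04b97843856353acd01b860764fe11b8e1e9fc349bf9c5379c2f15f4acc9b334d07cf5eff79089b7d14f896145c43e0d9f5242a505d4240054e7518cadd3da8b94b65e77678915301bda543bec0dff19d271361400472734557180466d61ddbe956e9dfa9a8e5fdce3d99daaa2521abf20d6627a00b0662fa28ea837788f1b44decbe5c32720a57d01e48a78ffe3241b19f6c9cc12c150facf916bd06c941f82101dea33e30b75f5f8b081130dadd6564f5dc3e84abad7acbb94f6294c51617a318a43b250f8f5e38b1a7a9f9ac7e664bf20c5173063effda69537b5a3942e83d4d05d7a5806f93983b6f8d7d74317e0c5c4da745739ef13f08)) (Fq.fr 5040349 99 230127770563 80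
  0x10e6a840bb6e25eed040dd12562ac972af54ab21cd292e15cd8c66ec4be7a61acd977c3ea79fd5675de47111ced6da2abc90fd9ab75efe3c5195162b7448b2c35af147582865582dc54daffa83031e5d401f74d911fe737071cae5c664397a97ad80e3557382abd43b19af1001033360506cb409b1c36d0ec855c636ce218aad3ddb795d40785c6414d6dab6a17e0bcdbee4eedad6042e31f801e87413349aa076f255f05c9b88c7dfa69b1b3e2accc11dd38fea11180c9c7a2d812d1b4c20fe84e6751a3835a808db0e1c6091f04bfab3228779f89e05f0e89ad3b40ad87b6610cf5351c20f881e3a1a346e6ff434d333f8ccf83af5984ea35ad8bbc6dbaf1785e55407328d0189b16bbcf3f06480267185c77455e8d5d207d242b1e6c9d793df7cd4b3fcb4df2c2f2103151dd1c4aa4f7e5994bf2a9a755b9935d7021ee46c7d20fe9186abd1884a8fad765797bf788639de80500e7c205153bb5b2be25fbc10b02fb5cd0e4fa0c03d392c73fa6948cf0fb80bb0919d9c14))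
  (Fq.fr 90401 98 937462021 78
  0x35d4b71db629db56d6be0766b4a232c8cc9fd66764cdda338c973961e8dd18915085b542c5c7ce17e9ce4d7d746f3f2e3a22a8da948754f2bb69f982fda850b8278017309ed684bbb50b823bb270a7273b595b0ebf7b6536f1d79645acc396aaf18f0b6c354d54db483af4d4721fe6e763fd2c42896d2214a6919a519efdec274a5aa8a1aa7a5999a0649ad76a94c11d6cbfd3e34cfa3525cbcf282983eb4b91375111c8d62a8a89e4799d0889be8894bea7237f64e825feeeb59f87c9176386f5bcf6964bae170d2822f10edf883ac5a0aea01acae1351f6d156f583349921e9b126e03bf18941ad21167d443cb38e7fb4241db71e81162cc4cdacd1a58026ff42f71ae1aca0e76ec2c9629171b5d6d233ec5c88b44a0f2259e1db1ff241936f8e)) (Fq.fr 13549 99 315676051 79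
  0xeff64d14a56ea57ee9240dcc987ae1e4d6d4e52ebf5c0002374a65ed0af9e031baf03c059d81140d31651a56d8e296f94704fe0eaeae433ac1fe9f8c296010b3772dda59f763c1e4d571e3015e14bd79d83e9c5fa3f05ca4735cb81638fc6ac1357071ea55ef84c8b709b383520e3c54b1d81bc549c731d24918c50d6dca4bc09a1f6d1b0291cc06d6d35ac44a8f671948e007d12ff99f39aa3e2e03a5cb4b44f253304a5faef2820f053ff26a7cfb47ff8d981150121d3fdda8ecca1a86741af5ff90cfd32b669a8d6bbb88c50c4d91512d02c38872e8b4fe376c2b4be0066e9cb5f39269a12e87d94ff58dad7c10fe33ba33d157bf819ea1f298ba6ba6cc3d0cee0ab45db85e6105e67a1c127b0cc27fa76c83efc)) (Fq.fr 1550763 99 76709256919 80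
  0x23c8df401b00a83cb5b2429aaa020011ab0fd28df89a2860512d682ca816e3973ade3bfc35ef20b60d84937ca6e28c8b6b0e2541440e60e21b86e73535c0b2574ddf1107e6485c2500d4e48f0a1030fd18296ec606fc4dd4c4025a3e19bf8f24c5234f3e746b0a1cf265bdcbe069585040c6587bdf9767ea0cfd8459eb2ffbd24218099171484684889a34aeeead4f8cbd6dc67415822279776dadd6759d89e645c9c513c520f33ca68b5a8b5762981363d4f416bf7ed9f359c031c71ac0d00c24d6881cd77b0a551141ffddc6bb5726870e48dd3cf42f37f885f74fe6b88f53f2afe7295ac1aee63c66c8315cd4afe80ead00b6d3360bfbef3a2d5c8cf010f80ae8ec3b0d198ca8732932841ebfa1415bad794edb9220ee548eb5101cc8d550cafa2c9b6ea7fc2cbe0b05395275a3a992493b0f5b7b1e36171ef632415b50527d13f0eb328a7ca2af2696ead4a0314989295bb1b04908acb7d27b89660d9cd1f5bc99138f16119dd5)) (Fq.fr 19403 99 105225415 77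
  0xc6c83bed0744392937d3e497e9fa8158d6c48dcf26f5554d16cf682d620543873dd7fa3518c99ecc1f56459b1d74d020856d9b94197e9804657e178bcbc8d517959a0e5245daafd6563cd950017163c9884d6fd83f73f4df56df8d7e236ff85546ee8782a2c1235a5f30213ec12705059dc03a55c7a6709662715fc2e45755bfee52449bbe47c59f12516c9ba48b66c220760ae2dd62b3d12101b1d6da5ee81ef21ae48302758754115f4b108ee4c2b23119f8ce607bad64b331678b33f6195cc483073379bf005f89bd9036502aa4fa9fd86f24385a611bfb15f901ecf5f099349ac5847f9529388914560862e75399f195d893cb22fd6ca65ecf47011a530)) (Fq.fr 57305 98 104162533 80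
  0x1402274ed76a5031132cbc709724cd2ddbb1955b5eedc2b0c8699bf34a0439efac7f5ae2228af0c86e2c83aa92b28f36f33b1bcb7d22531c841857c79d05242a4b5a607e5b4e661162207633075e695cd4cfd8f6a148e0d1a11397a24e0cf4b408f190b8b5cfc4a3db70f9f35cf6738a100b8040e222d5d5b074a9363c7ec6fce3b1e7c8ccef1c65f4e771eae231ba9a854bf7b52368a95791e0a52d380ff346d8119a69bd51b838879d7192621747a70c07f52e734fbd6595499fd6118b0fe4382331b2875a1bcd3f478a97605d60691f6996d4325aed9d73c8a38d6db6e404afb94f172e9b406ed476bd5829fe058b5644c9aac6fc6727ffba5b16b28983019731afc0a89dac1706a5)))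

/-- certificates -/
noncomputable def CL12 : List (Hd × Tr) :=
  [c61]

/-- a certificate -/
noncomputable def c62 : Hd × Tr :=
  ((679311360000, [], []), (.bf 26 497 (.bf 27 21 (.bf 14 3986 (.bf 15 141 (.bf 16 31 (.bf 4 157410 (.bf 5 1836 (.bf
  6 432 (.bf 7 222 (.bf 1 23168 (.bf 2 4882 (.bf 3 2288 (.bm 1 1 (.bm 3 1 (.bm 4 1 (.bm 5 0 (.bm 6 1 (.bm 6 0 (Fq.fr 336 99 433121 78
  0x30b76d2141e03b8db79b68a7427e9b297a12a0240669d98ca0c3042fa4e8e920bab0f406990ec078c2324cffbbc7f92822bd6da734b0d522a10fbc29e1373d28b950b365eab7f70cd53f8daa3a44b6337f66868bb3d88f61ab483084426c3d92d0785f86fb9a26a49b4663c6755516ba576712621b97b4c68b98f5461bd1b292feb27687220c71a6ec228865ee5e0a9b280523bd2e377e226b7df5953de7ebf38a20acff0f584742e32ad16b87e9d7750a56c0d593493) (.bm 7 1 (.bm 8 0 (.bm 9 0 (.bm 10 1 (.bm 11 1 (.bm 11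
  0 (Fq.fr 2 81 243 10
  0x3a2e0c8a1bc6f36f4451) (.bm 12 1 (.bf 57 7 (.bf 26 84 (Fq.fr 142043 99 105225315 82
  0xec8215753ecdc59f3743e039a49bac7ea437c5268d1f764e41cfe29748c1585fd3e212a5e39674c9e8b39adcda384cf876ce8c4f737e951fe17dc2b52276435e037793e2ae7dbcb359e4f7ae23035a9ae0316f9d2e057418363f038ac38a611bb3960537a16cd514a47cc4cb946c7052f66acac1c23dcf48457cfba4a6f97e0682ef6780b2bcb4f6bcbe294453afdb44aaca2bc735e8683658bf05b1d6a1c270d9e22570c3c8a7c2ed679c319c28478202055080605f4472cd33fe624e43e9aa6f9584f63fad3389ae170b0e8c723839ed67693bc642aefe6af8bf72ff6090eabd99385dfec255fb6bfff0da23967e54726ee96be3db81d6e3f178f6f645f4e43e5caf241e35fa0dfa02c19db50029881) (.bf 14 1876 (.bf 14 691 (Fq.fr 360295 97 2783687959 81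
  0x280332c74f52d529f0ffc4b6fa54290e97de225425ae804e315792ccfcc7516b2b581a3d4f29ee090c12303a9a375287c59cb40fc2a3a91432c2cbace865c04a9bdb64a7c96a0eb6bc4845475dd311517ddfd1ed44e3bcd9d5ef81b52c6a27ed496233473533e92ed6e14a52a57783a63079cbc87bd204a2ead2f47ea3cc1cc168c090e6ffbaf01fe8771f8e7cfc0dbe6d269c38872c39cbc64730b7a8a55fb8614997dda5ffa04181541c207a66c3e4bb689b1ab9f45434a631e3109f910253c6e3aa4259106ae37b31359c0724fd2e8ab95fe8b37314bcdc2cd0b5803c2d5b18d44aad24757e536cb423087d751f8ad79758e98933eca430b4a009e201e891daa2d6f6d3ca9e19188abd8d367da9ade78de9b1aaf5d07a7b85e4170e576c8b2a94398bb741fc273c83af86c301ec0992604fe94a76e70896717c7c46b4) (.bf 15 71 (.bf 5 1530 (.bf 6 378 (.bm 1 0 (Fq.fr 3449 98 3857867 81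
  0x142d3a22c1ab7e0bb86d30be8150cfa2d9694f6596bce55b9d3ef04e742693991951187c3d7f39796665f342e4b3d31d2207a091ecbb12ec70efb4e7112552fe5f6b231866a94b651889c4458391658adb9de0dfb890b9effebafeb3dd4f3cae9b844fe5bf4ef91e73f0b2d6b7b351157e3401639b14624f0172039f599907764b64e8a5184a30f1ca977fc895a9ee8acd47b11a41108ca51e54ea470614a9d9840b9b061a5a637155820339a33d7744d45e6afaec55e0a6aea2acc425ebedf7b381bd3f464dcc3308cbe66f86f9b4d684da6afd66f1161801ae1b4cb02) (.bm 2 0 (.bm 3 0 (Fq.fr 4373 96 247013 74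
  0x10c1d140284306b2060c201e256565a62e12964ed2a929d79064b070333c17e8fe6a2fc6f44b9ca289076556cb8d4a8345e81721e519b1d0110a7abcf78bff62433dd0cad6484aa7088cc4bf89e56cfa1362ee4ef6611dfb3e9e878c959f4318b4b08b2e1231f6eb7054bbe26b4959c0bc245068fefb6e02f0c574c62a625553983f535e3e9d0ab339ba78d28a2ac12db30a6fce5474240102df99da8933f62cd7eea6f9f849) (Fq.fr 8371 99 11691759 81
  0x7f4e7b3d83ba647bd2e419d1b9901b8e2cf17fe5da8207de24ca45663257256f0baecf16b22d550c63d280cac786a24b7dd9d8bda407ebd2fbe028d0854e83b3e55e0a1b276a5f28d2a8cc4bc66ed8bf7daba588ee65d051655376ea708f19e1a11a2c1977edd232be3ec67d41800936cfab42a2206dc11afc24fe4ce27d200214948ad10be667a2e6a49ef92a014e668983dc4c77392410c067ba52f31c3839f49f23380a7354603b029986bc8adf205aa2c3ae3897fb1555ab33a5c79ee242ec71fd5ec7c1a6cb164b3f134596c3e98b44d7cbb04ac2a237ba9754636987462bb628cf858cf6bca38be46b2e0)) (Fq.fr 6619 97 11455507 81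
  0x8f405fbbcf60a72467e5f99108c7768a6945b552fae611cc5e02febbf2eac07f48bbdcc8e8150c466a6189bf3225b623fe51a7e0799885a4f25b1e59d52e140994343760f7e5dbb5612df1ca83bb5d6e590cf1dea5cc58b4ba38c9c4a14a80204db8395d0034288167d112aa029b5e582872513dd4b8be80adea0f8655461ef1b98dd22ca356b61d6b77709a0118d8cb78c0d4b0d2f4988e71f5e51caacad6b4d9b789337977a1f8041d9eafe1fcf86dec6006eef05b684067976a5c301313b69d381d0fbe762f552afa7725b304e4a721d7d5c5078a282cf11af63abd01854e5e1ba7548d37515668932ad157))) (Fq.fr 150084 99 35075203 80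
  0x254eab1152c5f228c36fa6fee9152ba7eb7c9ca339a3b4a8480d9f4568d14ca2baffe960c09f982377123016840bd312a9a9e61f52bfae2e2818fb8eaaf93ce39de8e9a9dd170dfbfd5fb1360a7dc63ce5a00bbe3090f246278da621e1c4c5acb4f4117bf5065402b81a0caef7c9460132cd8bdde7e195f98f440190b6d46ad666df3798139f828257b9d16de381f1d0fd9b7c88bcd8c13701598929ef34e028fcbd9e92207433f7e69e56fae8e5cbf219f265280ed78c4a9e976b835d2c727f04e7b3b5ac26fa47167330d73edb84eb7bc60c9f2ce2d5f68897ee6bc86014f8479bc45e2c54b1eb15524c5e76f29ea6dfe523310cd9d8849dd8)) (Fq.fr 3921844 99 947027959 79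
  0x80d9be0de2e3223d165314287f956555f1837dff2168c0b9646d199e8172d59dc095b8e9d5bb869067d1d93b58bc40a862258c80b000b2c07552e0f803dc54a55cd5dba86df2faa155f1168a5afcd66883f3c450b886c9eb1f0d375e54aca37d905a53f076e998820a7d118049eb7d87ffd84451255a2c0502885bc8f637409b11047ef78d954155e6c8ecade74cbab199a34890ea402f418b39754950c77c45c8ccfa7c2bafabf83059777ddeece79c54a261baa531a7b944c2c2467cdd9011e29530d8d16bdd6ab8a18de7a3f816fc9d34813cbbe5735bc374f6d6ca94d4373c74f7792ad0759e056b18643719ab8d07bf470330d0aee134b5729c182bbdfddbbb375d725f4fc77a8531263f4954c7314447b3454648c04e23d52d45803c9eb9e62942822)) (Fq.fr 1271784 99 315676035 80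
  0x4bf58ef5f8aafa60515c8bb097633a9c774d1020dbae5a76de795141e39767273e0681424df9bec7ece2d1d891d283a718215da0c16c32abda5837015be81db2726cd7dd44be06aa0ea51afca98516c03e84dd3dd6ec578c40642a4e71fcac32b4f6562a2cb384a5483d263654c3457ba9d65f811ebfbbb08219b25dfea6000c74e1c53840f81a3680abbee560f0faafe39a618b074c194c9fa4deed6798d1dd198385139f89ed4d361a91a9a3b52ec66fcfa55d190fb3eabd46c217b62fd0db2b3a28139dc7845d65212320b7b5f0c142ad7bb45e212e7c76be545dc7bac9efa0980115bfe795fe077c06a05d37e49631233857b35cacb0a170a43245726ec39d4a43f01b2027ede13894c50a750017562f6dc2326fc87798))) (Fq.fr 3734874 99 947027943 77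
  0x93dc07e6a312ed454541d06cf51537a8884a39834b51241353cda12fe9d3675eaaae2ab3c4be0b7a6d482ae5de17bfd1ada80a9380d08906f5d6c935ad7b9d653f1314ec364e8266e3a00a9b481e9949ee9492c5902d9c00abd264e82c24264d89c8bb72a12b96d39beba6282d88f61876e66473eea70e64b5df1f1ae583892ddccc771d9e5c07d9166ee51faa067bd4c3eaab2ac53b8217ca562fd7c0e35c0fb14bd2013ece11e23318da7d2476fb6eaa5daf0eeb53f5949b5e35dc5268d6c48cc8dbed5f4f6263ab041c5d47f73426a87907d42ad73b38ce332b443e7f9c6d7ecf9dfa5ebf4d4585ecd629303555c64fc45afe8e4d7432e8e576d6f461f380962540a5bb0b45c0710dd52d7b5ae206137897f32cccc2f3b24b32576580a))) (Fq.fr 0 98 142979 86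
  0x21ea342a890c5f548ebcefe6c5558a8f3987de2626fb1c3759b2294bbd09f6b59b07fad71a7c8aca2fe8e93e2b2212ce9898b78eef2ce7302034a3ecc8038bb258fc7968f5ca57a1a92d17caf0b68bc6e1b2d78bb3a154dab5cab1c224ad0857dfa12abf28df6fafea5bb275612efdf5cdfe49e1e6421939f130a6091c847a50a30ff17ff61f8a01152f3eb80cde04631677b887b1a828e0853980b1539206457c800380661b91d41e1a7c79e803c6fd8e88e19ac739254)) (Fq.fr 703 97 1272835 80
  0x3336ee966aed2b6786c9554355eaeb3439d3be962813c663feb83b2ab1b30d6279a17eb307489ddc8fd0c9632a9beb1b8e6c3aeb1e4092935c3232494cc1c94078ba28f9cb07eaefe6ddf720d61d774bc122b0bc0bc20d2fcdff0408f8bd92b6da149919ff836e55aff6f75dc1cd3a31f6aa7a4c75a23e29c3b5cc9d079390b0f67d06632eb3d2ffede4360cf167a3f17f01fb636cec39682fedb055d05d5b755b80806bb5913a4a3092b72f09c97519b8152c0f29ab67c0db1da491c88ceb503cb948e8e5dea14b13861))) (Fq.fr 1243 97 141389 79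
  0x8a12c21c06548401b9315d210bf15e131d50bd8d562abd2b238a15c8ac00c4da0fb56535b11cae48aacdd54d8dc59bf14724ebbe93146b231ec0bcd789cc7bb5c438c4ea93832c99c035e3c6e552803b3c90804367b8886d6f4d36ebe6cf729f6bce060e4b0025b2e4bbe1dc719ad1b21a17b4db5c61b66bbb762c08fdf5a5071446fd8317b6749cee8046a31705bae4df0a272564eecfb2f5ae33845c06207636d599d33cecd7d560)) (Fq.fr 639 99 1299077 80
  0x161db3237034ca26821d538fe8b384a8df0db874ac112384cd67ecc5cf15a21354b7a554e7f90f72bb79817eed5d881046c7b0f1b0a50bcc7424adf60678d557e8d5d4e19c42ed81ce7c5944ddcecf3eae6450c73cab7710c7e9ee7909e5f85f5ec12efa035045d4648e74ca024a1ca5a5ba1e4e3cc9ba2249f1b7afc789e01837cb77817fae45fa7c6c822238fd1cb0ab8ff020420e3b08f9ce05328c3a8e1c57b7a613c77acc57f1e88755a46f01ea884e12e97150519d5335d9c16ef03250e600b421bead5173b693a8)) (Fq.fr 669 99 433123 82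
  0x226a3b4a59ef69d3aed45ae5d86dd900eb36df2646b6117bc33b860c29112e9cb3368a373d96ac5b8a566c54886765963407945bdbb68d694cff2595b4b810f078538feeb9a59287a32e57609492a7e119c8dc51e37ff63ac0d037169155b29ddb9f4d58a68bc4b4f2b3cc3543ba6a0a9c9e490eec55750f5d08fe8199143c27ced2c7d7218fede5562b4feab403328f93b368bf8a0ab4d5deb12f4a89b2410e6b7eca722ebe2680188d74febae32e2c79e00a4e4721e31f37268d7b3dacd093)) (Fq.fr 745 97 1272835 81
  0x82ad1b8e6cb8389b38a847cbf13ec6f948a32bd5aa24ff5d9dd3c4ff7c520b72aaab660eb9b5d83d1b8fc8912867704171964856b26abfb588449660118029b5c06f738ffa2a31b571c254d55917649ecb103965b95d6eca64890ccd0c9122ec4d82229ba195663afe050c98768d8f12afe5e8f6e69f6ebc165e1f23f9b92ad19a620dc7cdf8be87748306470e95744152926070e902c1138ebe1d4707d8039a8c6bbccfb83d8b64ae5c21b0b619a71f92d5a9b4e6e8f9c8198992a7d33ff135d5552a0a9e17852371a6ed3c5e)) (Fq.fr 611 97 3818503 81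
  0x70c50c998babe6778aa6e0fdd4277162e86b968a2187d93e4199bf2e0a471e11a6456da828b58a81bb92f7e33e143df272c5343e8fa275138e36c30954a5e32f131469532443aa8bb19b1f9943c59ddf269495344aafe816d9479aca330b9f101ac694089c277cc8e5281339d8f3359be9ee038399ecd17227f5599410a82f3047817a042fb2c8e167b1244e3b7f776f9495940b10c21077839332890908d255ff256164dca4cc498537eff33d6a90ad1b50cb70107db40a3ea76b50dcbb4cb29f01dc89a21ab777f2f7cb12b4c31ca39174bd168f08a3ef9c6dd44299))) (Fq.fr 1129 98 1286053 82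
  0x11691530da1f112ea63e3db7375d088b5fd44dcf48a25bda8589e1710985c7e3645b026a14345851aaebbe91c9da4415d485ad2e6bc9c967bda9c0a4758bc3a6624da7c0148c4446c1cd0906dc153b6282b28b83f722a7991db2f504b0f9a184df1aa4e5c5ca05edda61ede27b1bac6848b617b6ce93337a67f106248c62b4a8d3bac0ec5611294f85e172f894c1bec6d3df75f34d1dc6d949716c85c38e5fa531a657339f91487d76878c9fd27632c03048e96c92f87b30dbddbf5aa464df512ee35bfe7e76c8a8c30daeef8e0fe151)) (Fq.fr 7693 99 35075203 78
  0x3eeb5e1473c3f23320a7f16af8b98ea320a324f3f663ca9dbe6e258b63c1f66354cd8d4b95bbec39c34b976ae7f1adade542d15b0e2b731f765f14f106b903ab3fe373b188bfc43e2ed074f976b199437012f15ae0119e94a9633c861eb8feea458d6f02aa77554dc3155b3f1bc908a10c71526403749bfce66dadb6120b82c631fe0d2d5a06e8711ebe0dcee16e2f07b09918fd9cec005c7728202bb48e29fd674a01b96b6a2e952c84eb30847fcc31943364cc9e4569e3d9196f074b7ce27496825cd41b2a40665a542c8d82fe55e94a89f733341bfd9b09796095cd66cd93d68bec9015af58c6beebd8eca56a0f58a4404ff0))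 (Fq.fr 2817 98 3857867 77
  0x1b69c83364892e9721c9500bd006c7a0d2a37ec4506c0917f215e59e750bb674213c04c7863fa5fd6854a577b071a921325c21c7308bf997fd20a5bfd50b818b8905dc61086c7ea8083492ce09cb0bd78220356da2b950f50566223ae2c3b46b356df85e5ff0ddf0eff76c170ea0e4e07754a8ef08dde0a3a9f78e055b23b815f927826b495edf40925bf8b23fe7e5f9322289bb27cbb329f8915f3834475b4cb670be25f6711f955bacc3b399fd5bcf947118cc217a66cdec800f1b0e61b7632e99cef9a31c566d4bed78ad1a777c522f6ad)) (Fq.fr 24669 99 11691799 79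
  0x188a11d01f15ca0504d5b2f9239a3851f7309f82e3a16b2f0f8ee517b17625289a6e35b15d56789c3db5ba05bc48a88d075c5b9a2211da539656e6a00887ec9edbc69602aa7408c25ebe056ca4bf41a312b9b2d853a41aa6608033eae407d6541687c23b331365661e1db47f1867bb144f36c2825515c74e20896be12ee9f8f558e57f0aa239d3f0e92f8ce60f52694bf4195901dbbffac718750fb0d26d26952754a54cc11a29ef9625df8feff3ecc69ce09cc48fff3bafbcee765f35d477364327a5304b0ac5ef6f541c0ed44551a5c252a95358d6c4eadeb4bc831b193a0a58301e737ae1a1bb)) (Fq.fr 1065 99 3897331 77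
  0x32519c07ec6d9eef9d443189f38c061d0a66cf8509a94d044aa19e4fd6cf533a529123cc6aef46455e542f203fb4710d51e958af32f9fd5f002ae28d6d2e981d8dc388d70fec4d5b82ecafd8c417f18483dde8a0ec8e0e2084275ee37de7832dbc5792e39a63b878c87c9831e75019c37b33ebf4bbf1d76d3f0fb8666342896323375e395c81da4b224bf152739b401c90194e0ae1a2ece6a7e099d5d717b8e6cc142f420f9499c68005f1729853a0ad1a45176395097beda232fe2ec86248be1aaad69b7fcd1016cb4813a0dbcd53f907e6d)) (Fq.fr 11767 99 105225415 81
  0x93080242f2bc7cf4a8a73deaea6680588474bcd8fe6740089a23f7060c5dfd0e03e2cafd15dc33d221b26327e5ea5b9b066ca22923ecb7913f5b2e426296f6b549be17ae46159e9186fd88476138e6d5470a3cd31cb8022502cb273dcaeed0ac8f068d61500bd6821dc984c9dc5cab29a3fdb7c0efb57024ea5e9981b0c2a09b841259ff7dd4f97e29b1ad1b83d426b66379b3db625a8937bd5f68ed3b0e8e4b64763792bfa910f27038e8d8f54c7ff19f3dd344d0c8cea0fc9e2585920f9eef8f0953ff34da8a920234f39028f39b7a12440228aa6c96eb6d9df5da8b2f7396d8e808a762b127146eb7f48d87575cc7b9394e2b6307ebcc4fd15e3b846687c23e00c417991aa8767d29d87a20))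 (Fq.fr 3605155 99 25569752371 80
  0xb138f0094184b7ce501b7298c2206ebed127f5225ced53860794aea8f4238033aff19caf9789266c9ee7b77587e84b4631c5574e5f6305b938bccad7e7a9a246ea30cf55277c5fd7aeb05f1a40485c1aea478c08ec6d673dc94747a4ccd5df71a6f573a54552502782040442244df84a76dc0dfb1f409666f9cfdf74283acebfacb5cf513da45dc82d829997cbfbd60e63ee9af242ad309f6bfc3fdd6da8f82bc6925df5be6da6368ba5c0fa2e5da1f5ea9e59551fb2323739b13d1523774ac72045a5318bf56e20a2732eec4ce3f2722c30c32583cf3da4d40d11205bdd5aa3965f468e1b86e9292576c064d74da7ac059e32ef532bb19d76e431c77783468df0330766461d756d0b9eebfad37e7162a413f1edc738fd9df719b5b2acd8e28e5aafc952cfa6612fdc4f9ce05cf319df8b7284935307bd42ad3693e89f5cc59d93cdc772a2f750be8376680583b037b682b352d9cb50ae1d8f)) (Fq.fr 534853 99 76709256919 79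
  0x2429ee06126a47893749b7ff6c3c909a56cec6730362271db5628c47353b206a82d5c4369cf31683d4d27273a40d01f3892c51760d1d48f3efa6ec56d370c0b6a3cb003c90240d7f099d0156f689f5fe87eae5fd3f80feb19af6453261a08407397d0035600eaa8c0730a24c32b396b2f4992910fbb8acdfc1773ab5257e97a8df1c85355ea7adeb92b27c8ab6a751b867f54216f5c545bcd9ba7efe3be266e0fa118c2d7294f90800e1ee0591271e9ef5bc8326c9523d45091f13acc60a5401c379ec7b3c5dcaccb193a55dc97caa77447d67c7edbdf0875d20cecb764a8e8dc5561002b36971956e9ca00079e73a90ad1730d5f453c52c92bf225fe66b9efb577f2305fa4d76f7e012b7b2ef3e5e0da03c6fb00cd057c35d6670ece13965b504c2b698cac9ceaee9038b90567f7d38ff83e36e61573a88928f90442b30db8571bb2fd60041a3a1e20a8ee816bbe1571e2754b74d9c83e341dd23ce88415baeb52a6e11c)) (Fq.fr 1548617 99 8523250855 76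
  0x1213e650afb22253991dba527e5b3cdc9bd752cd36a8a226a6b84dd0bff428ab210bf1872ae491464a28690757ea7312aac6ad0a7fca89a4a86466a644c155ca4dcae89c1aec542e358551f4045d4ecf79eb538c4e75315d587417a2c1b695ea1411bf63e42dd28e443095ae82923536ee8be7d95eca7e6736dd4daea76d62ed2fbd95a85d5363287c934cdc10e9759986332e2bb7fc8d7950dfeb041e05bd78850201aaa3002c1f0f22d203d0f859d81accd9180a4e1c7442c1d8cd25b723983f58240d979944f3c8bce61fff4cbb19f000e5519e0a94b52572f661e437f32cb27a38077e0853e4dc4f4ce37d50c480d56ff023be63c6c578e1b850c901fb50036e4904a6edf1b41e1b41c66dc196bec89275ab302c9c57b41f18cf93f81e847ff5197712a5b1669f379967d26e35a374ac84edfb4fa68abd)) (Fq.fr 5322573 99 25569752371 79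
  0x8170a282f0d2f0a294dabd6a2d83513d45e642515d5e93f09ff891c874416937128df749db530c6196712862fc736ebeb4842086fe7e898087ca578859234f4cb7d5cbe5ebd2214e9d0ebbd81586cf82e7e7ae698b6af0ec1a27295e4878f43ad8f63d2b209790ee3dc8d06c3af77ea3fb4d3eeba6c109e36781fbd678c8ef7fe2394e7283212cf5d66b696adb5bd1354755c2e3486ca80d5fee899b9dcfdf921e3c4db0b601e58ffb65b07c77698a7caff384a30d7b0cce000284aa3fa23a21d4eca6dcb2d597e2665f7607887109ac2bceb85ff8201a47fb781e975b631d8c507142cac317b9bc0887955caabd0410a1628fd77d284a9f85b1856b9c9434c1bb9bf999f4aa5ba8d290d6290d7d623d16f43ceb85028542f0c6f9592424d139475f25754efb8dfd4786d7d56733c8fa515b55a5248816bc8ae5d9cf23ae19cb8607c0c056a97aa31c8b7b491f8fc2ab170bb9622)) (Fq.fr 362725 99 8523250855 77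
  0x1e7c6e7cf51ef6770062601cf2ca1557b8267a7e633e05e3b4f4de9a20aed1b2112a97b32b9ade3c1e2aa03c7348d4c4ca7876cce7f353d3dda80b58e02ebdc187617293a173d630cfb5be9dac034d2bbc9bfba2983e5773c148171d677d6beecb16957488becfd73f635258af8c9c3e7bd11faa18f44a18c125b4418a7e687d6a0f21c432b8a8fcda3ee82f5580d90e33c692490add81a698fc24bb00a864373ac2d20e53327a351b363a1dd00efe8f30529c903e9587e3bbc041a065fe2391b0f92fbc9bf2b04b85e68afa9327bced3bceb10b9265f80413cf1b3fc0a5e19ed071df5c5cae422565487daea31d5318955aa728f21e23765ad3686365bcea989b44edd415f08ec063a0e19b06f7b0234a6bf784a8abbe43faab618783a44a6e4024397416c7c7de67907d151b3e09e508f78781b935c95795849d7dee)) (Fq.fr 1437829 99 76709256919 80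
  0x2991dd074d9a8c3c5bd6e70618347e58b422f5a172d8d77bfd155b555964addf2a583173776a3860cee57e2d1ac04249a89d3a9e55b362564316b34248e15498ff70ab41f48a9044dd641ee699bfdbe278e295447472b1d7da5977c5f068fd3ac6fd346b2adf075697f5b087aefc5ee91201fe1ccc3a8f2661f5f94ce018e6255563029fdd639d4b9b301a4f2a21c5ebf79b7b2682a488cc6750786ad6aca657299a47dfbd5a040df5ef14c1ded2b6889a8f6d2eb975352efb73f4a8c132bfa89b3fab6efa4e54ede1ff30ee5ee97eccbb1ea6f7172810aaa615714ed215b5a2ab590f1cd48aed8cf79cba1c9cbc6cb7079fbee3d6d11d280caf0a53d29feb16d2c4069309a3c203ae644fbcae2bb349245e7b41d7f8147882b6ad68715ca363ef2079fd3d5f4e7f48b80a5f916e4f5b3160a8071f0da0adf8f1347dd18c05ea64100288539e6e852d7c7c7cc25a4e1376a3b13051b928500e6161eacac2469a8460f44cbdce4ee108)) (Fq.fr 7907 97 103099651 77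
  0x33f05cde776828ecb48e4083dc67bcc8908b4bfcaa0d4188b5500033d427990965daf3ebccb48b0b15b872773e51219002ad91f88a4f034c88e9210d7757383c1cd9f2788cd5b9bcaf7a2a608c02ea9cd6b9df0b1493e9f05e634bd4ab6989dfe73a58d10d068799ac656dcab7f72e2454f5c9d8c7b231ab62ec22b41aa89f4545ef161c0e15e75f72efc6e7387e42b4d09c54c931668a1e343d7ad2f5b3f9b316b4511afced0e1d27deddb20b10ab6ba6d1b834011507be82223818badea09b3016a3855c3fc190fe373a02487e8b37a4c23272a40e68e825e87728612ee31eb015a4fbc71bb756adddbb0ea95952d94874e40aa7a7d2c7fd506f09c30310bf8)) (Fq.fr 52709 99 2841083683 78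
  0x293bfb2bf9cefb37b8d82cd4b6c6e26220632be369b423ba21b9f322c9acfbc7c73199f225b591b5cec0a607dd1ee10b45d131ca32113a03d7dfbf8484450b525bea0ecc782c90eedeb38e7948c2aa1a3fbe8c48363ead7f1c9fc0f48d0b339a5933576ee992546d8c3632c6f5edb85dd1bc88e41bcd16cc29439b10de46a7e575a91a725dd51084986cd6cf6b41920c3c537f0986c60eef40362c234629e6f36d42606b1c0022de11f1fddbf31e141bb53db74d64f84e3c3280409469a0bf7bcccbd8600e6cce07eb572efa03b89e8a323c14f969c872f3cff1bdfa3f9105940acd0c852ce0d27ae707d7b1ae074233002d51d47a8b678aa053928790f3bb67365b296926de4645af611192c351d235ac02b43baf7aaac805ca80232259b9cf1786405aa919ce5b3cb48937b921511fd81)) (Fq.fr 21450605 99 230127770563 78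
  0x1b2b300ba5df055e8dcdaffade9675818dc01051f803880883e9f1d86eddf7b5ea3a6cb42f2ea2c87b67aeefa92f914378638d987c3e0f4e6c96636bb5e0bc0e32f4f813ed001d534d6accfa5945c8e91e6dce22af188c30ddee5b211b2e08fee3a7496187a6f16693057360f76891075b6c8a7fb2c991c19fa49f9bb17f7fd367b1bad86d1d7febee8b5e4e1343afa2da247adacf3d4f7ebd41c7e2044d4ec23544bd6fc94589315ed1260fd5cd484190f0418e860fd405970f1ec6e500db278c8324e70390745d19b69bd894297da4bd7a05e3ba78da769288b35c50ed3524770cb0f396ef1d855f0a30844c80644f32ba5b4c5a011306f1bc8b23ed1abb12192ff1f9376fb5d104acc5d0b5b7a0d0b3a7373f4e065b630e568644985734589b8343d878c0630af8363b7c62d61fe536d6aac1149f519eada73a32a7d207ec88ddfbf49abc2301cf4286be8df1c42dc57b0ea515ae7c96a37eada5b46633b569b8f5061f482ea724e47e7869a502f)) (Fq.fr 10917 99 105225415 76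
  0x3d0924284d94ad06bcb0eb0ec8b548ec81ec8b5057cd40e78bc3eac7c95f25beaef0d873f9da9bca8794e482d0beb80d11d2a8ce8305e8542b3ede9d07f15830d27bfa870fe1cefa07c19f84a15d4357174d1842db77ed19aecfcc26df884bd05dc1ae5455b2117d362fd95d8d9a575f6a30f18bb78301e1fd508f66d4331e35ad3eaf04a5e5f02e753f0bf4c9bbb10fbf769e3128ec87b5573e58f1e7d0c00c0cc332d12729fe55c13ded31292e061cd8b8bf4a3b29a769e9e60ed0684258976ff3bb7b46f1e2771e668b168abd5ca89b324a9744324cc81bdfe7bd3c3648329a0094dbc697df8e173a583b5326b979eb2cf76c8c86575d02d7c2148)) (Fq.fr 559887 99 2841083683 77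
  0x43ce21a53063eda6d3da5fff84b837aa646aa801504017419a27ea5d561d742f29a40ce139a87b896820fcdae807181bc7e26c154a5f699e76f59a88555dd5e7954ca9fe1297a36ea888aa6ac9671a203818cf51a106e94c7613eaeaf7fea5156818917e68848bfcf20f46e8b67e7eb7338e00575881edb3c2c6e6dc42f1a9df79ee05808af63099fe1e43def3039e1d153066b402a1c2af01faf68fbe16c8210b3e878b5ff23ce4d4965a862e89de91aacf864da5371520bfd7590fa41e044ad087835d932b3f6e1ee0d210764f24f2f0535838accd638759d592cd3a0fb3fbbc74c8d717a1465052aa28c69fed42dff53b4dacfdf21bfe0c874df65740cd623d574815e1383744a732331c58829b343698e9251990bd06058c4f0d197f30855d9fd69f72ebc1a78d561977516)))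

/-- certificates -/
noncomputable def CL13 : List (Hd × Tr) :=
  [c62]

/-- a certificate -/
noncomputable def c63 : Hd × Tr :=
  ((509483520000, [], []), (.bf 57 18 (.bf 26 539 (.bf 27 21 (.bf 14 4643 (.bf 15 168 (.bf 16 33 (.bf 4 197802 (.bf 5
  2283 (.bf 6 540 (.bf 7 255 (.bf 1 30208 (.bf 2 5464 (.bf 3 2816 (.bm 2 1 (.bm 4 1 (.bm 6 1 (.bm 6 0 (Fq.fr 160 97 424279 73
  0x31afac56935fb4a28cbbb4e0666c466998814b20451b3fae5aa6783af0cbec7c7e1813e9efd8ea9e54983a1ed4f541f8604378784009449670748fe9e76afd976a52abf325d825c9882a81944a7cf520c0e6adff14b1bd6a8e36328097e411e33b6ad8f677def3f072d1fc04d09d0d7fc7e9447a50a9f4eb51e2d10cdb622258323bfa51e6b404fe66edb02700b847035a49a26028c18514d9cda7d90dc5e5f095c74e9a0f2a9a74d89a4) (.bm 8 1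
  (.bm 9 0 (.bm 10 1 (.bm 11 1 (.bm 11 0 (Fq.fr 2 81 243 10
  0x3a2e0c8a1bc6f36f4451) (.bm 12 1 (.bf 57 5 (.bf 27 14 (.bf 14 2228 (.bf 6 450 (.bf 1 28160 (.bm 1 1 (.bm 3 1 (.bm 5 0 (.bm 7 1 (.bm
  8 0 (.bm 13 0 (.bm 15 1 (.bm 15 0 (Fq.fr 65822 97 34366519 77
  0x4093903fb8080f20edb7a912f5b7caae4b74ec5589c22e25bb7d7f104cf60c17e5e498f9e33e9df23c057eaeafe53974777e9d425050345b541a99d494802eec94227be2748dc05150ad87daa7081164c4cdb81703bebfd9abf4642a2dbf040331c2130ba51a57f151b81640cc817c2c97ec108f01a414c59a20d0138532089986d8b00cd125b0fe743d3a36ba8e4be7f08e899216b929cb1610e123d6c60d0c93179fdda39da76a033d839beb3282397f23031d3df2741bfd8bfbb59f26360ae42750cc1b4728cf4fcb0cd314ec9f234250bef984e504adf93c2822c71c6234bcfbdff544b45c309042c0012d58e0b2e) (.bf 26 84 (Fq.fr 22999 97 103099555 77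
  0x33ef68cbb1760c8bfba8514a349bb7d5d09411f2b2e3a72ae4f682bed1b0bf4a8e7e566619cf5aae56b3434d9026ad06034af9a3d371a36db43a1c852baa618582967d29725c3bd4ad376fdead144bea98f1eb52cd7152b843634c7d85455a5c2dd68b00558dd9be41e914ab1849a05b4bebdee4b18506ad302b62ad12823b7464cb2ac8f4762197ba94cdd69f4e031d5193fadee4eed725a9e6d1f5aa880ae197c31d6b5452208d745eebd4fb0dd329607df626d6de819afcccf6534ff213ff0e117d9616bdbad00c7e70629868890056842fcd95a424f7bdbd325b433ff7688d5d7fe49d3f586f150fc4309dcc3041d2f9f9eca26ba2f70983120cbbbec19ca) (.bf 27 0 (.bf 15 48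
  (.bf 15 3 (Fq.fr 2294 98 34720811 78
  0x1b075d41c586eb927e960ed270ef840720879a76bc3aee44c8ed9af1773bd3de840868893e3c2c6b00e1da2a6d47b848ff7ada8ce103b20d72aec9fea8d54a255d4f0042e20624a8a2f0f396f087465c41bf4bde7f0f926888cdf788647675fa8d91ed42955f6440468a4e7dae4ce483e73a9c177386850af958595af5386c193bed7463d78adf8b2d42387cff5a26e9248f6c3ddf76e912ca07012c81be044b9f33be881e7d551076992c521956f1b7d536fd00b3a94a60de40fdebea3faeef5b8b57534cb49529e5b0f2412fd8f2c025ea70efbcbebe76a741d2e42e3d65435c58d95f2374aa5d246e025d080256bad475a4c5) (.bf 16 23 (.bf 5 903 (Fq.fr 941022 98 2812385769 77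
  0xb1f892fc7b3fe48e51f29c01b5cacd8e63dcd40e2b018a842b266e00536f6a569dba4149f58215654db1c0700972a694c5200dbe8d41b0b984408b73a601a5d8a7a577313ab96c3bf06321201227091e3bc2edfc409fb380226c8f7b80ae4750a41e85639acc031d2de0de87c37159dbbfdc75dec2bfdac787d1fbfb6bc2878b2dc4689668fecfcd9411af9de6498757dc9443720db542f71ae0d4a2545005e65d10a55eaf6cee66ed8bf36acf5fe4704f62400f213fcd92c9cde497ee4f2ac7003a3bc907b4c085172ca4d767a08c26f62afb3c05d81344c7d613f172c953fb66584e2deaeeb01fa51938cbaf8b5c7d9fa964b04ffc06a45a1ea7f57aa1a091db590a911b04ad523d5e09c5bd330e1e8418ebc917b8d0c46f85a077e59eac7a8fc3706ce82c305be28f47fbeec) (.bf 6 378 (.bf 3 1408 (.bf 3 704 (Fq.fr 923 98 34720811 77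
  0xa026e70ee8c73c03b7aaa300724ca5890ecd430d408910d3714d9a29e388196462b1412bfc76823556ae921a67a4d25cf8da436f81a9f9adbcda1ff445aeebfb3d851766b09733160846edcce328dafdf4338896a7680c129ad3b0628520bd789024052bc1c18daf672f24f2eeffb2bb2187823a79f85ec9e19d2fe228d8b21c5bceaf9f6be0a1264066a18fa629a699b85b633c2f38644cca7aa279cb2717ce5b121ea0b03935ff9713ea2d2d28bb9f1cb771722edd580c2ad8818ae3e42d907b2be3aaa86d70f14caad6eeb897042a62da46771c0831c47a64f77d5d1ffad679431e7cefa7cb6baaec6f0db169e53b6)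
  (.bm 1 0 (Fq.fr 9397 98 3857861 75
  0x654c96dee7bb5bc83529848f701b9902242d8081bafcbf2e0cc0f71ae246ceefd595f5d8fa58f82fa95709a65ae705f3454b763784292d23c8636c9bdbb13acaaaaab1b7b17210aabe0c2cb3c710fdcebcb4e87e5d2709793ad4417f86e59eb3cfa27527fa99513fdff4aa5e6701ca426b90a95b9373528e5a44eb26e314217d8692fdfd6aefc8e810cc8edbe72c82e1cc5f9cfea240721d2d0c7859931995ecd5680679b2abf323a842d22d7672a85f8bed63eae35ac46a26ecddbd7fdc12fe01a1f688ab76aac8c524ddcdc) (Fq.fr 1240 98 1286053 77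
  0x92cf8c28e8d14f57bfb005cbf7320e09504eb2bbff4888cffffb6dde458cd860aca4de3ddd1c91e0a50b84d33feb8d69fafdd610f36e4f352e7df74e4ba80d27ebf0f57fd43a8f926e0b4beb1f93a4ad0f824574886c1b4350b2ff1ea310f430ff198693c118799a9eaf5bf4b279f5e5d29856638d76dc019929feb4f506774bd7c1c13da11f0a05defe1ca7e394b5bf579e4819aa1adc307a3d46f8830c1aad18f1a07b42aa3aca422de887435f57a55877fb6f83be567cad3dcac20933c33aa7fc2d))) (Fq.fr 4665 98 1285947 77
  0xc167fa4c4a8066685229bbef2a71aaec3f475f7d5d583b1203d30d6b5586ff621bd00feefebd546333137d6ea6d6fd1ff2b735b3f6815186b7f0795af7f426c726c1b69e59374f91e968116d8c7be355ebee0cb0a7d10e6800672ea8fd446f64776ee3989513aa61049b46057285056b3e1aef2df7ae217296782065170c4b9da537b0a1e442cfc4622238ea0f14eb38836936a89838cc222a29cfd682215e7bfafa0d375063033e8a6334a56ae84f96137c0953b5ec98fe1b182f8c2cc1e7bc75a0ab)) (Fq.fr 0 99 35075195 79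
  0x2e51ac3651a25196205251538433ad3dd5a659893fb5feb65163a9789b14fa684f23a2230d908973a4a878cd7078e6ee77fe89c62bd711975494510459de044fedac25b2aab5b3f04779c75539c9384172bb03f83b89a7f2b1edcd2c36251e17e72813b399eff9d1a8593fe88cd8a24053a69365e6c491a2248ad9a0e1025fb702ff69b189967e0ae0a62ceea1c90aa38d18ca34f838771e706ce41d73312b8b55f983c617c24e6fa3d97d0ccdc377443a85d281d90b33b1c585454443ea46e11092d5048f3d6ce7ffa3a695e4b51aed4070b63f8916fe1cf00076057f9cafccaf340da393b9c8f917abd8d39bb354dc923b937065b08d))) (Fq.fr 132118 97 34366615 76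
  0x6284f806c64b3a01c7f01d023256683460af917f5edea91b09f9a849ec655816c02fd59cd41ae89b778cb74afd8decd1312e575392b8258fc18419492182e8a8c0968b31fd3592a78e40ffdaa6e881cb8e107eeb44841ff7122a0e1d6ca73fbbfc1a2ae5cf338a85ddb1016a0c330aaa15f4ccc6ab3248574402e2f8b6565bdfa0bf0d70e0abe96531d1382431d1b65cecd2989b4244f9795adc91fd0afbe485260388811c6d7ee1b819acd1c343c36209b0ccd6de8b56723883e3e7330673ec949025e0e14188708a641ee8c65c461f171f89169fc8fe722d1217144c81bfe7bef42c993e7d52e3c92b92bdd552))) (Fq.fr 20483 99 35075103 77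
  0x139eab136a4bf17ed88c2af8eb6eac65f14d4e4866a179b5bb37a7c4514bd34a9932e161a6ad903908dcb3a6e4248a314c28bee56ccfca11c4b3b0314e761c74a2c9da80fb6cc420fab5b216fdd7c61c647573292b10ec1a4385154cece39c147646c01d7f163987060708f6887dec061e2a6db75d84a538e1e6541e219bc6bbd4b2c5ca435e8f4ef6441a925fdd9760c97d74dc8788d412396c1b6dce1e772b0da6198d45c0c4e1d316913f647850dd4d75e12a72079909d900148061d65521c46ef51159a7f11fe59073af206680e0d6620c229faf1254df5bfbce1c731ee397493e3763635ed5324e77744ebb00dabb)) (Fq.fr 3587 98 11573603 76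
  0xb0accb427cc91d832d6fbd1f003bc40584cf4f2e2e2ed2d769ba6d358098743e48da46eaeb7506a7c7bfe4bfb8ad40338c9395872aa125c6aa354793f28b6e8dca3c06911d8f4ce57c524fc818ad0b08e1b90995271fbd4f0392be98ba2a39c4554c2b52096f29787de184a1261bee573649967ef3040b3fc00d504b87387227a5e45687dce3c66e8cbfd566b21da3ce3734a652a213f9cbf92b287435ba38acd397bcc0b4f01c98dc66ef3d88a6587656d8f8f5992bbeac3af8aeba489f15d4e692497fe77d4a8eb83d6f6cb427e5571d0cbb29bfd3360f6677f74a913a)))) (Fq.fr 648 98 1285955 76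
  0x570d71d4d2637b1847eb807b98e6ed598d193a12eb4e8dbdebb55923179cfb740dd1657ea05241a4f4ee64be649983eaba1c0a440af03d3a1e5a9864d079ac5b22aa0268cf5f7da2ef91e1f5db085bc83305562d98fbf8f464a60fdc20c722bdffa8f6c254ba40d943ba4e464e1d5f060a2e0a3d082924621d86540a61caf05c045f07128f1f6f27913592590f686a5770f068ee9dc6d9c3111aebcd17117baacee7ea954706a5dc6643dc61f213ba4c54d628af8f3a3463a4a15d88436ec4b22)) (Fq.fr 2 81 243 10
  0x6e1acc80b8d0f63693e7)) (Fq.fr 1307 97 3818503 77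
  0x610328ffad2e7c3aeede1d4dc39e0673fddc99e11905f0b32a9037a570b615b6d5363bec1e13dad256e78b84cf0e4b7417f07e723bd5480c25e743946aef8bda12ee9afbd3efc128cee6f3e83fe4bbea3afbc522f7f172f595602491c06a54b918c1331c21bfc91ee8b3d9a4c52c75c3c5118cbfcf5c75ec3e1d46fcbbef87188f0be5e484c936e4edca613b8ba73db6b313769bafd7222ef8ab3614edce6a8d0236fbccdccce786bdf16bd0d3292d9014e93925334cf9b32ae3541af8e806f63b83bdc149a8d01c3322c7553ebf06f76a07)) (Fq.fr 1475 97 3818503 76
  0x2741fc3581e381aefd747f363803672c0d41bf8f13ca793ca8ff3275007c4e6fa7758a0193c4be3e9b9433bbcc4ecd0ce55d0395699ef96f9292a1cadb1b695b85b74c9dd8a501e1ca9baa61a5845488c0dc99126b026fda7a19c9af7373b05939c671fb0f0bfe2f5ec3956da5c3f453e265e4f6bea9b68e605c3ec52935b5d8516fcb6413228174ad06bd68e959977063445dd9386b232d39d9b5a871b989f3cabb23e3d7df0699fd79d8cc42bee32eac40f3f9e78eb7d212e36ae3389106ab31dbe91a478b3e98a0e7b4e6b940566)) (Fq.fr 39598 97 11455601 75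
  0xd89c3bbf900c3fb5cdfa40a41b1cf0156a609204249ed724e6abd5053add2f4bdf81090e8d54b4dea6bba5358b30c52827f0c3b5279f7d1ba27cc7d5181b09c9e149b8dba17a52ae163bb57f29133d0b4bf1c2aaf2db46161b75b9480540d18e43c9bd01c4e34cec11817b65ba01184595f947456337183c222a45babf1e0c1b7770b3a5646cac4622cf6f382ba0a18f511590c849b366e43b014d30bcfe99e78661278965351fc4cacb8edfe4a3ab7aec8374abed294cd3dd6c131fdefc20135c4dffbca046839292d04a2467f2187006be4106e3e65a63e820c0e)) (Fq.fr 431 99 433025 77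
  0x7165aa532749e5afffb6217004c73ff65e6f72f4ccf1ee872f9f335ef7c8cbcaf45eea21e587992af85ae5811e8bd1005d3e651ab2b1e82064a0924263bf7c78facf514783c7d7678a4248b0f23e958ef10973821fcca178137dd4807d707d9b0c4ef9b48f5b31f12134d2404c66fb53c3a1b28cdfb0d2aadfe847daeb8fd62cec19e8e72be7191ecc6696eeade30a6c87d347143e949a0289cb32801f1859bce3d779618e166ece78429e577bba75e0aaa93bfc)) (Fq.fr 1568 99 433107 75
  0x338a66360ae3efb4b2d8188840ab29400e9e6458f3798273cb3e199b95b12ffa111e2d8055cf7d4e6152f21da32339330381a4963413aa54e194c85f255a2a609f0582cd45f182123c87d111b55273a2609328906b00fbcc8814d63ded76cba7d8f0d8e99d19fff4b2d9bba0287a82033d65d43b4102470baa83e54c890b00ebcb3a3cd250cc8556a8c2faa6d90928cf86ed4f4b25f8cce6dd6f99dc8b810bcbc60e81434c57f23c7f10f10b21b7f9c)) (Fq.fr 478870 99 105225399 78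
  0x633682673f7aab062327dbae6a7ac4580b9a3035405ee2b6f9db4da5f6883023dd6cec2deaa6439b4bbb3ce39b0578a0b83f3aa25cc73e71fe2214b863656b65c293fe333e994e3d1d4d2631f8007d1be3ad98bb12828d6adb77328249dd79d706cc94f2cb34e6fd1888dd3ea9a08d06ed4b095ea1b8f07b3fc8285243672d9d529a70da4b2979f552fd521f09ec82bbc1f7daed0aac2b0e25e57ed21456d1b0645b509f266101868e0eb97d76e6084984180eee0e99637c20eb170ab46687752208b1b779fcb18cbedc8b64893fff4374d516787510e8432ad7b180c6a3a75f4d4baa77a67cb28a5499bc5652fdb059b5bc861f05c0f6b399927ecbe3e1a47af9ee86)) (Fq.fr 1117522 99 315676043 78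
  0x29a674092bb250d41ac7aba067923e174487529d5b6511f51085f9bd5a2ca29f44a7f39cf0bd34acbbb0ffcc4dafcc4b4a09c41f4ebbdd19f1d783da60bd0dd03eee9f542baa0dabac312a81b2e1c13b863e998a838cf4515704f30c8211895f6be97f659b18900d5f79782085f273460623ab38ce67779e5f6faaa17c46a34981425eff53cba67df66215813c29d95151137f8f47cad97d99ade38d6922c981932811fa08fabacab12d15519f2e956d3743c6388edb49830ba949bf527b4bc3ee86d34d84921fdb6d761b40d33d2ae689fa3a452ef26a7b6d4e742c071d9e91fe05c2e4dc098909ac2b674bc0864b023e2f84d7795d00f3d47534d10c467ca4e09b9b3f641336f8abd97ff4748572344a474)) (Fq.fr 1225722 99 315676035 76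
  0x2221321c8c62f0035a1e548478bebb1a0a1ef4770ea1a195cc1d6cdbe85879903c6f57c0b9365c9f452e6155966fb668d937f049d2971186f1a13d4f9400f80b910c45e7618cea26f26b9ed0d7569c8d6ed1bb0dbf0033aacf9b92d85b98242f90985a5546577101fea9c79a1816a4d178fe5c0fdd2d93cf30bbd81a7e89c3301fe17423ef7c9d4a3f2dd05ca18c5a5cd911771497357d785c4300e5a6fd42289a4f7fe83557b932b543dc423a2a424a83a7a28299f8c2e9aba6a19d97226d9dbf7161b59255d341ab36381522fdda02ba53208b0e629bbed8290ec35dcd6cdd6ed674a546190b904a88c8dae1aa66e2dcac79b76237e97800c70f6bfc65ac08d6b9bf3fc767e6f746a3b8a0)) (Fq.fr 625 97 1272891 77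
  0xbe412a65728a7f0dc02a37cef67a4789633a3fe33867674009c401bc723a48d963967938eced9e7ef4266cfed3a6c1c7c1c23c53734f78e752122f02b1d23b14b2eb35ea4d3241cd376f0e972a7c3541f66a46a731a72b41793bcb57794e4265a49d564db4ccfe739096ba38d3c0f875ce08bc81794fe4ad393f8c5aa08274a0430ecb3e30294a7c93c3c62df2d04ae56b2751036b651ef553b6ef23d80867c42729271861a5f67f79a8b77f3ef47ef0233bf05e2652974250083ecd0987715dea20e1)) (Fq.fr 103 98 428651 78
  0x2f4d45f662df900aad679a8d73e6dea3b81f8e642213a06017915885593560309506ba62ad02f6e2ede9e561cac9ef3479017e412e89258effce9f7b25d1cf1295184d04d936f5f83536ad14c51d5dfed9c3f4690ff7ef9d115c06b38cb7d49f3431b548d5b0d86f1073048bd6295a74b2a5e6e6aba4d205c31965e6200c21d48351c66d120d9906fc989e6ae60fb81ae75868b606f50690d4ec3afc0b0ad909800eaa0a1d49798cc798801f97f822ab6ca04bca66d)) (Fq.fr 6326 97 3818503 77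
  0x5caefe1fc812cadfc46bacb2bd2d16755cd8e26268ec5ff52460692bbffa5965faacde24fa131c51277b75bdb3bff87f76a1bf6c47da94b465d2f5f617613c9f9991d1d58650f05ae893fbeeb4480ce40aae01acdd99c467d70ae19b14ddca5c18a39ed59866959b5dc716700ab54ad58820834e2751f60c0c8d06bbc14f33c13d3149c7d4bf102db39a83478dd885079c0675dec10f713a51e09f398093213684cecd7c7109ef874d7186a24d4ec75ef477e2f827d1b6fdb10bab122441fb9ab89e742a8499bb759904d8508887355660ae))) (Fq.fr 1203 97 1272931 76
  0x3285056a1cde2434695e6f1d9f195fc00715348b02c6ad509cd9ba74cea93b585ed1417fd01baad534b0a5b9a63e882f007088bea285d21386f7c30be6d30dbad27f660087b8e7e6539c723b2b09c0580768fb1c051265c81bc8b42c14053619ebcd9cc1bc6a71eb1decdd27125b59595d38fcefe3a2c11ef17d4a0afd63c216cae94be77cf8448a7df5a88cc9eb27b9fbde957d3ff6a456ea892557c9a1b918ba4a499dd4a1ae09f6f4fff9a8b3cb2e9f85720d41748e08db96c31cb7a5c1c22)) (Fq.fr 963 98 1285955 74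
  0x4f8b5468ad772163c0042ade076bfbba07b64034437d5cfad4e90df41d18e9f393e44475c40f56c44e07b6c98eb37c85a3a79cc0a95cac638ba27f2c87245ac7ab0ea235e9e3020ed7e2809b8219396496030137649346f8049ae612514d8c298f1d77173801063728c962fa68923e323c4f5f291b154693cf8358ec515cc1d46769022e28046f64640f22d9429b5f48e50ed8c89bb85f04458aaf1bcff69fa0573538a548d989faa803b0be18ef9941069bc3522c710d57f9ac02b)) (Fq.fr 7993 99 11691799 77
  0x137b64704b99b0fc095e7efefecf37e4554f740a3e0c81cf56ea6f5383253e5f2dc8515881db8bcb1844066d351e605ed26076caa7f7da89f5a96fdf25287de185920fb4ed00efa58132335aafeadbd6a68eb4bdea2b1826455b0a1f480afbc791ab682eae81ac643ff7eaf726e8456b87098deb50108abdead93ea371680eb4729e5fe9cb94586cd5d00de00e935e77124eaddd8fb92402cb886dd3d956b01dfffc37c6020a9ec305c5804ac74be9de6bcc6f1f537d93c0c2633a518c16fd88dcf3a94093e2d5359145dea34a082e4977f17fd30acc8a1ac50bf6ece3e80ad9397c)) (Fq.fr 383 97 1272931 73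
  0x1a33d49271b334cb2cac6c585e124f186797cd0280ecc93b5c69ae64d507407c6c99859cc8d6a327b8c97e40257dc11e2bf00b4a58eb4a8507666f7189bd21da3d9b4d9ca5336efe8deeb6c1fee6842d7a9ce4d380a3abebd427090ed77ac48b5a6e47e5fd82cec1544063a59f73db36625c96b3570a751cf0e8206ce4eb212a6a018fe1a9d451f7c25eddb18201207cc1495da3b5bfebb92fdf9fe71869bc7a71771a1817b67593c4334bb16b54582086b13ce0d4d2548471)))
  (Fq.fr 12271 99 35075203 79
  0x8791acb346e0aee9536dac2cf1459e83b49dab29761ea7dd948fb04eac964169c3d7673c810bb89e2a369c27fd7ce0569140b0207442f8e131697ed17bb6c9f4010d86bfce116cedaee3eb3dd580c80a99ff0c06609c5d6c32961994426f2ccb8127c5228bb9c3c3f4ba6c3e7d4e34970f00d730ff2ddf64d448363d322d0bb7dc4c1c8c67305296427ac70754867f74b683332e4b344a964de95c0e3af3b23676bea233e83264ad044834b365272c2e27bfa76df2d7857e82af243f2382f26af7b1e003f687447241a912503c0ca2bb635131a6afc6944a41785d923f8c24c17f8ecd435bdbb5fa0f37da5c97a7ac8cb2e1041be4e663))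
  (Fq.fr 2365 98 3857867 75
  0x1a0ef6fe8b74cf40faee72abc7f96f5e5fb7a7040e2c8ddc6519871cac39d9bd1248cd1051f3ce1b4ae515320295f3e1fb57ed8364ae934b7e508e94d0dfaeb255969bd343bd753ed465c6f6a996074929a15bcfac56dec9e0e4f374463fa294b065d0e47eee95a2dface8daebeaea6f6302cf4142dc99671e360590a4295cf643180b4e2928fcfab70b0b992d548295cff4cc71252d232be9166ee11a7e780143dc75f109bffb93dbba71d4dff92db92d5b46b6684ac7634c2fc7607e02a5f6fc0f851c41a90c641c656e3573)) (Fq.fr 1483 98 11573701 78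
  0x1477bec65c1f973008169b6fd7d21a9e836d55e0b6eee5ac0ea11bebec0287c4b7ca4df3d62ba85ec993d65cda2850316384d09a419919a6e9313956d654663cf9b4c02f7ee1e6e81ed9177ed9ddf0932c0e4b4945884a78989a44a0accb3e0b7f5b0e6cb40ccd93b005a1593f5cadde55ec55eeba11a6b1e909ebde3012d57dc8505a9d006dc7269ac33a8edcb9dae66390d08275cce3731ceabacb9c9a726f5122c0375d82ab13d08eaa56e896eac1b17928df2be1f8cca6f18fc633b88cc35bc30141a3a7eaa4db6fdd7218c8199df0d4bda7c9f40e6402563e866921c9974bc31fe1d)) (Fq.fr 1683 99 11691799 81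
  0x57b53d5f5ba17dcb50723a9ba99c9fd3b3f4628da5beba2fc1b492d0415d83c89f1c8cec37258d441f4c5c0d6d1ad983b789750887e4c2aa276ee24705f79c7420ff49390c812d8fcd397e4f4cf2b1727d2b896ae6140cccd9f5612e7d9395fc57233870adbf75440e83cc7fd9e65703869ade2024085ee239f248918417a0ea5f9dca6c1422998f39d9a73011a56e065d41ebad1564457b6324beb9a926ff753244958f1069d60a47deb9fca3ef933d473f57aa8293b5ad3046f61465526df62e1b4368c40240d2f5c0b7e854eae9cf8dafef3250c0c74e031e1431f44c9341db4109791f0c7f27b79b95e58a)) (Fq.fr 499141 99 947027959 77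
  0x372942f605da6263dffe438b8deb3344f50cfa6632bdf9117d322395301b519a228379783cdbbbb81baf8472279e74782696df6c2848d8c439b6899f10fc64fbcd8f227bea22acc7fb5b2c8bef7fc6fd21806cd2c13a1c0ee486797e2ea9f21a3aa0414b6fc535eb9fba5e6a052987fe5ca3661543f1d42713dd21f2eaf6678f4ef14ce613903dfedbe85140af8158f0ae505afddcce4e58a6e3d18ac5506f30a09039a2e81b4b293815831dca5c08e8e46a8ac02b2609f328bf597cbbeb06d441207aa41fd6b8bec1a6716a1f876a08d51bb714dba94087f2145959345a1492806700ce6f7a9d27b0dab58ad127d405c0220d6928689f149936cc86d3e0d9564c2f7cd1fb7c14cd42aea45f159b48f6e4cb61240c5b4a430f7d02addcf97)) (Fq.fr 20393 99 2841083683 79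
  0x2815fd52da3630e2df0a788164b12202abe646f1fa87052c53a9c5f4594f026371d7f949589b4fa748c3533e85f6760af6d761e9448e82ce38c8e7c2b3dd443ca0b6db6521813c3ad3b2e0234283d6e8b3ace40cbc3c2a7a5fe3a3349444e9d20acf539767409594c92f0ea1fe810cc2f2e05d5a1f17933946cbe07c1057bd22007a626728aa88217b337822bb1055cab82e16f48794f92ffa8b7e0f438e8d57f8cea1e6d32aef769f377fe34d482b192aba820068b8aa65ab2009ffb138313dee447d52a4f9d5c1b0678a7e19fa9c6417f1d5beef50f21aaf674833b2ae7b0aace2773b981b851dcce3b7e41cc40f0e697e4552b16b176e0a3bf1246638f8933fd19efb8ba52da3fe39305606de3d1b0dd69e270ed89ae02385f2acda073a53f6c0c8ec03020f87d6c22078dca8df0510bf7babf2b)) (Fq.fr 192267 99 315676051 75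
  0x7b2bf758981b0603c2504feea4fd6290394a1daa347eea2910271a7555ae380f88454d2a97b61ff52f5d56ccd9ca8ea98c5a0b8adfef734f0255e31613bd8db04cb45c64be021cda84e910fb2aedcdbae54a64d07ff7a4c8479659288b7850b8337a01cacbe1fc90210ae5b89c0fa4a14d8e067641785a6b2372df5905240d07c3c90f3e2e69d3a80f7f1357a887d34efb91ea727a6f11bf718df6432dee8c095f673a5fdb51812fd1a99c0ebae02549393a7ece9cae1abfcfdf5f17a46992f89abbbe2d1b9128b2a7e8688215c34b274707e848695871d3343aa1663a85d386f85b8627c3d843e318569df2045003c3512e675403d9d4338349fd6cf88f35454636a0f07a405234)) (Fq.fr 207019 97 309298751 77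
  0xcb5c5372f3b3a5271681e488bd2f6e961de20877dd53d306f456965bbf6364fe133ab06c34929717e694f0f75fca9104a59c8383868e258b9c7bdbc2afddf30b5daba4c86362befe3341b866093a258f2c57a3a7da2d045e0e33776d42ccb141d1233157ccadbf91ed11530ed0c5f1fd42c38f4b007c659081380a35bcd74efbe4e88a2c799fc04a03867d0f095489a40a02b0faae3bd399f95264069659ffc1480836dc8eaa981c1094d777db0099eb0c91c3bbcb54bb9855b7276f35fe831c2424eeaa44938b421e8fa1730dc04400cea09c144b1d54a3ccabf82b4f84fe44d07c2b1be3bca7e2addcce732ce622efc685a5e8f637ba6208228f5ecc2bc2fd320d9461235ce834361e6c6f7c2c1be)) (Fq.fr 3479667 99 76709256919 75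
  0x1a0d248f7c5e6d2f8d75c22cc1ba4feeedf03ad71670d752765316db1fe4057c006b4eb6bef03a452cbaaef1b4f0be2089920d8729a49c2c0aa767169c54c3d8b4141c10d55f7d941b332a14563c23191530c75562f7fc397285f863ad3d4cad9164dbfe9099e9ae00b01f797f0ee2bb6782f5b4f6a9d254a1b007f73f693c09b3962158ae2ec20f9444d4d35e5d27924a5bb9ec09af0379f4638aaac5e02345c2dbbeb552ccea3ff8278376cc73fd70d4eb99876cc71c6ac3d816b44db0a15513a838c62c783297c908e8732f8531d4058eb52b1c5a82906ee4e1bd69fcd7ad90bdf4589ae4b222f61642e748358cce8ba3cbb970187cca6b2a7cda59b3e1c5ccacacc490e8c779c492219eafdb47dd8792ac68facd7031cb56d5f656f1c915c48c40b437ba8d49f0ac384bcf90161f056594d8cf7ebd780463050cba8193397bdd67e0b2ad625392eac7575fd314354092b)) (Fq.fr 1437829 99 76709256919 80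
  0x2991dd074d9a8c3c5bd6e70618347e58b422f5a172d8d77bfd155b555964addf2a583173776a3860cee57e2d1ac04249a89d3a9e55b362564316b34248e15498ff70ab41f48a9044dd641ee699bfdbe278e295447472b1d7da5977c5f068fd3ac6fd346b2adf075697f5b087aefc5ee91201fe1ccc3a8f2661f5f94ce018e6255563029fdd639d4b9b301a4f2a21c5ebf79b7b2682a488cc6750786ad6aca657299a47dfbd5a040df5ef14c1ded2b6889a8f6d2eb975352efb73f4a8c132bfa89b3fab6efa4e54ede1ff30ee5ee97eccbb1ea6f7172810aaa615714ed215b5a2ab590f1cd48aed8cf79cba1c9cbc6cb7079fbee3d6d11d280caf0a53d29feb16d2c4069309a3c203ae644fbcae2bb349245e7b41d7f8147882b6ad68715ca363ef2079fd3d5f4e7f48b80a5f916e4f5b3160a8071f0da0adf8f1347dd18c05ea64100288539e6e852d7c7c7cc25a4e1376a3b13051b928500e6161eacac2469a8460f44cbdce4ee108)) (Fq.fr 130475 97 927896083 74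
  0x15541a27224589b0e5f37548d7c0f6e53dec76cea50c28e660b737b879ecbec47dc83c2e0a3fe57ee45ea675be3514f81ec2271102d8a49ae61aaa48d3094c1a9819ec44cf3ce833bdf9efa3f397898041ece3a632b76fcacb6db26142603aad5af7e4feacaf1a49c1d1ef9bd5a06c739dd042aec853b14337fcc5a6628acaf37afc5d26c7c4df19f5759a43ce740cb09dfb728de30f5aaa052834c1c4a1a499c687d6dc681cbf2033fcd796e32ad25cd66073a4c0ca4d8c0d354cd255d946591d57800bab34efb5a326f522f94f75afc4e2ffa14923a9ff37bce47707f6d35031d9aaa4b003089e89d87e0d0fbee68e417afa2a8a4ff0e0ede1ed918d7e3c67b7be341e768e3677fd81de3c6650bfb48c9772dd)) (Fq.fr 46331 99 2841083683 79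
  0x1b798bb4d1070d462c9e4e61341fd687ed004750d9174b81293322357dd46ea1236420ee79f3b92fee028b41099abc4a9f1c6015738e997d4132bc07d53e7033b74a69c9f3df4b07a3b4a19d76f21d1799ca025ea8a21b2c3507508bc5b3e28587ba64303c17f1e0386d0fd1118cfd33c3668fcd8e7a2bf5f70b2d129d87fafb7252e9dcbd8a8a9c81f6c43c17b73512407adb4e427e1b0e13803a695bb3bb8e5b0ba37bca1b7d7909a43fd01e4229f285cec5d04e2c0ce60c9f0c1e509e5dc5d1a1d0007f2e82c6cfed9b28fa1f9b4758c15c0494aa055d02794f0e436966cb152cae335f2e8ad762e15a95024fd7f8dbf111ab06127bd82a414265ec50b43373a2f99fd2d35b87aae144b6a1c8ae81aa119891de737525395b5b5588d01c40643569b65e65eb08b9df7247b2238101127777c11a2)) (Fq.fr 701931 99 8523250855 78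
  0x20b719e2921916b437142a08aedcd6a2ea7c28c495ba8c1c5fb54fc392cfe95d06849efca59828a3ca8e69395db54714f20905cb716cded0b976d7e1dfefed2aa7ddf55b71aaf3f53b0b1a4ce39764fa0621c4de9af3f618ea353814e51a67fe46b9c450a419fbac0ac7cf396e1604fa7592f5418bc1a87c277025376860c407bca5c6cfe2f81b2875973d80fce485c145e24e19abd72fb9242789a8457793ea41710edbcb11ef26d303cfa54e425b2c419448b59b95d4365ab06ab0487dfe96b62abb09a6d029c5ffea9dc9f53b075273f04c3a71858032e4a4ad8a417ae9aa1c0eeb758583664d9766e92bd09866301949fe68f35ecddee10e363776cfe20c9e8db774d049a177167e958b2eadd51840a0d56b067a0452341b4015f9406f66f70135361b232b82c5407fb28ebea00d0a0f13dde26080f3250e00940cb9194d3f)) (Fq.fr 886151 99 8523250855 76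
  0xb848cf23d4cf985b82220c95cd6333836b1d34ca213de9e5b05a011c3d596694f2effced34dde33b0d0b608015cb82c59309c1c8b100e3019adbdee804701dae3c1b529bc63266f146d2846cca705ab1958540bf525704a228f266003d11b34cac75c0a54b1b23f3012245dc7cae147a70c44d65c12ea35cc1bc16813a5786b3cd4635b53dc51e70310775ec3c4165e22177bf6f45ceed179cff71f67bb41f270c14ac8fdeea86daad85fd2f1e3a89fafd397ab1de8692ddbc81a26d1e2720210a16df785f8dccf3378c98d68e04597377dc63c3500001b4dc2d2be048d62886fa0ec95468fbb5908d8b26009a5cb02fca2b32c9b4bba415e4a9dca8f5549b7e3b860d8cee2fdc8b89b286554e221c28f1738d16f9785ad0185f01a793a6b4423a3e368cd20e3c8439c23c5462b015d348aa00d9a78b2c95e)) (Fq.fr 1068551 99 8523250855 77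
  0x1073e71c9c5b8c41fe81d3a7946bcc9886b5c6b22b38883f1ca8da8038c37de3018404596346c966ca9d8579ae060082bc642184bd4e85be8739e3e85884b117f11d08b645593b8ff5b63312bcdc28f979d548d7c57d193b00e0762fd7d27be65cc6faa2b30dbd641e8ebe131581ff388b7ea698271cb348ade4301de2369151605378e2d30670d1ec7ebae05f911750a7dff4426d58eb1a21ac7a4b27ddbf7efea7d8d0c653a3a2f19a63bfeedc4b5159e010c2cb04ab182b4a911014fed2f596a85ab663527c6026e61cb7cc27cd84aaa66d7206b4dfce10e44470dfa0466f6cd4e2526b43404c1587b2391cc8f0e1e7e751b7a96eefd1467bafa7d255cc4b9402e28c0d0550df24fba6b92766f64ad2355de8f97ec427ff9dddf52de18ca0ac61081bf179535f5d40c4fd8e008d1e386079b11b2ac54660e2b73c8))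
  (Fq.fr 7137 98 1286053 74
  0x78c89b5b9dabf9d3399348f4abc1fbc7924a19d80afd31be9c458c9646f9216c84c6f3d044cc504fe19ed2943e358a20f3533caaab899049e86bb0966e87c814525a68abaa92d30b44a79d4bb5d377067e5848e8797aa00ea58c74f25a4c66d58a4d7c965b687c705f85de78c282b85375609f860b5289f5d3998dd332dc74ff360d5683ae58cadb17cfdc8358522d1369c7ff3e038467da0128b9150b38ed86579b1fc74de8ea176ebb8c80a71a7737ad0a0b71c0547600d1a115c)))

/-- certificates -/
noncomputable def CL14 : List (Hd × Tr) :=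
  [c63]

/-- a certificate -/
noncomputable def c64 : Hd × Tr :=
  ((448345497600, [], []), (.bf 57 11 (.bf 26 420 (.bf 26 126 (Fq.fr 1389455 97 309298663 72
  0x6951bbcc8eaa16c78415a3688ce5859c80e4480782f18b7674980b2d90b0386fbc98ae1d3308f06158aba5029b4baa3bf89aad9f649e81a848710c57182fdefe8ffe99b9b87fb870292ff30cbf0babff26e746603b766137621ad70c120d4a41d5b7515a76c0a265687780cb67035a072891790f222859671b9160e21a03d6498cffb812ab690679621566ded57ff4450a60b7af0cd4c73792686d8beaeb077d4f28ab3615abada3b923afb806d4eab86d108ddc13843491029cb26546d3340ad3c7dbe6fcc427e1833dc943ddee78fb97a9a61b80b0630dc9084979c1a0530201a0fc1bc6d47c07150b191468da90dc6bb12a5aa18b49c4eeb7b7112c8e) (.bf 27 56 (.bf 14 3760 (.bf 16 0 (Fq.fr 13121 97 844763 68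
  0x3944a79c1efab13c013759ba8cbe8ff1e8880dd9c1353561a68e5df0563cac8f94d1f693fc6aa9133eb02473bf7c0466242bfe4e81673f30c3f681497fe3ce57b8a0e4070b874375e6c094e8b98b0e09765850b91383fbe39532868c7ac2c88d15a7d0516cd882698d5808394113d269b8031663259240f9fd88b0a5bfb95829c6353339c90cdd5c7e510aee7fd88281a860b1f902b66bd5091722dc9d79743e0f4da077328c50a) (Fq.fr 129753 98 104162533 72
  0x1234613421989e878b2ff3c7c856e0b009547b7047ffa6d1fcf44ee4fc7883d5cdd18849d3d13fde3f9a466f447ffba4224dfee02bc834906edb38cbb15b74e37498c90750eb14b195528a6d2c69c9f800fb45678ce13daf35552b1b43711cec3399773104854698f217a7e1011e92d1c76fcc0697be1addf9904e1950d9bd19c350ddbd856c6c5b6ba3a345531235875433fabcd751151c27dc82fcfb04c0dd301f01dfe93ec80da9c5c0e91b2a13bb96dca2ed9d0156c6cade39742c8db69a9f2c9827e95b5f577de5a3092fa58ee8f98bae1b08fa8da8c078d45b4c17fcf7f894f48a03c9f03af55a4a09cb4d233)) (Fq.fr 2399619 99 8523250855 71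
  0x1095ca0284df08156ddedb6e87f0473e799b700843573cb90e352d16017a2f7a5270c25f1f56ca505acfea6f5fd174cc3b15b9add3f6a04c85aafdea64059e91a20a92cbcc93c82d70436a988d46fb990dbc7cc8319882c84166d5111c4781749b5f5f40fe1d70c1fb24c94a074b3b4cdde1db06c6a52dfd5dbf4a4462798facd7654414076cbd152e6c5193fbea4a4f60698a74b58b6b07f2aa38f1eed4a1bd5d1dec8e2ca2dfa04d778076a259b8be476bb2c71bf93d195c21823cb99d8e17ade4effe6412c05b46e84da40b76d347e0d10a183910e629497b854c71ed97a92ad0cf7154e1e968cf106695a506f9ce7b06bc6879dac139a262e61e415e862c22e38b17a893a16fe286e3b0bdb0c7943c674263fd45f1f595bcd359bcf823d0f53600d28))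
  (Fq.fr 39365 98 3147457 69
  0x79c753bd26957706f105bc9be5d1d30c0922181751b0d3e43df5824f550f3fcac3abd9864395bf006507960adc7cef1167d7a99b9cfd3357101490645f5d5347479685813811a1f8f9ec17767d33d813b91cde44f731c54e9917f5b47bffad8afe505af456725ac9658b0ee5754f002875e608c400ba7e365503a8d6c3e0f927721076e15b96d070376039b13bab32dea4a72dc39087e8810913211a9bee41fe3cacada235e0b440458ed19ed854927492ed310da475df093d47))) (Fq.fr 204745 97 309298759 70
  0x4f54a4d053e99f8c03e5b59986055a84b8f18fd314d1d5a7f1401c632d154302278ba8b94abd86f07002038b06928569918289816bbf822a438a4fd3298560db319c878e84be634c71e79a3d033f7b0254c7a4455410d0d880988a39e938969fe950ef2a55443e2c80b636e4e81fa8ef1c67a3171827ca1436d0ae789f04ec493db0f30224c9c737d8bf3e4a508c3dc57b767931d0c78f81c1714a1bb096b299d52627af83badbbb890c50eeddcb6d679027bbea8d6d0e188ec30f221a48a1013b627b801dedf1cd59c202e8ca9196c5f4c5a162c4ec61777c19a6f6dd3d37bde271dec82fb351e11579cefa0d90fd55a3b6969bc3e5da))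 (Fq.fr 7015 98 1286053 70
  0x31482679a60f946cc7113e8702c72d6f28a0d124dfb64f022bb021742b75f92084dcafa98afdc88e0ff3a7cf52c9ca07205e2724a19b20b472eab5fa52709d8a63ccb6c44189ab01574a69c594068c59c88d965263844dc09c4b3e63a034ed666779040334d3ab5ae1b22e3bb67dcbd8fa85b300e32d2db825fb2d6066cfe38a7ec3d4caa08e5838db95e6ff8e7962994596a7be1c14387eec5c9105d9d8c08c93ae67993d442805e33a50eba3928259ad)))

/-- certificates -/
noncomputable def CL15 : List (Hd × Tr) :=
  [c64]

/-- a certificate -/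
noncomputable def c65 : Hd × Tr :=
  ((64561751654400, [], []), (Fq.fr 485 99 43425 63
  0x26bba96849b181054d731076f96385df6c5330606487cef5ce5639b5503a18d0b23e114737e8733a50385e10c9d0fdcaf2fa92537c61610954de6cdbc7b744d3471dfd967de987fe90601a6ca9a73f3b569bacdfed36b5d430c7cae9f830325d1ccf299d6d6cd9db9ebb7ba136c2cb4e23fd81bbdfcfa840f32))

/-- certificates -/
noncomputable def CL16 : List (Hd × Tr) :=
  [c65]

theorem okDq : okD E [(3, 9), (2, 21)] [W0, W1, W2, W3, W4, W5, W6, W7, W8, W9, W10, W11].flatten = true :=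
  Fq.okD_of okQq (by decide +kernel)

/-- the enumeration -/
theorem lst0 {K : Type} [Group K] [Finite K] (h : In K TAB.Co1.D (TAB.Sm2.mkRows TAB.Co1.RA TAB.Co1.RB)) :
    Ls2 K [42305421312000, 495766656000] SV :=
  ls2_of_enum (E := E) h ok1 (H940.Eng.D.ords_co1 base) (fun _ => List.not_mem_nil) List.mem_cons_self (dv_iff.1
  (by decide +kernel)) okB1 (l1 := [(23, 1), (13, 1), (11, 1), (7, 2), (5, 4)]) rfl (W := [W0, W1, W2, W3, W4, W5,
  W6, W7, W8, W9, W10, W11].flatten) (by decide +kernel) 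
  fun _ h => ⟨_, okDq, h⟩

/-- the heads -/
noncomputable def FL : List Hd :=
  ([CL0, CL1, CL2, CL3, CL4, CL5, CL6, CL7, CL8, CL9, CL10, CL11, CL12, CL13, CL14, CL15, CL16].flatten).map Prod.fst

/-- scripts -/
noncomputable def S0 : List ((ℕ × ℕ) × Ps) :=
  Fq.dS 1020097 104 25973297865605481 60
  0xcc0acb331da0e7cf53943500bad6a698220e797db4581c975c44efd88abb26d423c3f6684c640d46c726202fec09f3ac928fc082c2763392113f4657bb483564c840ead928619a9f0a1d30e9edd2a0538a9aa6ef1681a75983f5f2aa0711818b71f9be7aba4b8186fd6a87a0be95f3dbd06e93b2bbc11dc926a73d5be51ab0c7be62181e79daf2c56f85a742f896d7d0c0f1c0bf3eb8d724d38171d2b1695c3a920e59d7258cb73141d8ef202f3e6e5a8444c96df57c8e9cd209f905f8a051aa0c7ab5e41bd729467e5b1f12d37dc7efe9c0b20f6e46d77328823b131b2679d418b51b0a21e50a20e58e5716dd5f295b9c16e9e41cbe1c182e6d7074cf3b5e31ef8c3c700772b3067a88c982c5f7c87e034634db7afb5248a249700181d9d3962d4a13ceca739c7862000636daf699f108c025d9ad3b5f553887dfaebe2be6cba65cfeb5b1351e5342d0917eedd9f0c4c2e24863c9396597c11670c72101b11c3658922a990c5c60725a1b69ac20f264929b7f2dec51e5e051dfda96407a5a3d7a5aff0217076d3adfb1f6da4494de0a21f9a5e9bd57c25081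

/-- scripts -/
noncomputable def S1 : List ((ℕ × ℕ) × Ps) :=
  Fq.dS 8386561 196 106124409429231041372357 43
  0x21b1a4d38ef0203286f0e4b8acb451e1709cfc39ed5be6c4f57da0d60c23193ce797a391861ad1162b55ed7f5456eab26672fdfe25526e1f0dca7546c7138e1ca83dd34eaeb19d57ecd23a02bc97e37b09caca20f5e0c9a69361c0867041a014e171ce5cbf26a6b83acd5b81bc1cc52ad18ed0c517f101eb5f683aed0a80aee5f2dbbd933e769aa8134d5791d8531713842f9fde147b9898b52fe4e1f20e26d6e36e3f94c83959d391589dcac47d174b8632bc462fdf9f159049f32abe8f3c2d5340e24c0e529d211de3e754c55e9df8ce405ac5cda17859a8419d25671572f29e56fbc92b0fcfa27e111a6383fea65dbde828e9dbcabe0b9f7a86c27f8459bacc145c63bdc1b6036e77a39ae8dcceceb8a7880df8348c23ac7c6818198316571b96954fb1ddbb42c34b2266c7b676c2507803d555c7d233613a4836b9248fb03299043d738b523417c251c8ae3977a9700da0eaa3c4b504abd81e2109e95058022eaa08bef558532d3ccccb2a74e8533ab6560905be37a437752e97a7f72d9060fc2ac878dddf44c9c258b216754b4dc8254d0feacc11f6928cbff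

theorem okC : ∀ x ∈ FL, ∃ CL, okL TAB.Co1.D (TAB.Sm2.mkRows TAB.Co1.RA TAB.Co1.RB) P Z CL = true ∧ x ∈ CL.map Prod.fst :=
  fun _ h => ⟨[CL0, CL1, CL2, CL3, CL4, CL5, CL6, CL7, CL8, CL9, CL10, CL11, CL12, CL13, CL14, CL15, CL16].flatten,
    Fq.okL_of 295147905179352825871 551675124 (by decide +kernel),
    h⟩

/-- **the list** -/
theorem lst {K : Type} [Group K] [Finite K] (h : In K TAB.Co1.D (TAB.Sm2.mkRows TAB.Co1.RA TAB.Co1.RB)) :
    Ls2 K [42305421312000, 495766656000] L :=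
  ls2_of_cert h (lst0 h) (l := E.l) (by decide +kernel) (SG := []) (by decide +kernel) okC (SS := [S0, S1].flatten)
  (by decide +kernel) (by decide +kernel)

end Cfsg.Agent.SM.Sp.NCo1
end

-- part: SM/Sp/LCo1
section
/-!
# SM (S3570), sporadic socles: the list for `Co₁` (helper26)
-/

set_option autoImplicit false

namespace Cfsg.Agent.SM.Sp

open Cfsg Cfsg.Agent.TH.Spor

variable {K : Type} [Group K] [Finite K]

/-- orders which are not orders of subgroups of `Co₁` -/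
theorem noOrd_co1 (h : Spor.IsoCo1 K) (A : Subgroup K) {n : ℕ} (h1 : (n, [], []) ∈ NCo1.FL) : Nat.card A ≠ n := by
  obtain ⟨T, hm, hT, hu⟩ := in_co1 h
  obtain ⟨CL, h2, h3⟩ := NCo1.okC _ h1
  exact fun h4 => dead_of hm hu hT (by decide +kernel) (zs_of (by decide +kernel)) (by decide +kernel) h2 _ h3 A h4
    nofun nofun

/-- no subgroup of `Co₁` has the order of `Suz` or `Fi₂₂` -/
theorem noSuz_co1 (h : Spor.IsoCo1 K) (A : Subgroup K) :
    Nat.card A ≠ 448345497600 ∧ Nat.card A ≠ 64561751654400 :=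
  ⟨noOrd_co1 h A (by decide +kernel), noOrd_co1 h A (by decide +kernel)⟩

/-- **the list for `Co₁`** -/
theorem lst_co1 (h : Spor.IsoCo1 K) {X Y : Subgroup K} (f : Fa X Y) :
    Nat.card X = 42305421312000 ∨ Nat.card X = 495766656000 ∨ (Nat.card X, Y.index) ∈
      [(251596800, 98280), (251596800, 8386560), (3113510400, 98280), (4585351680, 98280)] := by
  obtain ⟨h1, h2, h3⟩ := noS_co1 h X f.simple f.nab
  rcases NCo1.lst (in_co1 h) X Y f with h4 | h4
  · exact (List.mem_pair.1 h4).imp_right Or.inl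
  · simp only [NCo1.L, List.mem_cons, Prod.mk.injEq, List.not_mem_nil, or_false] at h4 ⊢
    omega

end Cfsg.Agent.SM.Sp
end

private theorem dce_dade1f8e760d : _root_.True := by
  try have : _root_.True := by simp only [_root_.Cfsg.Agent.SM.Sp.NCo1.L.eq_1]
  try have : _root_.True := by simp only [_root_.Cfsg.Agent.SM.Sp.okW2.eq_1]
  exact _root_.True.intro
end

-- part: SM/Sp/NoA13
section
set_option linter.all false
open scoped Cfsg.Agent.FastGrp

/-!
# SM (S3570), sporadic socles: `A₁₃` has no subgroup of order 31680 (helper26)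
-/

set_option autoImplicit false

namespace Cfsg.Agent.SM.Sp

open Cfsg Cfsg.Agent.TH.Spor Cfsg.Agent.H940.Eng

theorem NoS.loc13 (hc : Nat.card (alternatingGroup (Fin 13)) = 3113510400) :
    Loc (alternatingGroup (Fin 13)) ⟨11, 11, [(2, 1), (5, 1), (11, 1)]⟩ := by
  refine loc_of_eq hc (by decide) (by decide) (by decide) fun R hR => ?_
  have hp : Fact (Nat.Prime 11) := ⟨by norm_num⟩
  obtain ⟨⟨x, h0⟩, hx⟩ := exists_prime_orderOf_dvd_card' (G := R) 11 hR.symm.dvd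
  rw [Subgroup.orderOf_mk] at hx
  obtain rfl : Subgroup.zpowers x = R :=
    Subgroup.eq_of_le_of_card_ge (Subgroup.zpowers_le.2 h0) (by rw [Nat.card_zpowers, hx, hR])
  have h1 : 11 ∣ Nat.card (Subgroup.centralizer ({x} : Set (alternatingGroup (Fin 13)))) :=
    hx ▸ Subgroup.orderOf_dvd_natCard _ (Subgroup.mem_centralizer_singleton_iff.2 rfl)
  have h2 := ((by decide +kernel : ∀ c ∈ H367.ClsList.altl 13, 11 ∣ c → c = 3113510400 ∨ c = 11) _
    (H367.ClsList.alt_mem x) h1).resolve_left fun h2 => by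
      have h3 := Subgroup.centralizer_eq_top_iff_subset.1 (Subgroup.eq_top_of_card_eq _ (h2.trans hc.symm)) rfl
      rw [alternatingGroup.center_eq_bot (by simp)] at h3
      rw [show x = 1 from h3, orderOf_one] at hx
      omega
  exact ⟨h2 ▸ Subgroup.card_dvd_of_le (Subgroup.centralizer_le (Set.singleton_subset_iff.2 (Subgroup.mem_zpowers x))),
    (SB.SporA.norm_dvd hp.out hx).trans (by rw [h2]; decide)⟩

/-- a simple group of order `|A₁₃|` has no subgroup of order 31680 -/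
theorem noA13 {S : Type} [Group S] [Finite S] (hs : IsSimpleGroup S) (hn : ¬ IsMulCommutative S)
    (h : Nat.card S = 3113510400) (A : Subgroup S) : Nat.card A ≠ 31680 := fun h1 => by
  obtain ⟨g, hg, hr⟩ := NoS.name hs hn h (l := [(2, 9), (3, 5), (5, 2), (7, 1), (11, 1), (13, 1)]) (by decide +kernel)
    (L := [.alt 13]) (by decide +kernel)
  obtain rfl := List.mem_singleton.1 hg
  obtain ⟨e⟩ := hr
  have h2 := (Nat.card_congr e.symm.toEquiv).trans h
  have h3 : Nat.card (A.map e.toMonoidHom) = 31680 := (Subgroup.card_map_of_injective e.injective).trans h1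
  have h4 := feas_of (l := [(2, 9), (3, 5), (5, 2), (7, 1), (11, 1), (13, 1)]) (by decide +kernel) h2
    (fun S _ _ h4 h5 h6 => D.ords_co1 base S h4 h5 (h6.trans (by decide +kernel))) (NoS.loc13 h2) (H := A.map e.toMonoidHom)
    (by rw [h3]; decide)
  rw [h3] at h4
  exact absurd h4 (by decide +kernel)

/-- **the list for `Co₁`** -/
theorem lst_co1' {K : Type} [Group K] [Finite K] (h : Spor.IsoCo1 K) {X Y : Subgroup K} (f : Fa X Y) :
    Nat.card X = 42305421312000 ∨ Nat.card X = 495766656000 ∨ (Nat.card X, Y.index) ∈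
      [(251596800, 98280), (251596800, 8386560), (4585351680, 98280)] := by
  refine (lst_co1 h f).imp_right (Or.imp_right fun h1 => ?_)
  have h2 : ¬ (Nat.card X = 3113510400 ∧ Y.index = 98280) := fun h2 =>
    noA13 f.simple f.nab h2.1 ((X ⊓ Y).subgroupOf X) (by
      rw [Nat.card_congr (Subgroup.subgroupOfEquivOfLe inf_le_left).toEquiv, ← f.div, h2.1, h2.2])
  simp only [List.mem_cons, Prod.mk.injEq, List.not_mem_nil, or_false] at h1 ⊢
  omega

end Cfsg.Agent.SM.Sp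
end

-- part: SM/Sp/Main
section
set_option linter.all false
open scoped Cfsg.Agent.FastGrp

-- part: SM/Sp/NJ2
section
/-!
# SM (S3570), sporadic socles: J2 (helper26; generated by notes/SM/sp26/gen2.py.txt)
-/

set_option autoImplicit false
set_option Elab.async false

namespace Cfsg.Agent.SM.Sp.NJ2

open Cfsg Cfsg.Agent.TAB.Eng Cfsg.Agent.H940.Eng Cfsg.Agent.TH.Spor

/-- local data -/
def loc : List LD :=
  [⟨7, 7, [(2, 1), (3, 1), (7, 1)]⟩]

/-- the pairs which remain -/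
def L : List (ℕ × ℕ) :=
  []

/-- the candidates -/
noncomputable def SV : List (ℕ × ℕ) :=
  Fq.dP 2017 40664737 54
  0x1f6742cd2fcacead0c8c862e06a2440a0cc120ee1cfdb2813dc8afa6f5820512dc661bb2c9b1eef3f2191cfb02c85d99a1d2b45d7a1818a321167626400625755abbd519dca9039fef72936c9a4a809b7a5565d3e4a2148fa5e853b77407a13ffddf463c5550540d69c68c349edd36d4b3396b0edf513c3e77c94ca6232e4db52c3928693b35c2b1948b79637e567710b04ce5d8fced4fce3ac8a5a9eda18c91bd820e94b4868b37c5e920

/-- the data -/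
noncomputable def E : Ed :=
  ⟨604800, [(7, 1), (5, 2), (3, 3), (2, 7)], H940.Eng.D.o_j2, loc, 14, [], [(7, 10)], [60, 168, 360, 504, 2520, 6048,
  20160], SV⟩

theorem ok1 : okEd TAB.J2.D (TAB.Sm2.mkRows TAB.J2.A TAB.J2.B) E = true := by decide +kernel

/-- the types of prime order -/
def P : List (ℕ × ℕ × ℕ) :=
  [(7, 10, 86400), (5, 6, 4032), (5, 7, 24192), (3, 3, 560), (3, 4, 16800), (2, 1, 315), (2, 2, 2520)]

/-- the types -/
def Z : List Ze :=
  [(1, 2, 315, [1]), (2, 2, 2520, [2]), (3, 3, 560, [3]), (4, 3, 16800, [4]), (5, 4, 6300, [1]), (6, 5, 4032, [6]),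
  (7, 5, 24192, [7]), (8, 6, 25200, [3, 1]), (9, 6, 50400, [4, 2]), (10, 7, 86400, [10]), (11, 8, 75600, [1]), (12,
  10, 60480, [6, 2]), (13, 10, 120960, [7, 1]), (14, 12, 50400, [3, 1]), (15, 15, 80640, [6, 3])]

theorem okB1 : okB E ⟨7, 7, [(2, 1), (3, 1), (7, 1)]⟩ = true := by decide +kernel

/-- pieces -/
def W0 : List (ℕ × ℕ) :=
  [(168, 1), (504, 1), (2520, 1), (6048, 1), (20160, 1)]

theorem okD0 : okD E [(7, 1), (5, 2), (3, 3), (2, 7)] W0 = true := by decide +kernel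

/-- a certificate -/
noncomputable def c0 : Hd × Tr :=
  ((28800, [], []), (Fq.fr 2 10 29 6
  0x1872f5cf))

/-- a certificate -/
noncomputable def c1 : Hd × Tr :=
  ((21600, [], []), (Fq.fr 2 10 29 6
  0x1872f5cf))

/-- a certificate -/
noncomputable def c2 : Hd × Tr :=
  ((40320, [], []), (Fq.fr 0 16 7771 13
  0x8077571345aada594969a0860d1c81dae339ec01f8))

/-- a certificate -/
noncomputable def c3 : Hd × Tr :=
  ((9600, [], []), (Fq.fr 2 10 29 6
  0x1872f5cf))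

/-- a certificate -/
noncomputable def c4 : Hd × Tr :=
  ((17280, [], []), (Fq.fr 6 14 245 7
  0x2a82503282d46f))

/-- a certificate -/
noncomputable def c5 : Hd × Tr :=
  ((14400, [], []), (Fq.fr 2 10 29 6
  0x1872f5cf))

/-- a certificate -/
noncomputable def c6 : Hd × Tr :=
  ((8640, [], []), (Fq.fr 2 10 29 6
  0x1872f5cf))

/-- a certificate -/
noncomputable def c7 : Hd × Tr :=
  ((7200, [], []), (Fq.fr 2 10 29 6
  0x1872f5cf))

/-- a certificate -/
noncomputable def c8 : Hd × Tr :=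
  ((5760, [], [(1, 0)]), (.bf 6 5 (Fq.fr 64 16 2587 10
  0x105d309714677bb5ccbbd144b17ab)
  (Fq.fr 28 16 2603 12
  0xb778564d10ad89782d269f244bb9642cf4)))

/-- a certificate -/
noncomputable def c9 : Hd × Tr :=
  ((2520, [], [(1, 0)]), (Fq.fr 39 16 875 9
  0x5f4b13da36a579e9cfedfa))

/-- a certificate -/
noncomputable def c10 : Hd × Tr :=
  ((5040, [], [(1, 0)]), (Fq.fr 275 16 7769 9
  0x2b271a3e365467144f1b240cba0da))

/-- a certificate -/
noncomputable def c11 : Hd × Tr :=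
  ((4800, [], []), (.bf 6 11 (.bf 6 6 (Fq.fr 18 16 859 9
  0x65d8821dd40d2d58627de1) (.bf 7 1 (Fq.fr 18 16 2603 12
  0x9eff7782afd676e92164918382a18bb36f) (Fq.fr 0 16 105 5
  0x24393980d))) (Fq.fr 0 16 875 12
  0x18cd01c8ba8b04e90cd1d2c39e8c74)))

/-- a certificate -/
noncomputable def c12 : Hd × Tr :=
  ((2520, [], []), (.bf 6 5 (.bf 7 5 (.bf 3 36 (.bf 4 6 (.bf 1 16 (.bf 2 8 (.bm 11 1 (.bm 1 1 (.bm 1 0 (Fq.fr 97 16 2603 11
  0xd4010b54e632f09ee8b038ce95e5b61) (.bm 3 0 (.bm 4 0 (.bm 5 0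
  (.bm 6 0 (.bm 14 0 (Fq.fr 0 15 801 9
  0x84fb5533d2ef3d24ef9b6) (.bm 7 0 (.bf 6 0 (.bf 7 0
  (Fq.fr 2 16 85 5
  0x93f051d2) (.bf 3 15 (.bf 4
  0 (.bf 1 0 (.far (.ofNat 1) []) (Fq.fr 0 14 99 4
  0x59ff5e2)) (Fq.fr 1 8 17 2
  0x10b)) (Fq.fr 7 12 227 6
  0x19fe85e7e0bc))) (Fq.fr 3 16 299 10
  0x3c9075a4540ef45dd574c)) (Fq.fr 4 16 105 10
  0x8b33700b403a38f72))) (Fq.fr 76 16 2581 11
  0x38891234082505303c4ea885f37480d)) (Fq.fr 3 16 107 8
  0x39df49eb0eb64d)) (Fq.fr 17 15 275 5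
  0x16d81e67410)) (Fq.fr 5 16 107 8
  0x38bb31ff5d932d))) (Fq.fr 17 15 275 5
  0x169833cf8e0)) (Fq.fr 17 15 253 8
  0xe7b85846844f50b1)) (Fq.fr 135 16 2609 10
  0x2d020bcdf8a338279acfcf2ba463e)) (Fq.fr 335 16 7787 9
  0xbb490b02324b4d42e7c033d9e3f81)) (Fq.fr 1 16 105 6
  0xec138c4ad6)) (Fq.fr 0 16 7787 8
  0x2b1d68438458b030573255a7bf))
  (Fq.fr 25 16 873 7
  0xef64fcaeffd006419)) (Fq.fr 107 16 2603 8
  0x565f12ab82cba8094e6d850)))

/-- a certificate -/
noncomputable def c13 : Hd × Tr :=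
  ((10800, [], []), (Fq.fr 6 14 245 7
  0x2a82503282d46f))

/-- a certificate -/
noncomputable def c14 : Hd × Tr :=
  ((5400, [], [(2, 0)]), (.bf 6 7 (Fq.fr 0 16 105 3
  0x812dc) (Fq.fr 13 16 875 11
  0x7410e3ce62a1c545e2e536d32cb)))

/-- a certificate -/
noncomputable def c15 : Hd × Tr :=
  ((6048, [], [(2, 0)]), (Fq.fr 0 9 163 3
  0x41723c))

/-- a certificate -/
noncomputable def c16 : Hd × Tr :=
  ((4800, [], [(2, 0)]), (.bf 6 11 (.bf 6 6 (Fq.fr 58 16 2587 12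
  0x829602aba8f88c98e1f4f46ed0f1f5defd) (.bf 7 1 (Fq.fr 0 16 875 7
  0xae31bb11c70bdb149) (Fq.fr 0 16 105 5
  0x24393980d))) (Fq.fr 13 16 875 11
  0x7410e3ce62638b70253e3fabbcb)))

/-- a certificate -/
noncomputable def c17 : Hd × Tr :=
  ((3600, [], [(1, 0), (2, 0)]), (.bf 6 13 (.bf 7 3 (.bf 3 21 (.bf 3 9 (Fq.fr 388 16 23337 12
  0x2ba76c7ce1cc61d31358f3c19897fa5bcd9501f70996) (.bf 4 0 (Fq.fr 292 16 69977 9
  0xf643913818b107c7edf91d0e2b804e4e6732) (Fq.fr 1 16 297 8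
  0x1efc2dc12b7471c12))) (Fq.fr 17 16 7787 10
  0x8f273d75633236f1900f4deefe6fc6ce)) (Fq.fr 1 16 297 10
  0x38f04d70b572c942dee64)) (Fq.fr 13 16 875 11
  0x7410e3ce62638b70253e3fabbcb)))

/-- a certificate -/
noncomputable def c18 : Hd × Tr :=
  ((6048, [], [(1, 0)]), (Fq.fr 0 2 5 1
  0x3))

/-- a certificate -/
noncomputable def c19 : Hd × Tr :=
  ((3200, [], []), (Fq.fr 2 11 29 3
  0x4844))

/-- a certificate -/
noncomputable def c20 : Hd × Tr :=
  ((2400, [], [(1, 0), (2, 0)]), (.bf 6 12 (.bf 7 2 (.bf 3 18 (.bf 4 0 (.bf 1 16 (.bm 11 0 (Fq.fr 6 14 261 7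
  0xac8a32583f6438) (Fq.fr 64 15 2439 8
  0x2db35cacf9f6358d148fbd8)) (Fq.fr 122 15 7301 9
  0x6163397e1182bc210b688abd9bdd3)) (Fq.fr 0 16 2601 7
  0x54eac89594ef54a9296d)) (Fq.fr 9 15 821 8
  0xf2574f7dbc99bb70cf3)) (Fq.fr 61 16 2601 9
  0x3ac9e9cb2f62484007948f63fe)) (Fq.fr 111 16 2603 10
  0x1927c70510dc7ea2934241ccb113f)))

/-- a certificate -/
noncomputable def c21 : Hd × Tr :=
  ((20160, [], []), (Fq.fr 1 10 31 6
  0x32824c11))

/-- a certificate -/
noncomputable def c22 : Hd × Tr :=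
  ((2700, [], []), (Fq.fr 1 16 297 9
  0x23edac6d3dc3775ce6a))

/-- certificates -/
noncomputable def CL0 : List (Hd × Tr) :=
  [c0, c1, c2, c3, c4, c5, c6, c7, c8, c9, c10, c11, c12, c13, c14, c15, c16, c17, c18, c19, c20, c21, c22]

/-- the enumeration -/
theorem lst0 {K : Type} [Group K] [Finite K] (h : In K TAB.J2.D (TAB.Sm2.mkRows TAB.J2.A TAB.J2.B)) :
    Lst K SV :=
  lst_of_enum (E := E) h ok1 (H940.Eng.D.ords_j2 base) (fun _ => List.not_mem_nil) List.mem_cons_self (dv_iff.1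
  (by decide +kernel)) okB1 (l1 := []) rfl (W := [W0].flatten) (by decide +kernel) <| forall_flatten <|
    fa_cons (fun _ h => ⟨_, okD0, h⟩) <| fa_nil

/-- the heads -/
noncomputable def FL : List Hd :=
  ([CL0].flatten).map Prod.fst

/-- scripts -/
noncomputable def S0 : List ((ℕ × ℕ) × Ps) :=
  List.flatten [
  Fq.dS 85 23 4928555 13
  0x209245cde3baf51e43d6ae3f7ff0c3df27bab68e6b47f451b85eeae4daea2f76049ad9692,
  [((2520, 105), (.br 1 (.kx 9) (.ky 8))),
  ((2520, 120), (.br 1 (.kx 9) (.ky 10)))],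
  Fq.dS 316 41 78361355 8
  0x374bdce40859e6b45b6e587100686f82cc11349b68812dbf32eac,
  [((6048, 112), (.br 2 (.kx 15) (.ky 14))),
  ((6048, 126), (.br 2 (.kx 15) (.ky 16))),
  ((6048, 168), (.br 2 (.kx 15) (.br 1 (.kx 18) (.ky 17)))),
  ((6048, 189), (.ky 19)),
  ((6048, 252), (.br 2 (.kx 15) (.br 1 (.kx 18) (.ky 20))))],
  Fq.dS 2017 68 2765202113 26
  0xb2ebe380b6acf769ae1c9b4b1e3d24cbc36ccca563f0da43bbfd9d9c1c55d83992ea554420d060877275eda991a3390a8ac3aa9f528b210a1792dba728a13bfd7799227c4a624cdf02e677c8286b587ff9a13a089fe6f5022cdbaf1eb21bf8cd1691beaa0dff]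

theorem okC : ∀ x ∈ FL, ∃ CL, okL TAB.J2.D (TAB.Sm2.mkRows TAB.J2.A TAB.J2.B) P Z CL = true ∧ x ∈ CL.map Prod.fst :=
  fun _ h => ⟨[CL0].flatten,
    Fq.okL_of 16777231 1000 (by decide +kernel),
    h⟩

/-- **the list** -/
theorem lst {K : Type} [Group K] [Finite K] (h : In K TAB.J2.D (TAB.Sm2.mkRows TAB.J2.A TAB.J2.B)) :
    Lst K L :=
  lst_of_cert h (lst0 h) (l := E.l) (by decide +kernel) (SG := [1, 2]) (by decide +kernel) okC (SS := [S0].flatten)
  (by decide +kernel) (by decide +kernel)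

end Cfsg.Agent.SM.Sp.NJ2
end

-- part: SM/Sp/NMcL
section
/-!
# SM (S3570), sporadic socles: McL (helper26; generated by notes/SM/sp26/gen2.py.txt)
-/

set_option autoImplicit false
set_option Elab.async false

namespace Cfsg.Agent.SM.Sp.NMcL

open Cfsg Cfsg.Agent.TAB.Eng Cfsg.Agent.H940.Eng Cfsg.Agent.TH.Spor

/-- local data -/
def loc : List LD :=
  [⟨11, 11, [(5, 1), (11, 1)]⟩, ⟨7, 14, [(2, 1), (3, 1), (7, 1)]⟩]

/-- the pairs which remain -/
def L : List (ℕ × ℕ) :=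
  []

/-- the candidates -/
noncomputable def SV : List (ℕ × ℕ) :=
  Fq.dP 831601 16597426230001 133
  0x1c77eff04d3fc5cdd006ee97d681f37383b849480928d68de1d5fcb7f990f40ca223d1ba434637cb4da3b409230954f3b018d6af8b52e7b0f3bc6756123f4699cd8747ab3b2315f90096722444c1b21332095ef4d8e8323c048a1269bf2503706725f12be8a903452a2d12857e8bcf90f0b32de40ebad8c4e3086e6296b72fa814f7db1cfdf9a1dbfdfb60bb43bd4d4832f7f7cd30041bbb20590274fd6b0f88456f562d411e6cba512805729cdc18f52439201f3c526734f353b883e2ee0d3497fb7862d66ae9852d61ae15456b9f7c28255bfe0e224204017c69b4734fffe757abd0505c769800a42beededec4fae61f114746712b404d60bb305ffe755a0ad2f01392bd114bc02fbebf5f5f0ad3a75c8838ffdb11dbd8349fa395a5f0b930ad0d29f5fda0b9a82e0acd2cb7bafe0f5d2e6a9f90c2c9e1d12b325cc5bc1c224a56506d0bb273a7ead886e603f4c4972ecaa1a92864ba1e11d2f479dc3702fae7b69866bf6ab0b3e6e3dcbff2cce80af3bc7027dd2a99069d4cafdfeed833aecaf9ea4095012de42e8b5bd0aa0973d0d997792d31f254d558ff48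82ea7e88ab4cabba7a419cb4c3bb3d6cf321794749bf8f68af86b61b8a8549a3ae5a55c7c7b959c36a8dc3d5af694ba1c2a2b585354c34135c0bfcfd333114d18aa73a2702ac4b8974696f491a8d6cf1ed3020f2048bb978cb47c3d289d456c8f7d732c4a5a8de15dee01263896bdafdd314dabead2d673edb4309e3ea927bb769472b99e00cd91f6fdb70a422bc3aa29d6f755a49784f577dc2ed690d762a2db68644109f788db15b3dcbf072e52ce220c1651994c66db935a7c319a08442f2db8828ba26931070d43e4c58259064133e32ab78a6b28f15fdbeec9d8c3c228028bc8b60a1a0afe335c685dd3727b40367e5615b0056763aa227c3c2df30c138389fc6d73e97ebf0e1777abe3ebb0f294e6df72cde4f87e310aa0fca1d0fc91afe5935a3f3195a76bf25394e1e149f23d1114a18bbcb0a6b06b47e1812f4d5d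

/-- the data -/
noncomputable def E : Ed :=
  ⟨898128000, [(11, 1), (7, 1), (5, 3), (3, 6), (2, 7)], H940.Eng.D.o_mcl, loc, 22, [], [(11, 13), (7, 9), (2, 1)],
  [60, 168, 360, 504, 660, 2520, 6048, 7920, 20160, 25920, 95040, 126000, 181440, 443520, 604800, 3265920, 19958400],
  SV⟩

theorem ok1 : okEd TAB.McL.D TAB.McL.RR E = true := by decide +kernel

/-- the types of prime order -/
def P : List (ℕ × ℕ × ℕ) :=
  [(11, 13, 163296000), (7, 9, 128304000), (5, 5, 1197504), (5, 6, 35925120), (3, 2, 30800), (3, 3, 924000), (2, 1,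
  22275)]

/-- the types -/
def Z : List Ze :=
  [(1, 2, 22275, [1]), (2, 3, 30800, [2]), (3, 3, 924000, [3]), (4, 4, 9355500, [1]), (5, 5, 1197504, [5]), (6, 5,
  35925120, [6]), (7, 6, 2494800, [2, 1]), (8, 6, 24948000, [3, 1]), (9, 7, 128304000, [9]), (10, 8, 112266000, [1]),
  (11, 9, 66528000, [2]), (12, 10, 29937600, [5, 1]), (13, 11, 163296000, [13]), (14, 12, 74844000, [2, 1]), (15, 14,
  128304000, [9, 1]), (16, 15, 59875200, [5, 2]), (17, 30, 59875200, [5, 2, 1])]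

/-- the prepared lists -/
noncomputable def Qq : List Fq.Lq :=
  [(11, [11, 55],
  Fq.dN 898128001 8 0x3d57272efcae43c8716013703463fcb1d34b1aeb9d745ab28a5bbf7a7c06,
  [(128, 1), (729, 129), (125, 1), (7, 1)]),
  (7, [7, 14, 21, 42],
  Fq.dN 898128001 25 0xbc87875cc7cd98d6cf06ce7b2e0041c82d67f7a92d091467d136112a52ecdaa53d985be47a22a58841fac48c8159faffa64ccc9535d6d0a7016896c9eb7458a56558cddfbb836c555e9379c4bf3fbfcf60676f611f092a595cbd86ae24,
  [(128, 219), (729, 513), (125, 1), (11, 1)])]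

theorem okQq : Fq.okQs E Qq = true := by decide +kernel

theorem okB1 : okB E ⟨11, 11, [(5, 1), (11, 1)]⟩ = true := by decide +kernel

/-- pieces -/
def W0 : List (ℕ × ℕ) :=
  [(660, 1), (660, 11), (7920, 1), (7920, 11), (95040, 1), (95040, 11), (443520, 1), (443520, 7), (443520, 11),
  (443520, 77), (19958400, 1), (19958400, 7)]

/-- pieces -/
def W1 : List (ℕ × ℕ) :=
  [(19958400, 11), (19958400, 77)]

/-- a certificate -/
noncomputable def c0 : Hd × Tr :=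
  ((19958400, [], []), (Fq.fr 17 16 295 10
  0x155222294ca5fa13f0aa3))

/-- a certificate -/
noncomputable def c1 : Hd × Tr :=
  ((604800, [], []), (Fq.fr 189 18 78733 12
  0x909f6599c6bb48b617203b1922cb721d65ca145b2a85ad19e))

/-- a certificate -/
noncomputable def c2 : Hd × Tr :=
  ((11664000, [], []), (Fq.fr 6 15 83 3
  0x4baf3))

/-- a certificate -/
noncomputable def c3 : Hd × Tr :=
  ((5832000, [], []), (Fq.fr 18 15 263 3
  0x8e7bd5))

/-- a certificate -/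
noncomputable def c4 : Hd × Tr :=
  ((3888000, [], []), (Fq.fr 18 15 263 3
  0x8e7bd5))

/-- a certificate -/
noncomputable def c5 : Hd × Tr :=
  ((2916000, [], []), (Fq.fr 18 15 263 3
  0x8e7bd5))

/-- a certificate -/
noncomputable def c6 : Hd × Tr :=
  ((2332800, [], []), (Fq.fr 18 15 263 3
  0x8e7bd5))

/-- a certificate -/
noncomputable def c7 : Hd × Tr :=
  ((1944000, [], []), (Fq.fr 18 15 263 3
  0x8e7bd5))

/-- a certificate -/
noncomputable def c8 : Hd × Tr :=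
  ((1458000, [], []), (Fq.fr 18 15 263 3
  0x8e7bd5))

/-- a certificate -/
noncomputable def c9 : Hd × Tr :=
  ((1296000, [], []), (Fq.fr 18 15 263 3
  0x8e7bd5))

/-- a certificate -/
noncomputable def c10 : Hd × Tr :=
  ((1166400, [], []), (Fq.fr 18 15 263 3
  0x8e7bd5))

/-- a certificate -/
noncomputable def c11 : Hd × Tr :=
  ((972000, [], []), (Fq.fr 18 15 263 3
  0x8e7bd5))

/-- a certificate -/
noncomputable def c12 : Hd × Tr :=
  ((777600, [], []), (Fq.fr 54 15 803 3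
  0xf90cbfb))

/-- a certificate -/
noncomputable def c13 : Hd × Tr :=
  ((729000, [], []), (Fq.fr 54 15 803 3
  0xf90cbfb))

/-- a certificate -/
noncomputable def c14 : Hd × Tr :=
  ((648000, [], []), (Fq.fr 54 15 803 3
  0xf90cbfb))

/-- a certificate -/
noncomputable def c15 : Hd × Tr :=
  ((583200, [], []), (Fq.fr 54 15 803 3
  0xf90cbfb))

/-- a certificate -/
noncomputable def c16 : Hd × Tr :=
  ((486000, [], []), (Fq.fr 54 15 803 3
  0xf90cbfb))

/-- a certificate -/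
noncomputable def c17 : Hd × Tr :=
  ((388800, [], []), (Fq.fr 54 15 803 3
  0xf90cbfb))

/-- a certificate -/
noncomputable def c18 : Hd × Tr :=
  ((364500, [], []), (Fq.fr 54 15 803 3
  0xf90cbfb))

/-- a certificate -/
noncomputable def c19 : Hd × Tr :=
  ((324000, [], []), (Fq.fr 54 15 803 3
  0xf90cbfb))

/-- a certificate -/
noncomputable def c20 : Hd × Tr :=
  ((291600, [], []), (Fq.fr 54 15 803 3
  0xf90cbfb))

/-- a certificate -/
noncomputable def c21 : Hd × Tr :=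
  ((259200, [], []), (Fq.fr 54 15 803 3
  0xf90cbfb))

/-- a certificate -/
noncomputable def c22 : Hd × Tr :=
  ((243000, [], []), (Fq.fr 198 18 8765 11
  0xc33406edd4f0f5e975a2278dd5b16f4b265e))

/-- a certificate -/
noncomputable def c23 : Hd × Tr :=
  ((194400, [], [(3, 0)]), (Fq.fr 28 18 987 9
  0xadabce46a479d57a9aa23a))

/-- a certificate -/
noncomputable def c24 : Hd × Tr :=
  ((443520, [], [(3, 0)]), (Fq.fr 21 18 965 10
  0xa79d5154d4616eead57329da))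

/-- a certificate -/
noncomputable def c25 : Hd × Tr :=
  ((182250, [], []), (Fq.fr 0 15 45 1
  0x2c))

/-- a certificate -/
noncomputable def c26 : Hd × Tr :=
  ((145800, [], [(3, 0)]), (Fq.fr 98 18 2931 11
  0x5954bac7a5f5df30319d7f093f78a077))

/-- a certificate -/
noncomputable def c27 : Hd × Tr :=
  ((121500, [], [(3, 0)]), (Fq.fr 268 18 8767 9
  0x3aea4e9f9d9a146df4e11e5d023909))

/-- a certificate -/
noncomputable def c28 : Hd × Tr :=
  ((97200, [], [(1, 0), (3, 0)]), (.bf 5 5 (.bf 6 0 (.bf 2 0 (Fq.fr 4 15 77 3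
  0x404f8) (Fq.fr 3454 18 78749 10
  0x517f99980940477a243738307434b541a558e53eb))
  (Fq.fr 48 17 905 8
  0xaafebb81949c1f4d0ee)) (Fq.fr 268 18 8767 10
  0x7e1a32f1ef75655591d24746c1c3b7ae3)))

/-- a certificate -/
noncomputable def c29 : Hd × Tr :=
  ((443520, [], [(1, 0)]), (Fq.fr 53 16 873 7
  0xabd002ad2df16a338))

/-- a certificate -/
noncomputable def c30 : Hd × Tr :=
  ((91125, [], []), (Fq.fr 6 18 91 5
  0x16e231c8b))

/-- a certificate -/
noncomputable def c31 : Hd × Tr :=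
  ((72900, [], [(1, 0), (3, 0)]), (.bf 5 10 (.bf 6 0 (Fq.fr 14 18 341 8
  0x7d8e9c032738e219d) (Fq.fr 1 15 45 3
  0x15f46)) (Fq.fr 26 18 991 7
  0x32cf5bb1b5f71ff56e)))

/-- a certificate -/
noncomputable def c32 : Hd × Tr :=
  ((60750, [], []), (Fq.fr 0 15 45 1
  0x2c))

/-- a certificate -/
noncomputable def c33 : Hd × Tr :=
  ((48600, [], [(1, 0), (3, 0), (4, 0)]), (.bf 5 30 (.bf 6 0 (.bf 2 129 (.bf 3 33 (.bf 1 112 (.bm 13 1 (.bm 5 0 (.bm
  6 1 (.bm 6 0 (Fq.fr 130 18 2905 9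
  0xb9e80bdad4a5e600e24a87489a) (.bm 7 0 (.bm 8 0 (.bm 9 1 (.bm 9 0 (Fq.fr 54 18 729 12
  0x43bcc59069bfcd9c14d7e7d5f602b) (.bm 10 0 (.bm 14 0 (.bm
  15 0 (.bm 11 0 (Fq.fr 161 17 2387 11
  0x1d199a45b2dbdc2f7c38c836c54d51d)
  (.bf 5 5 (Fq.fr 27 16 875 10
  0xe85744ed6b410f0c519fb7f8) (Fq.fr 0 18 981 12
  0x1ec4ba406eb86e28cab02b3d10dea6))) (Fq.fr 0 16 867 4
  0x418cadd4ad)) (Fq.fr 18 15 263 3
  0x8e7bd5)) (Fq.fr 161 18 1699 8
  0x29b8f22e5b2be9e0ad0854))) (Fq.fr 5 14 95 5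
  0x1c5a3052e)) (Fq.fr 21 18 981 10
  0xa69327b40eaf32537415bad17)) (Fq.fr 17 18 295 10
  0x31fa3b338879f1156ce2c))) (Fq.fr 3 18 115 6
  0x2180ed59be9)) (Fq.fr 2 18 117 8
  0x78fa0c6915a9aa))
  (Fq.fr 31 18 981 10
  0x8efc795773095049970e8568d)) (Fq.fr 40 18 2925 10
  0x4662864fddfe1224929e185273984)) (Fq.fr 1 5 11 3
  0x49f))
  (Fq.fr 244 18 26261 9
  0x5d3bc7f4b7eeb847ae7aaf0135b9ef974)) (Fq.fr 1 15 45 3
  0x15f46)) (Fq.fr 34 18 2923 9
  0x7f11f7dc7718252fdb9bc09b18)))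

/-- a certificate -/
noncomputable def c34 : Hd × Tr :=
  ((443520, [], [(4, 0)]), (Fq.fr 27 18 971 11
  0x1bc56c91efd2e557779dbb6940b6))

/-- a certificate -/
noncomputable def c35 : Hd × Tr :=
  ((40500, [], [(1, 0), (3, 0), (4, 0)]), (.bf 6 1 (.bf 1 0 (Fq.fr 2 13 39 3
  0xe46b) (Fq.fr 19 18 987 8
  0x2d167f27eccc0212c553)) (Fq.fr 1 4 9 2
  0x44)))

/-- a certificate -/
noncomputable def c36 : Hd × Tr :=
  ((36450, [], [(1, 0), (3, 0), (4, 0)]), (.bf 5 25 (.bf 6 0 (.bf 2 76 (.bf 1 0 (Fq.fr 6 13 61 4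
  0x8708b5) (Fq.fr 0 15 45 1
  0x2c)) (Fq.fr 26244 17 669239 8
  0x70c639c88c411504ef82414f0c81e98350405aa)) (Fq.fr 1 5 11 3
  0x49f))
  (Fq.fr 0 15 45 1
  0x2c)))

/-- a certificate -/
noncomputable def c37 : Hd × Tr :=
  ((466560, [], []), (Fq.fr 54 15 803 3
  0xf90cbfb))

/-- a certificate -/
noncomputable def c38 : Hd × Tr :=
  ((432000, [], []), (Fq.fr 54 15 803 3
  0xf90cbfb))

/-- a certificate -/
noncomputable def c39 : Hd × Tr :=
  ((233280, [], []), (Fq.fr 198 18 8765 11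
  0xc33406edd4f0f5e975a2278dd5b16f4b265e))

/-- a certificate -/
noncomputable def c40 : Hd × Tr :=
  ((216000, [], []), (Fq.fr 10 18 987 10
  0x237f749ae834179fb1c90418f))

/-- certificates -/
noncomputable def CL0 : List (Hd × Tr) :=
  [c0, c1, c2, c3, c4, c5, c6, c7, c8, c9, c10, c11, c12, c13, c14, c15, c16, c17, c18, c19, c20, c21, c22, c23, c24,
  c25, c26, c27, c28, c29, c30, c31, c32, c33, c34, c35, c36, c37, c38, c39, c40]

theorem okDq : okD E [(5, 3), (3, 6), (2, 7)] [W0, W1].flatten = true :=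
  Fq.okD_of okQq (by decide +kernel)

/-- the enumeration -/
theorem lst0 {K : Type} [Group K] [Finite K] (h : In K TAB.McL.D TAB.McL.RR) :
    Lst K SV :=
  lst_of_enum (E := E) h ok1 (H940.Eng.D.ords_mcl base) (fun _ => List.not_mem_nil) List.mem_cons_self (dv_iff.1
  (by decide +kernel)) okB1 (l1 := [(11, 1), (7, 1)]) rfl (W := [W0, W1].flatten) (by decide +kernel) 
  fun _ h => ⟨_, okDq, h⟩

/-- the heads -/
noncomputable def FL : List Hd :=
  ([CL0].flatten).map Prod.fst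

/-- scripts -/
noncomputable def S0 : List ((ℕ × ℕ) × Ps) :=
  List.flatten [
  Fq.dS 3697 68 111499405317 27
  0x7391c934d44d206f7f54605593232aa593466e3595f77f5519e3cba2ffdc12cbac2394849a9228424f442000dc19442cc398398e341a22fcaf860a672f9f708bb29d64a24f8c7b31a8c93f8b6aee143d968541b4c67cbd88ca435dd8be384f823822b68a8a25cbc3dd1bfe015dca6105678354c287213d128e4ed87e,
  [((443520, 4620), (.br 3 (.kx 24) (.ky 23))),
  ((443520, 4928), (.ky 25)),
  ((443520, 6160), (.br 3 (.kx 24) (.ky 26))),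
  ((443520, 7392), (.br 3 (.kx 24) (.ky 27))),
  ((443520, 9240), (.br 3 (.kx 24) (.br 1 (.kx 29) (.ky 28)))),
  ((443520, 9856), (.ky 30)),
  ((443520, 12320), (.br 3 (.kx 24) (.br 1 (.kx 29) (.ky 31)))),
  ((443520, 14784), (.ky 32)),
  ((443520, 18480), (.br 4 (.kx 34) (.br 3 (.kx 24) (.br 1 (.kx 29) (.ky 33))))),
  ((443520, 22176), (.br 4 (.kx 34) (.br 3 (.kx 24) (.br 1 (.kx 29) (.ky 35))))),
  ((443520, 24640), (.br 4 (.kx 34) (.br 3 (.kx 24) (.br 1 (.kx 29) (.ky 36)))))],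
  Fq.dS 5601 116 12967292136011 22
  0x4fd2b7071f1007efbc2f53f845db9a209523cf811968b76c875c6bb3cf2a6f53ad240f9523d3ef7e295c052257abbe6df0b95472d3e705d82bba10632f3b6162208243ad061e0c634d3c640cd956944013c8b0788138931681eda843132d9afa7612d2d39df78020121ab1a4e790af3c0d1f5abe4d43c72e]

/-- scripts -/
noncomputable def S1 : List ((ℕ × ℕ) × Ps) :=
  Fq.dS 138601 122 337483029114001 60
  0xd12a37b1f7bdcb22ba33d8c391299977a72aba5ec8c48f1362627b5a65559f15b2c2d8868c528a12f1ce8e3f71aad1a4d2f86a8c316b47ea9c42043b964158f04c3de18a7317b683cf28f1ea507e2e94f6ed7497739049d12e4e9c794ed06d320d6b7fcad0b60f39ab41408782e7251edc5985c00e5e06957d834fb61285371abb0a289ebc33c3bf1aaf191afd0e5133b75230835077f0f8dc6cab3f9334e7a53cb0c3bfdbeb088045573a1557ff03b9f19efbea8e6c240bb8341b8dddef7b81a026d97816c68b08d4e51723fcec494c12fabeae62779472722bd361db4c08f529175e60492f79fa807cebf8b7df4e17bd5264e07b4bbcb5c41a9a32594843cc7f0ad95d2c64577aa6d37e86b7ea934abc7a4321c6efad77e50bbb8059e42a8ed5141f1c990233d738ee8698145e700218160fd7960f6f02ae4fa8433e06cf3bb01638e0c526f2162e86d9a5da36988999906e9b58c14caa39ece42b29079bb8bf75c0ae9828b4ca8aeb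

/-- scripts -/
noncomputable def S2 : List ((ℕ × ℕ) × Ps) :=
  Fq.dS 831601 1 16597426230001 13
  0x781e7eebb7e71e2ab737e8e8ea6910ec3258dc3833d475b7617f45b1eba0514363f6a7678e69384b1b47b857071d9f066ca8a8b738fd4b4e16178f9e916a72df6cd90773c9377d1

theorem okC : ∀ x ∈ FL, ∃ CL, okL TAB.McL.D TAB.McL.RR P Z CL = true ∧ x ∈ CL.map Prod.fst :=
  fun _ h => ⟨[CL0].flatten,
    Fq.okL_of 8589934607 30000 (by decide +kernel),
    h⟩

/-- **the list** -/
theorem lst {K : Type} [Group K] [Finite K] (h : In K TAB.McL.D TAB.McL.RR) :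
    Lst K L :=
  lst_of_cert h (lst0 h) (l := E.l) (by decide +kernel) (SG := [1, 3, 4]) (by decide +kernel) okC (SS := [S0, S1,
  S2].flatten) (by decide +kernel) (by decide +kernel)

end Cfsg.Agent.SM.Sp.NMcL
end

-- part: SM/Sp/NHe
section
/-!
# SM (S3570), sporadic socles: He (helper26; generated by notes/SM/sp26/gen2.py.txt)
-/

set_option autoImplicit false
set_option Elab.async false

namespace Cfsg.Agent.SM.Sp.NHe

open Cfsg Cfsg.Agent.TAB.Eng Cfsg.Agent.H940.Eng Cfsg.Agent.TH.Spor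

/-- local data -/
def loc : List LD :=
  [⟨17, 17, [(2, 3), (17, 1)]⟩]

/-- the pairs which remain -/
def L : List (ℕ × ℕ) :=
  []

/-- the candidates -/
noncomputable def SV : List (ℕ × ℕ) :=
  Fq.dP 54401 53269513601 61
  0x301a5d197cbb4cd8bec88c7e00dea3a7fde609f75afe85e6c2b1b8e902eb998737c10be35f53e67fc37e95441dd0609d367cf937070f44e7cfde2c38318e590c651af5aa9b239fa829636dc79c5b3049bc3703c1e7b3f59025dea3cbce60a5d9f0d95534c6a3bbb52415d1915205591767f26beb53b28218932536b5809198f7e58b7eb87604d632b61b87b2b7263c616877c124102276feaa3ac2d49689406f84f3ba67b65a9f930058bcdcced605f8e417e495a92b61c2189a1200feea2a38d1f3580929815aa4e163308fa89a9d304b5ff656a315d3bf151bca8625adc5782a36688a6e44fe4fa9e3ae083b0d3ecef4b09a70117d8c36846edf123ee97e30368b078e37cf0e3e79902790815f7bc0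

/-- the data -/
noncomputable def E : Ed :=
  ⟨4030387200, [(17, 1), (7, 3), (5, 2), (3, 3), (2, 10)], H940.Eng.D.o_he, loc, 51, [], [(17, 19), (5, 8)], [60,
  168, 360, 504, 2448, 2520, 4080, 6048, 20160, 58800, 604800, 979200], SV⟩

theorem ok1 : okEd TAB.He.D TAB.He.RR E = true := by decide +kernel

/-- the types of prime order -/
def P : List (ℕ × ℕ × ℕ) :=
  [(17, 19, 474163200), (7, 10, 6854400), (7, 11, 3916800), (7, 12, 82252800), (5, 8, 13434624), (3, 3, 533120), (3,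
  4, 7996800), (2, 1, 24990), (2, 2, 187425)]

/-- the types -/
def Z : List Ze :=
  [(1, 2, 24990, [1]), (2, 2, 187425, [2]), (3, 3, 533120, [3]), (4, 3, 7996800, [4]), (5, 4, 5997600, [1]), (6, 4,
  10495800, [2]), (7, 4, 31487400, [2]), (8, 5, 13434624, [8]), (9, 6, 55977600, [3, 1]), (10, 7, 6854400, [10]),
  (11, 7, 3916800, [11]), (12, 7, 82252800, [12]), (13, 8, 251899200, [2]), (14, 10, 201519360, [8, 1]), (15, 12,
  335865600, [3, 1]), (16, 14, 143942400, [10, 1]), (17, 14, 575769600, [12, 2]), (18, 15, 268692480, [8, 3]), (19,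
  17, 474163200, [19]), (20, 21, 383846400, [11, 3]), (21, 28, 287884800, [10, 1]), (22, 6, 167932800, [4, 2]), (23,
  12, 335865600, [4, 2]), (24, 21, 383846400, [10, 4])]

theorem okB1 : okB E ⟨17, 17, [(2, 3), (17, 1)]⟩ = true := by decide +kernel

/-- pieces -/
def W0 : List (ℕ × ℕ) :=
  [(2448, 1), (4080, 1), (979200, 1)]

theorem okD0 : okD E [(17, 1), (7, 3), (5, 2), (3, 3), (2, 10)] W0 = true := by decide +kernel

/-- a certificate -/
noncomputable def c0 : Hd × Tr :=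
  ((59270400, [], []), (Fq.fr 0 23 395 14
  0x3192e0c6065dbf20895e5a4ee5ce16))

/-- a certificate -/
noncomputable def c1 : Hd × Tr :=
  ((39513600, [], []), (Fq.fr 0 23 395 14
  0x3192e0c6065dbf20895e5a4ee5ce16))

/-- a certificate -/
noncomputable def c2 : Hd × Tr :=
  ((29635200, [], []), (Fq.fr 18 25 1329 16
  0x267a3be11116e661a21758b0e52ba9c4b94c96489))

/-- a certificate -/
noncomputable def c3 : Hd × Tr :=
  ((26342400, [], []), (Fq.fr 0 23 395 14
  0x3192e0c6065dbf20895e5a4ee5ce16))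

/-- a certificate -/
noncomputable def c4 : Hd × Tr :=
  ((47416320, [], []), (Fq.fr 18 24 457 7
  0x39a3f1202eb34f6c))

/-- a certificate -/
noncomputable def c5 : Hd × Tr :=
  ((23708160, [], []), (Fq.fr 18 24 457 7
  0x39a3f1202eb34f6c))

/-- a certificate -/
noncomputable def c6 : Hd × Tr :=
  ((19756800, [], []), (Fq.fr 18 24 457 7
  0x39a3f1202eb34f6c))

/-- a certificate -/
noncomputable def c7 : Hd × Tr :=
  ((15805440, [], []), (Fq.fr 4 23 395 11
  0x28fb54508b8dccf07b698e26))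

/-- a certificate -/
noncomputable def c8 : Hd × Tr :=
  ((14817600, [], []), (Fq.fr 0 23 395 14
  0x3192e0c6065dbf20895e5a4ee5ce16))

/-- a certificate -/
noncomputable def c9 : Hd × Tr :=
  ((13171200, [], []), (Fq.fr 0 23 395 14
  0x3192e0c6065dbf20895e5a4ee5ce16))

/-- a certificate -/
noncomputable def c10 : Hd × Tr :=
  ((11854080, [], []), (Fq.fr 0 23 395 14
  0x3192e0c6065dbf20895e5a4ee5ce16))

/-- a certificate -/
noncomputable def c11 : Hd × Tr :=
  ((9878400, [], []), (Fq.fr 54 24 1321 7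
  0x17c3ef19fa337da9bfc))

/-- a certificate -/
noncomputable def c12 : Hd × Tr :=
  ((9483264, [], []), (Fq.fr 0 22 1175 7
  0xf922e85ac8d67dc37))

/-- a certificate -/
noncomputable def c13 : Hd × Tr :=
  ((7902720, [], []), (Fq.fr 0 23 395 14
  0x3192e0c6065dbf20895e5a4ee5ce16))

/-- a certificate -/
noncomputable def c14 : Hd × Tr :=
  ((7408800, [], []), (Fq.fr 0 23 395 14
  0x3192e0c6065dbf20895e5a4ee5ce16))

/-- a certificate -/
noncomputable def c15 : Hd × Tr :=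
  ((6585600, [], []), (Fq.fr 4 23 395 11
  0x28fb54508b8dccf07b698e26))

/-- a certificate -/
noncomputable def c16 : Hd × Tr :=
  ((5927040, [], []), (Fq.fr 54 24 1321 7
  0x17c3ef19fa337da9bfc))

/-- a certificate -/
noncomputable def c17 : Hd × Tr :=
  ((5268480, [], []), (Fq.fr 54 24 1321 7
  0x17c3ef19fa337da9bfc))

/-- a certificate -/
noncomputable def c18 : Hd × Tr :=
  ((4939200, [], []), (Fq.fr 0 24 1281 14
  0x4b9076af412a18e13a1c2465a02f1dedae22))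

/-- a certificate -/
noncomputable def c19 : Hd × Tr :=
  ((4741632, [], []), (Fq.fr 2 25 429 8
  0x72098a75bb5f6ad49))

/-- a certificate -/
noncomputable def c20 : Hd × Tr :=
  ((3951360, [], []), (Fq.fr 7 24 1281 13
  0x415996dff011aa010c0f88f3bae1c1ee1))

/-- a certificate -/
noncomputable def c21 : Hd × Tr :=
  ((3704400, [], []), (Fq.fr 54 24 1321 7
  0x17c3ef19fa337da9bfc))

/-- a certificate -/
noncomputable def c22 : Hd × Tr :=
  ((3292800, [], []), (Fq.fr 9 19 1015 11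
  0xad372785c5e5df11662481601d0))

/-- a certificate -/
noncomputable def c23 : Hd × Tr :=
  ((3161088, [], []), (Fq.fr 162 24 2947 10
  0x646eee8a03525586ae6be899ae876))

/-- a certificate -/
noncomputable def c24 : Hd × Tr :=
  ((2963520, [], []), (Fq.fr 54 24 1321 7
  0x17c3ef19fa337da9bfc))

/-- a certificate -/
noncomputable def c25 : Hd × Tr :=
  ((2634240, [], []), (Fq.fr 0 23 395 6
  0x966bc24a0cf7a))

/-- a certificate -/
noncomputable def c26 : Hd × Tr :=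
  ((2469600, [], []), (Fq.fr 54 24 1321 7
  0x17c3ef19fa337da9bfc))

/-- a certificate -/
noncomputable def c27 : Hd × Tr :=
  ((2370816, [], []), (Fq.fr 0 18 311 5
  0xc2773bb91e))

/-- a certificate -/
noncomputable def c28 : Hd × Tr :=
  ((1975680, [], []), (Fq.fr 1080 25 328075 20
  0x19194e068fdad759ba1033c0b353ba270468158e073b241b52b54b6e3faac279ea81436b60292c35a57cd86ab331))

/-- a certificate -/
noncomputable def c29 : Hd × Tr :=
  ((1852200, [], []), (Fq.fr 125 25 12165 17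
  0x554fb39ebb5cba0e782080981fe6be130972a137ccfdce6fd3911ac14))

/-- a certificate -/
noncomputable def c30 : Hd × Tr :=
  ((1646400, [], []), (Fq.fr 0 24 3899 16
  0x734695d624a6eef11c2aac050b92284e624a2e3cd6b04d63))

/-- a certificate -/
noncomputable def c31 : Hd × Tr :=
  ((1580544, [], []), (Fq.fr 2 23 69 6
  0x191985bf14))

/-- a certificate -/
noncomputable def c32 : Hd × Tr :=
  ((1481760, [], []), (Fq.fr 131 24 35017 13
  0x12f5e0ffc9f12b040eaaf196a09d330e77260030784720ff91))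

/-- a certificate -/
noncomputable def c33 : Hd × Tr :=
  ((1317120, [], [(1, 0), (2, 0)]), (Fq.fr 5 23 1243 13
  0x319e787260256e3e4c15099be6ea165453))

/-- a certificate -/
noncomputable def c34 : Hd × Tr :=
  ((979200, [], [(1, 0)]), (Fq.fr 0 25 1337 6
  0x2681f1f6aabc8ac4))

/-- a certificate -/
noncomputable def c35 : Hd × Tr :=
  ((979200, [], [(2, 0)]), (Fq.fr 40 22 3555 11
  0x14ffa3de31c06d39f3431dabc494f9c24))

/-- a certificate -/
noncomputable def c36 : Hd × Tr :=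
  ((1234800, [], []), (Fq.fr 0 24 3899 16
  0x734695d624a6eef11c2aac050b92284e624a2e3cd6b04d63))

/-- a certificate -/
noncomputable def c37 : Hd × Tr :=
  ((1185408, [], []), (Fq.fr 2 23 69 6
  0x191985bf14))

/-- a certificate -/
noncomputable def c38 : Hd × Tr :=
  ((1053696, [], []), (Fq.fr 2 23 69 6
  0x191985bf14))

/-- a certificate -/
noncomputable def c39 : Hd × Tr :=
  ((987840, [], []), (Fq.fr 829 25 109365 17
  0x297b53328eadce5a38119b93306326240229fed0b349912e1fe331eeef68a722a53ab86))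

/-- a certificate -/
noncomputable def c40 : Hd × Tr :=
  ((823200, [], [(1, 0), (2, 0)]), (Fq.fr 571 25 36433 19
  0x2af4fae2e49c6f9b69debb069a3dca0b24f0b8a28e747295713c98dc328e7257cb4ec925))

/-- a certificate -/
noncomputable def c41 : Hd × Tr :=
  ((790272, [], []), (Fq.fr 2 23 129 9
  0x79ad28415daaca7a))

/-- a certificate -/
noncomputable def c42 : Hd × Tr :=
  ((740880, [], [(1, 0), (2, 0)]), (.bf 10 15 (.bf 10 8 (Fq.fr 158 25 12161 18
  0x13877b89e5923a9862997ef6f16632fcf4ce5e519d35872501ac454ad6456) (.bf 11 15 (Fq.fr 241 25 12165 19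
  0x1ba1f19194488b1ba7c4ad70791f11e931d9f0eb015ce123a312b687747de9695) (.bf 8 0 (Fq.fr 0 23 161 7
  0x9eca3220e53ec)
  (Fq.fr 54 24 3913 11
  0x9acd5c9140eeeb7a542ca9e36d4a67dc3)))) (Fq.fr 223 25 36465 19
  0x52c6c280176f5fe42c88290a98d6c2fbb149ed6b5f2d8664a076da107d9e8e5fd20c2d3a)))

/-- a certificate -/
noncomputable def c43 : Hd × Tr :=
  ((658560, [], [(1, 0), (2, 0)]), (Fq.fr 13373 25 984149 21
  0xee08787ed234438a6cab2cb3eb9c692781280790f11622c5454658f2984047dcf53094f00c9cfbccaea2f0d9c239e5c0ef927b7c))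

/-- a certificate -/
noncomputable def c44 : Hd × Tr :=
  ((617400, [], [(1, 0), (2, 0)]), (Fq.fr 67 25 4033 17
  0x25c1ec8215aeced4b457de7d4c18d73c8153abf4b4cec27ff0a))

/-- a certificate -/
noncomputable def c45 : Hd × Tr :=
  ((592704, [], []), (Fq.fr 88 25 12173 15
  0x118eff81d0b899a92eb1228f23c95ed987434141d2789704b4f))

/-- a certificate -/
noncomputable def c46 : Hd × Tr :=
  ((493920, [], [(1, 0), (2, 0)]), (.bf 10 5 (Fq.fr 10270 25 984175 12
  0x534d3da3adb355f35dc31bcab1cd3c09204afac26a31a9efb16206e9ef3) (Fq.fr 1669 25 109365 17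
  0x9336638877a150e6cd1d74884b420ed0a149df766b038ee8434f88661544193da6fb001)))

/-- a certificate -/
noncomputable def c47 : Hd × Tr :=
  ((395136, [], []), (Fq.fr 138 25 12173 16
  0x525f70a40c39ce5dac5a07107c287c6b8d3282a5159a5db59c1a9f))

/-- a certificate -/
noncomputable def c48 : Hd × Tr :=
  ((370440, [], [(1, 0), (2, 0)]), (.bf 10 16 (.bf 10 2 (Fq.fr 1 24 421 10
  0x18a26b9ba0e3c1a658b8dd) (.bf 11 30 (.bf 11 9 (Fq.fr 145 24 11663 14
  0x1c0edbc5b55f945500abb487461fd846dc1a8fc0baa7c2c0) (.bf 12 2 (.bf 8 5 (.bf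
  3 59 (.bf 1 128 (.bf 2 0 (Fq.fr 2 25 75 5
  0x8cc98d57) (Fq.fr 1 24 169 11
  0x2a2e1562501e432da74a4)) (Fq.fr 367 24 35007 16
  0x89f0c662987879778ffc52c6ad5a0f8c9032967cbd824b463da1715cc7f5)) (Fq.fr 49 24 1275 14
  0x8e9497367b42b08fe80ba3251ca6585dfa1b))
  (Fq.fr 20 24 11675 14
  0x15e94e36673ef04bd32b7eee73b169db21bb42f6a14fd3dd)) (Fq.fr 287 24 11679 16
  0x66563959984dc59eccf36a9713a28eb9d2b6d71c7dba758298438c))) (Fq.fr 1723 24 104999 16
  0x55b581533fd218cf483da7d3731e91db1f489c72d3accea4e0c7a50adc8eb6f224c))) (Fq.fr 485 24 10151 17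
  0x22655b8e1f596beaca4652528316c7523a84db312d5ac883a7755b38b)))

/-- a certificate -/
noncomputable def c49 : Hd × Tr :=
  ((308700, [], [(1, 0), (2, 0)]), (.bf 10 15 (.bf 10 8 (Fq.fr 570 25 36475 13
  0x9d4147200bc2e16de6892c8555789bc767915b237aaa0056c) (.bf 11 22 (.bf 11 15 (Fq.fr 959 25 109363 18
  0x3d6e2f04f472424988e179b61dbd6435904c96c2bb3e9458eef332f133499b9e86c5d354f97) (.bf 12 1 (Fq.fr 730 25 36475 17
  0x5417b22c9fccde9fdc62f4dae90d465b34236c938f970e655736038976523cd6) (Fq.fr 71 25 4063 16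
  0x17820debd2beba52221981e7b74b928b8064e3ea0ca48bf5))) (Fq.fr 240 25 36463 18
  0x455bed5c567c551bf4209d28edf89c3a740f8531474e8099ef82b4d223c7f14fcdb3))) (Fq.fr 56 25 36465 18
  0xb5d3f96fe25b1c598461ae5f9644ddf185e29902b1fbb31d51712c302f4429758708)))

/-- a certificate -/
noncomputable def c50 : Hd × Tr :=
  ((296352, [], []), (Fq.fr 0 24 11687 12
  0x51be580b06f8d462dd6bf84bb578c755ae936901))

/-- a certificate -/
noncomputable def c51 : Hd × Tr :=
  ((246960, [], [(1, 0), (2, 0)]), (.bf 11 38 (.bf 12 3 (.bf 8 5 (.bf 3 63 (.bf 3 6 (Fq.fr 92 24 3887 15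
  0x3d3edb825a346a849cfa00ef49a7b19b8be76b31181eb) (.bf 4 15 (.bf 1 256 (.bf 2 64 (.bm 15 1 (.bm 17 0 (.bm 3 1 (.bm 3 0 (Fq.fr 14 24 1277 14
  0x15fa3c1899444e784dfd9fbedf509d915339a) (.bm 5 0 (.bm 6 0 (.bm 7 0 (Fq.fr 1 23 123 11
  0xf5c802a53306905c52f) (Fq.fr 0 23 1251 5
  0xadecb7e1a929f))
  (Fq.fr 43 25 1373 18
  0x96e77230cc7abd71f903395da70c1f9ba788a65573ae242)) (Fq.fr 53 25 1373 17
  0x1d7264505e6b8c5d01a16d7b5687982db2b60fddcc057))) (Fq.fr 17 24 389 14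
  0x15c344d3d0f6c5ff1efb8c7bed9207e)) (Fq.fr 89 24 3901 18
  0x544155423f83b35f174aebcabd6ee3207f7c9902457754425b7953)) (Fq.fr 17 24 257 12
  0x10aa86d5b35f46d0d1c6aaaea)) (Fq.fr 11 24 1321 17
  0x12f50ebbe0a4beec7271091c040386265a0acff49d6a4)) (Fq.fr 87 25 12165 16
  0x1135a554cfb0c8be717a6cc4ad4009f2c67cf93cf4585edeeaf8ce)) (Fq.fr 293 25 36465 15
  0x944ad5a4a3f6957c9b5bf0e644a818ea9c1e8d3a9708880f01bc7667))) (Fq.fr 23277 23 905431 12
  0x1b89df2af530351d145341fba21ca0929b507a082d9ae3362286d9d4922c)) (Fq.fr 364 24 105001 14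
  0x2de7bcfb239793dee4b361936acedbc15f767103e0aabf5b64112d5b4ac)) (Fq.fr 173 25 12165 16
  0xdb79669d05c4f5e3122c3243c35f7ba96a956b7bedbb51aec9f4ea)) (Fq.fr 5169 24 314951 16
  0xdb56735774abb4a0d2c623ab2075a2ef14ec826f6992e0ff92a829f7852aa17159d11324c)))

/-- certificates -/
noncomputable def CL0 : List (Hd × Tr) :=
  [c0, c1, c2, c3, c4, c5, c6, c7, c8, c9, c10, c11, c12, c13, c14, c15, c16, c17, c18, c19, c20, c21, c22, c23, c24,
  c25, c26, c27, c28, c29, c30, c31, c32, c33, c34, c35, c36, c37, c38, c39, c40, c41, c42, c43, c44, c45, c46, c47,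
  c48, c49, c50, c51]

/-- a certificate -/
noncomputable def c52 : Hd × Tr :=
  ((197568, [], [(1, 0), (2, 0)]), (.bf 10 9 (.bf 11 16 (.bf 12 2 (.bf 3 45 (.bf 3 15 (Fq.fr 1018 25 36475 16
  0x2dd0a8820f23440b8377faaa615f4647776db0a9a5e3a1851692d82e2886) (.bf 4 15 (.bf 1 240 (.bf 2 32 (.bm 18 0 (.bm 3 0 (Fq.fr 0 22 1171 7
  0x15648374b0351ecee4)
  (Fq.fr 19 25 4073 16
  0x4ad9fd3170a421c865d2ad0853560547625a1f1fc340c367)) (Fq.fr 25 24 3907 13
  0x3566c19edf2532e4de4a1b9747dcf61bce66646)) (Fq.fr 83 24 35015 12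
  0x91d7370e55b1a321115b4c1d957058da72e09c6c0c798)) (Fq.fr 2 25 1365 15
  0x3c01163a68fadc8196c01e999ac02c99cf1de1d)) (Fq.fr 0 24 944807 11
  0x2d338e871a6bb61b97340c644187a3a49284762ab2bc2e21da4ea40))) (Fq.fr 191 25 36473 14
  0x15e323501b46b434808568a14ec9a1c12ca89a2ca88160e70666)) (Fq.fr 502 25 36473 16
  0x18c66960907e24bfab8702fab37220fb050738c05a576f41a14990275fc85)) (Fq.fr 188 24 11687 15
  0x5348fb99cf78baee9b532d8c6ec11ef0471c84fd44a562b2fc6))
  (Fq.fr 377 25 36427 15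
  0x18d225cb6348919d5290f0afdbaa3dff7263b8c9b19cf0b00cec3086e)))

/-- a certificate -/
noncomputable def c53 : Hd × Tr :=
  ((148176, [], [(1, 0), (2, 0)]), (.bf 11 26 (.bf 11 5 (Fq.fr 21 25 4073 14
  0x4436592f1d572d4d952804bcaa69c28c1190f246a3) (.bf 3 20 (.bf 1 160 (.bf 2 0
  (Fq.fr 6 25 123 8
  0x717c08744c2e7b) (Fq.fr 151 25 36473 13
  0x1c0ed9cdb77b57c98487fc070f0fd9b1cab562702b210244)) (Fq.fr 138 25 36473 16
  0x94fecae294d659377ed93b49105b4c8e3ec0b336e9d8445ce01c9a196ea2)) (Fq.fr 273 25 109373 14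
  0x51b835f1710ad0721f09b1aa9b09f324f6547ecf34069ad8e5b02d8620))) (Fq.fr 75 25 36473 15
  0x86b16626d0f4b03135b699a1f97b30960d3fc81db646d9a975a0c9e1)))

/-- a certificate -/
noncomputable def c54 : Hd × Tr :=
  ((123480, [], [(1, 0), (2, 0)]), (.bf 10 20 (.bf 11 62 (.bf 8 15 (.bf 3 87 (.bf 4 24 (.bf 1 384 (.bf 2 128 (.bm 3 1
  (.bm 3 0 (Fq.fr 7 22 1171 16
  0x88a5117f7f9ba89e1d6c2900d1c0d79111a1dbcc1) (.bf 2 0 (Fq.fr 52 25 1375 11
  0x664a744c70f32ed6d90e2cf2ae23c) (Fq.fr 61 24 11689 14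
  0x243fae5adecbd12d83d30f76cc674a5ff322fc438859f84b))) (Fq.fr 161 23 2903 14
  0x210944954af34d8aca61c20cd49525aba92fbbf76)) (Fq.fr 25 24 1321 13
  0x6d816bfefaaf6292e0053421e720cd65e3)) (Fq.fr 179 23 11193 12
  0x1f39fd5cdc1dcd3b5eea175a50812a046984ae35b)) (Fq.fr 245 24 11679 13
  0x944b6d4fdfbe67f5aeccfd0b227b51fb0684f953194d)) (Fq.fr 985 25 36463 14
  0x2243e166e88330cc1f54c6b1e7cc0aace210a8857cfe8bbcbb1e8)) (Fq.fr 421 24 35003 14
  0x79e7970ceb8420de27b8ea0e2975ffeb69b14b835d27b88a8800a)) (Fq.fr 1107 24 35015 14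
  0x7802d94d0c09c0f9b53e2b3cfbb08eb67575ea8b0cd1c21fe8999)) (Fq.fr 365 23 11157 13
  0x2a4c9b9367ef8b759cab9a98e17d1f298ac62b059b72)))

/-- a certificate -/
noncomputable def c55 : Hd × Tr :=
  ((98784, [], [(1, 0), (2, 0)]), (.bf 10 18 (.bf 11 46 (.bf 12 4 (.bf 3 75 (.bf 4 33 (.bf 1 480 (.bf 2 128 (.bm 15 0
  (.bm 17 0 (.bm 3 1 (.bm 3 0 (Fq.fr 2 21 361 9
  0x160375b9ec25013be3fb) (.bm 4 0 (Fq.fr 81 23 3731 11
  0x34af7e81068224acbb927c164c1cec9ee) (.bm 5 0 (.bm 6 0 (.bm 7 0 (Fq.fr 0 22 383 9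
  0xabc8f81adbd7311f6c6) (Fq.fr 162 24 3913 9
  0x70bbbe51b4adef82b1be82623ea)) (Fq.fr 16 23 1265 13
  0x26eefa2a5856ef5e0959a7246caee2b719)) (Fq.fr 53 24 1255 13
  0x3838ebce52fd99d3a59b8b9281aed8e4dc)))) (Fq.fr 31 23 1265 12
  0xa9af11000007200bfd5d419d42590f5))
  (Fq.fr 3 23 433 9
  0x70fc2af75ef8676e4670)) (Fq.fr 33 24 3911 15
  0x5d2c1992d2398c0aedc86fbba725a49c57c599c3c27db)) (Fq.fr 36 24 11689 15
  0x6773f19ce84f54d77aec995c0e2caf024e5c2d5e6206e543a93)) (Fq.fr 147 24 11679 14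
  0x47d70287c6d332cf813075392739ce4298946d514c39df8)) (Fq.fr 461 24 35015 11
  0x2a14f5140815b1f0d7940dbc6c88134fdb3b902da4)) (Fq.fr 417 25 36473 10
  0x53eb0b3d081503e5de4baac91d193aafe0cef)) (Fq.fr 287 25 36473 15
  0xdab2abdac305f5868a04362743aefb744c9958161f6d1108fe8aa821)) (Fq.fr 7 24 3911 13
  0x1e2682f09595251d3d771d1735baf7e4d08e166)) (Fq.fr 503 23 33513 13
  0x8e047442022660e9f7a9b822a28fe6140d1eb8d9649b668e5)))

/-- a certificate -/
noncomputable def c56 : Hd × Tr :=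
  ((74088, [], [(1, 0), (2, 0)]), (.bf 10 24 (.bf 11 52 (.bf 3 100 (.bf 4 43 (.bf 1 640 (.bf 2 128 (.bm 17 0 (.bm 3 1
  (.bm 3 0 (Fq.fr 6 21 1117 9
  0x8bde9dd326f3eeb9c0fd205) (.bm 4 1 (.bm 4 0 (Fq.fr 1 5 15 4
  0x8283) (.bm 5 1 (.bm 7 1 (.bm 7 0 (Fq.fr 87 22 3551 10
  0x3d5d5b379c845596b103a73caed5f0) (.bm 19 1 (.bm 20 0 (.bf 10 17 (.bf 12 3 (.bf 3 40 (.bf 1 320 (.bf 1 0
  (Fq.fr 0 23 69 3
  0x4ff1e) (.bm 15 0 (.bm 16 0 (.bm 18 0 (.bm 5 0 (Fq.fr 0 25 1331 12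
  0xdcd75ec352f98412197abdbc4e41fc) (Fq.fr 133 21 3397 13
  0xbb526212ad0377ec4966aad214a69bd4536aef)) (Fq.fr 19 21 1143 11
  0x4a5d084f04aa40d2ff9cc90e9987))
  (Fq.fr 13 23 3735 12
  0x1b79eacb1586f04e5a0b0574e2f4c3961b65))
  (Fq.fr 19 24 3869 10
  0x5892eb87dfe6bc938f1c76427a5cd4))) (Fq.fr 277 24 11679 15
  0x1fb037dc8a3fce899c201ed0f0732e563734f3f148007119fbd)) (Fq.fr 0 23 161 5
  0x19154e7806)) (Fq.fr 4 24 413 12
  0x59dc33b1c193f9a83adb297b6e)) (Fq.fr 16 23 3707 13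
  0x75c53e05654ccbe88325eb852f0b3640824ee7)) (Fq.fr 14 24 1277 13
  0x1ba7856de28302f91a5e0dc21959f5805a)) (Fq.fr 1 24 1277 12
  0x7202b81920829d3fb51e1ac957c446d))) (Fq.fr 4 24 413 12
  0x126aa20e44568ce3485d1d3a487))
  (Fq.fr 17 24 351 12
  0x2aec2b54d1bf6eb48025299f4d))) (Fq.fr 2 24 413 12
  0xdbfad30693a0990eca37cec3b5))) (Fq.fr 41 23 1265 8
  0x4c0394390cf690f1b3be3)) (Fq.fr 11 23 1261 9
  0x1a063079174bd4fa460176f4)) (Fq.fr 1 24 457 11
  0x248a1a90e1a1c0da668347fde)) (Fq.fr 59 23 3741 12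
  0x4ce0849a00830cce3e495513ebad54be9070)) (Fq.fr 5499 24 314951 8
  0x3085ab83dcb9c529da16b0f7c88df4e7a81c6))
  (Fq.fr 49 23 3749 8
  0x7e115cb6265f9076f36c8572)) (Fq.fr 13 23 1265 4
  0x253ddbf88b2)) (Fq.fr 197 23 11157 12
  0x1af28e963a6fc58ffe2b4379a4c9c72e7e59e2e11)))

/-- certificates -/
noncomputable def CL1 : List (Hd × Tr) :=
  [c52, c53, c54, c55, c56]

/-- the enumeration -/
theorem lst0 {K : Type} [Group K] [Finite K] (h : In K TAB.He.D TAB.He.RR) :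
    Lst K SV :=
  lst_of_enum (E := E) h ok1 (H940.Eng.D.ords_he base) (fun _ => List.not_mem_nil) List.mem_cons_self (dv_iff.1
  (by decide +kernel)) okB1 (l1 := []) rfl (W := [W0].flatten) (by decide +kernel) <| forall_flatten <|
    fa_cons (fun _ h => ⟨_, okD0, h⟩) <| fa_nil

/-- the heads -/
noncomputable def FL : List Hd :=
  ([CL0, CL1].flatten).map Prod.fst

/-- scripts -/
noncomputable def S0 : List ((ℕ × ℕ) × Ps) :=
  List.flatten [
  Fq.dS 2721 98 261111780259 39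
  0x8a103aa7f684e2068a2bc1c1fd541ee7a75a963b0f48a5739732f46a07b1c054c1c02b7834594520f50b92018155fdae5026f1b8bc8281bd61b1d3626520985c1678ec43b8990ced6cb88159a09cf45fc4fa4290121ab9a9b807a5a11f05fbf8d06c0da3b29ecc5c4f087a1586cf44beb910806aea5a77ebbf2a766a1e4fc6a9f0882aaf43bdd139cb32115f1d27d242afd8cecdb7f6c277b9862596546cceb05dc4de6fb396e291f37697c82b352f80a7c4cac0d67ba3deaf,
  [((979200, 3060), (.br 2 (.kx 35) (.br 1 (.kx 34) (.ky 33))))],
  Fq.dS 4081 119 475538194439 4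
  0x8f518956261745fac4dfa55cbf45bbfefa53869,
  [((979200, 4896), (.br 2 (.kx 35) (.br 1 (.kx 34) (.ky 40)))),
  ((979200, 5100), (.ky 41)),
  ((979200, 5440), (.br 2 (.kx 35) (.br 1 (.kx 34) (.ky 42)))),
  ((979200, 6120), (.br 2 (.kx 35) (.br 1 (.kx 34) (.ky 43)))),
  ((979200, 6528), (.br 2 (.kx 35) (.br 1 (.kx 34) (.ky 44)))),
  ((979200, 6800), (.ky 45)),
  ((979200, 8160), (.br 2 (.kx 35) (.br 1 (.kx 34) (.ky 46)))),
  ((979200, 10200), (.ky 47)),
  ((979200, 10880), (.br 2 (.kx 35) (.br 1 (.kx 34) (.ky 48)))),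
  ((979200, 13056), (.br 2 (.kx 35) (.br 1 (.kx 34) (.ky 49)))),
  ((979200, 13600), (.ky 50)),
  ((979200, 16320), (.br 2 (.kx 35) (.br 1 (.kx 34) (.ky 51)))),
  ((979200, 20400), (.br 2 (.kx 35) (.br 1 (.kx 34) (.ky 52)))),
  ((979200, 27200), (.br 2 (.kx 35) (.br 1 (.kx 34) (.ky 53)))),
  ((979200, 32640), (.br 2 (.kx 35) (.br 1 (.kx 34) (.ky 54)))),
  ((979200, 40800), (.br 2 (.kx 35) (.br 1 (.kx 34) (.ky 55))))]]

/-- scripts -/
noncomputable def S1 : List ((ℕ × ℕ) × Ps) :=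
  [((979200, 54400), (.br 2 (.kx 35) (.br 1 (.kx 34) (.ky 56))))]

theorem okC : ∀ x ∈ FL, ∃ CL, okL TAB.He.D TAB.He.RR P Z CL = true ∧ x ∈ CL.map Prod.fst :=
  fun _ h => ⟨[CL0, CL1].flatten,
    Fq.okL_of 34359738383 50000 (by decide +kernel),
    h⟩

/-- **the list** -/
theorem lst {K : Type} [Group K] [Finite K] (h : In K TAB.He.D TAB.He.RR) :
    Lst K L :=
  lst_of_cert h (lst0 h) (l := E.l) (by decide +kernel) (SG := [1, 2]) (by decide +kernel) okC (SS := [S0,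
  S1].flatten) (by decide +kernel) (by decide +kernel)

end Cfsg.Agent.SM.Sp.NHe
end

-- part: SM/Sp/NRu
section
/-!
# SM (S3570), sporadic socles: Ru (helper26; generated by notes/SM/sp26/gen2.py.txt)
-/

set_option autoImplicit false
set_option Elab.async false

namespace Cfsg.Agent.SM.Sp.NRu

open Cfsg Cfsg.Agent.TAB.Eng Cfsg.Agent.H940.Eng Cfsg.Agent.TH.Spor

/-- local data -/
def loc : List LD :=
  [⟨29, 29, [(2, 1), (7, 1), (29, 1)]⟩, ⟨13, 208, [(2, 4), (3, 1), (13, 1)]⟩, ⟨7, 56, [(2, 3), (3, 1), (7, 1)]⟩]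

/-- the pairs which remain -/
def L : List (ℕ × ℕ) :=
  []

/-- the candidates -/
def SV : List (ℕ × ℕ) :=
  [(12180, 1015)]

/-- the data -/
def E : Ed :=
  ⟨145926144000, [(29, 1), (13, 1), (7, 1), (5, 3), (3, 3), (2, 14)], H940.Eng.D.o_ru, loc, 378, [], [(29, 27), (13,
  19), (7, 11), (3, 3)], [60, 168, 360, 504, 1092, 2520, 5616, 6048, 7800, 9828, 12180, 20160, 29120, 62400, 126000,
  604800, 17971200, 251596800], SV⟩

theorem ok1 : okEd TAB.Ru.D TAB.Ru.RR E = true := by decide +kernel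

/-- the types of prime order -/
def P : List (ℕ × ℕ × ℕ) :=
  [(29, 27, 10063872000), (13, 19, 2806272000), (7, 11, 5211648000), (5, 8, 486420480), (5, 9, 145926144), (3, 3,
  67558400), (2, 1, 1252800), (2, 2, 593775)]

/-- the types -/
def Z : List Ze :=
  [(1, 2, 1252800, [1]), (2, 2, 593775, [2]), (3, 3, 67558400, [3]), (4, 4, 142506000, [2]), (5, 4, 285012000, [2]),
  (6, 4, 38001600, [2]), (7, 4, 19000800, [2]), (8, 5, 486420480, [8]), (9, 5, 145926144, [9]), (10, 6, 3040128000,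
  [3, 2]), (11, 7, 5211648000, [11]), (12, 8, 4560192000, [2]), (13, 8, 2280096000, [2]), (14, 8, 1520064000, [2]),
  (15, 10, 7296307200, [8, 1]), (16, 10, 3648153600, [9, 2]), (17, 12, 12160512000, [3, 2]), (18, 12, 6080256000, [3,
  2]), (19, 13, 2806272000, [19]), (20, 14, 15634944000, [11, 1]), (21, 15, 9728409600, [8, 3]), (22, 16,
  18240768000, [2]), (23, 20, 14592614400, [9, 2]), (24, 20, 7296307200, [9, 2]), (25, 24, 12160512000, [3, 2]), (26,
  26, 8418816000, [19, 1]), (27, 29, 10063872000, [27])]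

theorem okB1 : okB E ⟨29, 29, [(2, 1), (7, 1), (29, 1)]⟩ = true := by decide +kernel

/-- pieces -/
def W0 : List (ℕ × ℕ) :=
  [(12180, 1)]

theorem okD0 : okD E [(29, 1), (13, 1), (7, 1), (5, 3), (3, 3), (2, 14)] W0 = true := by decide +kernel

/-- a certificate -/
noncomputable def c0 : Hd × Tr :=
  ((143769600, [], []), (Fq.fr 54 27 1485 9
  0x716f8322a50364e72dc7f782))

/-- certificates -/
noncomputable def CL0 : List (Hd × Tr) :=
  [c0]

theorem okC0 : okL TAB.Ru.D TAB.Ru.RR P Z CL0 = true := by decide +kernel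

/-- the enumeration -/
theorem lst0 {K : Type} [Group K] [Finite K] (h : In K TAB.Ru.D TAB.Ru.RR) :
    Lst K SV :=
  lst_of_enum (E := E) h ok1 (H940.Eng.D.ords_ru base) (fun _ => List.not_mem_nil) List.mem_cons_self (dv_iff.1
  (by decide +kernel)) okB1 (l1 := []) rfl (W := [W0].flatten) (by decide +kernel) <| forall_flatten <|
    fa_cons (fun _ h => ⟨_, okD0, h⟩) <| fa_nil

/-- the heads -/
def FL : List Hd :=
  [(143769600, [], [])]

/-- scripts -/
noncomputable def S0 : List ((ℕ × ℕ) × Ps) :=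
  [((12180, 1015), (.ky 0))]

theorem okC : ∀ x ∈ FL, ∃ CL, okL TAB.Ru.D TAB.Ru.RR P Z CL = true ∧ x ∈ CL.map Prod.fst := by
  rw [show FL = [CL0.map Prod.fst].flatten by decide +kernel]
  exact forall_flatten <| fa_cons (fun _ h => ⟨_, okC0, h⟩) <| fa_nil

/-- **the list** -/
theorem lst {K : Type} [Group K] [Finite K] (h : In K TAB.Ru.D TAB.Ru.RR) :
    Lst K L :=
  lst_of_cert h (lst0 h) (l := E.l) (by decide +kernel) (SG := []) (by decide +kernel) okC (SS := [S0].flatten)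
  (by decide +kernel) (by decide +kernel)

end Cfsg.Agent.SM.Sp.NRu
end

-- part: SM/Sp/NHN
section
/-!
# SM (S3570), sporadic socles: HN (helper26; generated by notes/SM/sp26/gen2.py.txt)
-/

set_option autoImplicit false
set_option Elab.async false

namespace Cfsg.Agent.SM.Sp.NHN

open Cfsg Cfsg.Agent.TAB.Eng Cfsg.Agent.H940.Eng Cfsg.Agent.TH.Spor

/-- local data -/
def loc : List LD :=
  [⟨19, 19, [(3, 2), (19, 1)]⟩, ⟨11, 44, [(2, 2), (5, 1), (11, 1)]⟩, ⟨7, 2520, [(2, 3), (3, 2), (5, 1), (7, 1)]⟩]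

/-- the pairs which remain -/
def L : List (ℕ × ℕ) :=
  []

/-- the candidates -/
def SV : List (ℕ × ℕ) :=
  [(5515776, 266), (5515776, 532), (5515776, 1596), (5515776, 3192), (5515776, 6384), (5515776, 10773), (5515776,
  229824)]

/-- the data -/
def E : Ed :=
  ⟨273030912000000, [(19, 1), (11, 1), (7, 1), (5, 6), (3, 6), (2, 14)], H940.Eng.D.o_hn, loc, 133, [], [(19, 32),
  (11, 25), (7, 15)], [60, 168, 360, 504, 660, 2520, 3420, 6048, 7920, 20160, 25920, 95040, 126000, 181440, 443520,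
  604800, 1451520, 1814400, 3265920, 5515776, 13685760, 19958400, 44352000, 174182400, 239500800, 898128000], SV⟩

theorem ok1 : okEd TAB.HN.dat TAB.HN.rows E = true := by decide +kernel

/-- the types of prime order -/
def P : List (ℕ × ℕ × ℕ) :=
  [(19, 32, 28740096000000), (11, 25, 12410496000000), (7, 15, 650073600000), (5, 8, 433382400), (5, 9, 546061824),
  (5, 10, 36404121600), (5, 11, 109212364800), (3, 3, 501600000), (3, 4, 9363200000), (2, 1, 1539000), (2, 2,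
  74064375)]

/-- the types -/
def Z : List Ze :=
  [(1, 2, 1539000, [1]), (2, 2, 74064375, [2]), (3, 3, 501600000, [3]), (4, 3, 9363200000, [4]), (5, 4, 17775450000,
  [2]), (6, 4, 47401200000, [1]), (7, 4, 71101800000, [2]), (8, 5, 433382400, [8]), (9, 5, 546061824, [9]), (10, 5,
  36404121600, [10]), (11, 5, 109212364800, [11]), (12, 6, 189604800000, [3, 1]), (13, 6, 474012000000, [3, 2]), (14,
  6, 758419200000, [4, 2]), (15, 7, 650073600000, [15]), (16, 8, 3412886400000, [1]), (17, 8, 4266108000000, [2]),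
  (18, 9, 10112256000000, [4]), (19, 10, 136515456000, [9, 1]), (20, 10, 227525760000, [8, 1]), (21, 10,
  341288640000, [9, 2]), (22, 10, 910103040000, [10, 2]), (23, 10, 2730309120000, [11, 1]), (24, 10, 5460618240000,
  [11, 2]), (25, 11, 12410496000000, [25]), (26, 12, 3792096000000, [3, 1]), (27, 12, 5688144000000, [3, 2]), (28,
  12, 22752576000000, [4, 2]), (29, 14, 9751104000000, [15, 1]), (30, 15, 1516838400000, [8, 3]), (31, 15,
  18202060800000, [10, 4]), (32, 19, 28740096000000, [32]), (33, 20, 6825772800000, [9, 2]), (34, 20, 6825772800000,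
  [8, 1]), (35, 20, 27303091200000, [10, 2]), (36, 21, 13001472000000, [15, 3]), (37, 22, 12410496000000, [25, 1]),
  (38, 25, 21842472960000, [9]), (39, 30, 4550515200000, [8, 3, 1]), (40, 30, 18202060800000, [10, 4, 2]), (41, 35,
  15601766400000, [15, 8]), (42, 40, 13651545600000, [8, 1])]

/-- the prepared lists -/
noncomputable def Qq : List Fq.Lq :=
  [(19, [19, 57, 171],
  Fq.dN 273030912000001 7 0xced836dd50a0af760d56ba75cd5a41be41bc6a501d1e1134f1872d8e2740eddb2b84fe36097c973fb653,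
  [(16384, 1), (729, 1), (15625, 1), (7, 1), (11, 1)]),
  (11, [11, 22, 44, 55, 110, 220],
  Fq.dN 273030912000001 36 0x55835ea19d66984526f97c25f08c63541427db6f57ded55be641d194ea2b10c6c349d92586cec724c935170c43aafd8159a1a2d2a7c4a6ddf33da4b9365da313365ec335b90ea57d9b90f665efe675e613f93df3a6a101ff11b7144032279bf176076ebe16db4631dacc4e9baa5d7202aef64c6d1ea985cabf5c67703dee07cf52f956e9ad46c02d571ac4e5bde68b47551feb973a237d1e61208eb76ef0a6f1cc45ea4c74926f9184644ec0efeec825290f99eaa9a199f7844ffd7de701a9b2a245820fb8dba44c079f3b3a6808c663aab50cba93693d02,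
  [(16384, 7175), (729, 129), (15625, 2049), (7, 1), (19, 1)]),
  (7, [7, 14, 21, 28, 35, 42, 56, 63, 70, 84, 105, 126, 140, 168, 210, 252, 280, 315, 420, 504, 630, 840, 1260, 2520],
  Fq.dN 32763709440000001 283 0x4a405ec82ffbf8ab5919c25c6ea19ccb66770a3431b619e2768fe857548aedd919b4428b57982439f783ee15be374b5c533050115841cf4da5bef7f57fd28d04b5f47bb33a4bd9e8b292a60adab33f5179cbdde6052d6f0d4e1ef7ae6d91c26fab88a4f5d09a8fee43f45ca1b9127b91f28ee6ffbdf6bb73b6ae6f260e705307a2b9f47fd35083b657840e4a262fa8d78521368a15a621a8e024e0b271db4ee6423406b52c92a234ba4f31fd80349294ad09bf9ecd2faf5846d76073e03fa7080b28c08c670f22387725096c9b58589d54c59cccacb9dccdc1dc2607b54f23dc21da38428e5cd8d1865e50c66bd87097a2eed8611277b6ea04a26bcde20c9256689032d65266b001257bd55c83a9d57ac8087857bd43202c65dd8941418d60c586ab39bb5fd10ee7807056ea28f936a5495741f6e1cd34805761424661cb249e8980c8491b913aed7f0875c8ea115b295549d3b83099f0e33b988f4ef7774a926d913f53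48183be5865645dad29f5bd02da9ed6352c547d6edfc706865c0975048ee5683d792260e09b3bac716de72293820868ef1a873f929cf001dfa44d6a182ec70daf9e06a8f37a6d85b65dd8a1c976207bf0fb059f05d79c874d07da9d61dd6d3344cafc5a063d0285f751507fd9ee6f6228eaf0c9a16567b33109725ecce15778e69ab23f0d40f9aa4b6bb2e3355aea9f28bb2debde542a868bdd88bfb8b6b693da727f2a3a4e01ab1c1733ebffd1b771f4ba2504335172957995f63189980f46ba0e66d1e2fd67b56f44211a7363e15aca3074fb2eb8701d3dc73542b84f273b9b365f4f08c6b50832e002ac21c701352909c24bb60716ef51aa75f5726e39aa71417a28fda72974d67914306aab4f40ab967d967748cf8c293c27a6bb7cf2823ef7767d418dc82f3daf4dbbd05e7485c568b694abb9ac7816bc5492c8a8d3ec70afbeb89d8a2084a2dfdf7121e76da5c8a6ad114f6d9f99c1c9fd14321dd97e58c7f6c015f06dc9c17ad2ae4e307ea31e7656cb195dd6ea8b94937bf834cb8d7324079903ac211e11261a616ec963558c5cab11b79e123319ec82f375d369e8b7f18a790f8f08d9ce6e459417d56bc9332f5b6775ff93aba86eea57f9d06f32bcd2dff32c98efd2bb48ac75347c3566e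ffe8f520f3035f43ef9f2541e41747786158866ec3ccb7630032930be645698bcfeb9535b094755ffb0649fe29b61ba76d2e6202fdba3ebfc81d9825e7c52846bccdcc1f6013b613475a940cc872649598f7d9ec4fea53da2d242f5f9d72ace53e722843b736c8f063fd1e8d61509c49dec4b2e19f4f7ea50938e374a18bcd48aebf169e3f72e1c6308c9dd4657ceb347dff9adaabfd58cf603d34cffd1305fcbf6f86a92cdc2e1f8fca65e0a769ee21d6903c5560c1255f17612f5778f1b3cc9256adf6449c5e9993ccb42b5e2d17e9533fbd2e9d9827f5c5a37fb7e041d907d38c194a335fccc53597d6a389800810358928ea3ee609bc0d4d974379ed55384e6b249377fd6fbd3b23d200cc657d4830bcbeaadecfb1719699a60c3dcbff8b181a8540a8008bc18cddb8b279ce413b56ba59c564271ec27004e56d16ce1d198f6a2f7161872ab6072e4da5059533caf02fad2276420a002e7e230c1f2c1efc6d8ad990694691183dfd3d4693d63a4e23eeba7ea2bd4d389eaff9ed17c9bffed5b37a2ee05bb37e2d309254a3c37e0dfe472eb43b0b2d3a9ab61c8722788c474cee464151473099b5201b3486181996ddcf459f1868c73b3c8c968295a5cbad811c2c4c7a6fc1a11fee506df2786255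f17a23d773f310abbcbe0cce2c985234b09d4fd3f00720837e1314a08f97fa73a0fa85a596fc41ab4ab92053fe26a2c76f50ab7745726b84a25c243f40a0e068dbcaa0246871673c4c6c0466c2d045492e89c3fcfd50a210a51992cab2dc73ce0f9ad4a9be7c9665565b2f1bb38ccd52287e274e0da087c61f82ee5e67fc29d5571b81e69961491564b7b69159cc976725923e0a6ef7863d1d4981bd77e8b4dba56061d5a8d917b01025660f918840346cad59d2022de3f0f1a6f5923d88c7163965670bcc9e3b04e70c65804eb1b4245f299996a4d25c7bcf9da65bd940b22e9cd79a60fb1262fb4606e2b8bfa0b73bcbc97eee365384b482aad889612beb0adfd6121c43aaa5c6f733a66d02d4a24f832fa98d7fb15c6873adc92965e69ccb60c40e97557310259234917cf61396dca4fc38cbccded0d9388ac9586fe7b2174975920fdc09fcf65f2a3ee6f43a6614a184733fbc4281f5cd720584cb39bf3089cef59890c69d2b3d0ab38418738baaa39d5b1a9841fc47a08efd6e96188158d73bbb85542555e4840bf21f5765e6c084804305fb7a3c08ea8a63da383d32489e0289d9e17b0096abc81c6668cc300f3624dc3efeb70c86559a3245d84e00cf20eb4cb3e98b30697a00cca0aefdc8273ae4ac16a782be35b7a2ad31e13d1bff3a4b56f4f9311cdd6058a55e8824fa77702787b239515571f03252c57f5574aae9b9dc5e0f8a81eb8971b61348c19239bef182be29a07b9ea6204775f926b836747fa6827947e3c08a99971461ec3fd8856b12a0b8d872f4feee664ef1c535d1e26f512331304aab86157cb1e68f5f498ccbdf4269e45eec294cbaafecccaaff3ce58e0984204236b18de309e41a7787a5cf09bb9595d769be452968be16330a036e49367dff0071a3eadf31b142097706,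
  [(729, 523), (15625, 8197), (11, 1), (19, 1)])]

theorem okQq : Fq.okQs E Qq = true := by decide +kernel

theorem okB1 : okB E ⟨19, 19, [(3, 2), (19, 1)]⟩ = true := by decide +kernel

/-- pieces -/
def W0 : List (ℕ × ℕ) :=
  [(3420, 1), (5515776, 1)]

/-- a certificate -/
noncomputable def c0 : Hd × Tr :=
  ((1026432000000, [], []), (Fq.fr 54 43 2285 9
  0xae2b40efc682f43667eef0692))

/-- a certificate -/
noncomputable def c1 : Hd × Tr :=
  ((513216000000, [], []), (Fq.fr 54 43 2285 9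
  0xae2b40efc682f43667eef0692))

/-- a certificate -/
noncomputable def c2 : Hd × Tr :=
  ((171072000000, [], []), (Fq.fr 54 43 2285 9
  0xae2b40efc682f43667eef0692))

/-- a certificate -/
noncomputable def c3 : Hd × Tr :=
  ((85536000000, [], []), (Fq.fr 54 43 2285 9
  0xae2b40efc682f43667eef0692))

/-- a certificate -/
noncomputable def c4 : Hd × Tr :=
  ((42768000000, [], []), (Fq.fr 54 43 2285 9
  0xae2b40efc682f43667eef0692))

/-- a certificate -/
noncomputable def c5 : Hd × Tr :=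
  ((25344000000, [], []), (Fq.fr 161 43 6563 29
  0x5f9328b1793b47e1d1eb505c9a7607f52375dc524284bd2ff441cd7e2b2162992eadf4dbab45727ecc9b800ca282))

/-- a certificate -/
noncomputable def c6 : Hd × Tr :=
  ((1188000000, [], []), (Fq.fr 247 43 564247 31
  0x137e8d21454c32083dcaad5094b432e704f867bf8aea51ed0627deffca52246829a06009faa9a4aa0199db64c57615a7212eba785390950dc0ab9d09dca7e0a4e7869e27682e128295fc2))

/-- certificates -/
noncomputable def CL0 : List (Hd × Tr) :=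
  [c0, c1, c2, c3, c4, c5, c6]

theorem okDq : okD E [(19, 1), (11, 1), (7, 1), (5, 6), (3, 6), (2, 14)] [W0].flatten = true :=
  Fq.okD_of okQq (by decide +kernel)

/-- the enumeration -/
theorem lst0 {K : Type} [Group K] [Finite K] (h : In K TAB.HN.dat TAB.HN.rows) :
    Lst K SV :=
  lst_of_enum (E := E) h ok1 (H940.Eng.D.ords_hn base) (fun _ => List.not_mem_nil) List.mem_cons_self (dv_iff.1
  (by decide +kernel)) okB1 (l1 := []) rfl (W := [W0].flatten) (by decide +kernel) 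
  fun _ h => ⟨_, okDq, h⟩

/-- the heads -/
noncomputable def FL : List Hd :=
  ([CL0].flatten).map Prod.fst

/-- scripts -/
noncomputable def S0 : List ((ℕ × ℕ) × Ps) :=
  Fq.dS 229825 20 25353268980501 7
  0xce983ad71ad6c5e1757e5414b95c8fbec8598abf10ac57f9dc50d6ce59a47e221c5e8b4daead5a

theorem okC : ∀ x ∈ FL, ∃ CL, okL TAB.HN.dat TAB.HN.rows P Z CL = true ∧ x ∈ CL.map Prod.fst :=
  fun _ h => ⟨[CL0].flatten,
    Fq.okL_of 2199023255567 12000000 (by decide +kernel),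
    h⟩

/-- **the list** -/
theorem lst {K : Type} [Group K] [Finite K] (h : In K TAB.HN.dat TAB.HN.rows) :
    Lst K L :=
  lst_of_cert h (lst0 h) (l := E.l) (by decide +kernel) (SG := []) (by decide +kernel) okC (SS := [S0].flatten)
  (by decide +kernel) (by decide +kernel)

end Cfsg.Agent.SM.Sp.NHN
end

-- part: SM/Sp/NTits
section
/-!
# SM (S3570), sporadic socles: Tits (helper26; generated by notes/SM/sp26/gen2.py.txt)
-/

set_option autoImplicit false
set_option Elab.async false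

namespace Cfsg.Agent.SM.Sp.NTits

open Cfsg Cfsg.Agent.TAB.Eng Cfsg.Agent.H940.Eng Cfsg.Agent.TH.Spor

/-- local data -/
def loc : List LD :=
  [⟨13, 13, [(2, 1), (3, 1), (13, 1)]⟩]

/-- the pairs which remain -/
def L : List (ℕ × ℕ) :=
  []

/-- the candidates -/
noncomputable def SV : List (ℕ × ℕ) :=
  Fq.dP 5201 324547601 31
  0x16769d48e6627fbfc2d96fc76f3fbab5b03f14139fac07e72fff6ac250ba9def1bf1323cfc2af49e120427ac9ab0c228b3a87c5d41d9f99220e0916b2f75c486c9d6195c4e5204f029eaf1cac15860b64d3f7cafa6dd66dd4e7f0a0bc379b0c3c70240cf0432ad4d4492a8c14f0d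

/-- the data -/
noncomputable def E : Ed :=
  ⟨17971200, [(13, 1), (5, 2), (3, 3), (2, 11)], [60, 360, 5616, 7800, 62400, 17971200], loc, 26, [], [(13, 13), (5,
  7), (3, 3)], [60, 360, 5616, 7800, 62400], SV⟩

theorem ok1 : okEd TAB.Sm2.Tits.dat (TAB.Sm2.mkRows TAB.Sm2.Tits.rA TAB.Sm2.Tits.rB) E = true := by decide +kernel

/-- the types of prime order -/
def P : List (ℕ × ℕ × ℕ) :=
  [(13, 13, 2764800), (5, 7, 359424), (3, 3, 166400), (2, 1, 1755), (2, 2, 11700)]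

/-- the types -/
def Z : List Ze :=
  [(1, 2, 1755, [1]), (2, 2, 11700, [2]), (3, 3, 166400, [3]), (4, 4, 93600, [2]), (5, 4, 280800, [2]), (6, 4,
  140400, [1]), (7, 5, 359424, [7]), (8, 6, 1497600, [3, 2]), (9, 8, 1123200, [1]), (10, 8, 2246400, [2]), (11, 10,
  1797120, [7, 1]), (12, 12, 2995200, [3, 2]), (13, 13, 2764800, [13]), (14, 16, 4492800, [1])]

theorem okB1 : okB E ⟨13, 13, [(2, 1), (3, 1), (13, 1)]⟩ = true := by decide +kernel

/-- pieces -/
def W0 : List (ℕ × ℕ) :=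
  [(5616, 1), (7800, 1), (62400, 1)]

theorem okD0 : okD E [(13, 1), (5, 2), (3, 3), (2, 11)] W0 = true := by decide +kernel

/-- a certificate -/
noncomputable def c0 : Hd × Tr :=
  ((460800, [], []), (Fq.fr 0 15 45 1
  0x2c))

/-- a certificate -/
noncomputable def c1 : Hd × Tr :=
  ((345600, [], []), (Fq.fr 2 15 45 5
  0xaf80716))

/-- a certificate -/
noncomputable def c2 : Hd × Tr :=
  ((230400, [], []), (Fq.fr 2 15 45 5
  0xaf80716))

/-- a certificate -/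
noncomputable def c3 : Hd × Tr :=
  ((153600, [], []), (Fq.fr 2 15 45 5
  0xaf80716))

/-- a certificate -/
noncomputable def c4 : Hd × Tr :=
  ((124800, [], []), (Fq.fr 0 15 45 1
  0x2c))

/-- a certificate -/
noncomputable def c5 : Hd × Tr :=
  ((115200, [], []), (Fq.fr 2 15 45 5
  0xaf80716))

/-- a certificate -/
noncomputable def c6 : Hd × Tr :=
  ((86400, [], []), (Fq.fr 0 15 45 1
  0x2c))

/-- a certificate -/
noncomputable def c7 : Hd × Tr :=
  ((76800, [], []), (Fq.fr 0 15 45 1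
  0x2c))

/-- a certificate -/
noncomputable def c8 : Hd × Tr :=
  ((51200, [], []), (Fq.fr 18 15 155 7
  0x3ab25a52c09ea))

/-- a certificate -/
noncomputable def c9 : Hd × Tr :=
  ((276480, [], []), (Fq.fr 2 15 45 5
  0xaf80716))

/-- a certificate -/
noncomputable def c10 : Hd × Tr :=
  ((138240, [], []), (Fq.fr 2 15 45 5
  0xaf80716))

/-- a certificate -/
noncomputable def c11 : Hd × Tr :=
  ((69120, [], []), (Fq.fr 2 15 45 5
  0xaf80716))

/-- a certificate -/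
noncomputable def c12 : Hd × Tr :=
  ((55296, [], []), (Fq.fr 18 14 263 7
  0x201c3da04715e1))

/-- a certificate -/
noncomputable def c13 : Hd × Tr :=
  ((7800, [(1003, 2601)], [(1003, 2601)]), (Fq.fr 0 1004 19077 2
  0x15b09bf5))

/-- a certificate -/
noncomputable def c14 : Hd × Tr :=
  ((172800, [], []), (Fq.fr 0 15 45 1
  0x2c))

/-- a certificate -/
noncomputable def c15 : Hd × Tr :=
  ((43200, [], []), (Fq.fr 2 15 45 5
  0xaf80716))

/-- a certificate -/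
noncomputable def c16 : Hd × Tr :=
  ((34560, [], []), (Fq.fr 2 15 45 5
  0xaf80716))

/-- a certificate -/
noncomputable def c17 : Hd × Tr :=
  ((27648, [], []), (Fq.fr 18 15 281 4
  0xb288ab6a))

/-- a certificate -/
noncomputable def c18 : Hd × Tr :=
  ((62400, [], []), (Fq.fr 11 15 811 11
  0x4e98523135b69eb384440f7a0a8))

/-- certificates -/
noncomputable def CL0 : List (Hd × Tr) :=
  [c0, c1, c2, c3, c4, c5, c6, c7, c8, c9, c10, c11, c12, c13, c14, c15, c16, c17, c18]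

theorem okC0 : okL TAB.Sm2.Tits.dat (TAB.Sm2.mkRows TAB.Sm2.Tits.rA TAB.Sm2.Tits.rB) P Z CL0 = true := by decide +kernel

/-- the enumeration -/
theorem lst0 {K : Type} [Group K] [Finite K] (h : In K TAB.Sm2.Tits.dat (TAB.Sm2.mkRows TAB.Sm2.Tits.rA TAB.Sm2.Tits.rB)) :
    Lst K SV :=
  lst_of_enum (E := E) h ok1 (ords_of base (l := [(2, 11), (3, 3), (5, 2), (13, 1)]) (by decide +kernel)
  (by decide +kernel)) (fun _ => List.not_mem_nil) List.mem_cons_self (dv_iff.1 (by decide +kernel)) okB1 (l1 := [])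
  rfl (W := [W0].flatten) (by decide +kernel) <| forall_flatten <|
    fa_cons (fun _ h => ⟨_, okD0, h⟩) <| fa_nil

/-- the heads -/
def FL : List Hd :=
  [(460800, [], []), (345600, [], []), (230400, [], []), (153600, [], []), (124800, [], []), (115200, [], []),
  (86400, [], []), (76800, [], []), (51200, [], []), (276480, [], []), (138240, [], []), (69120, [], []), (55296, [],
  []), (7800, [(1003, 2601)], [(1003, 2601)]), (172800, [], []), (43200, [], []), (34560, [], []), (27648, [], []),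
  (62400, [], [])]

/-- scripts -/
noncomputable def S0 : List ((ℕ × ℕ) × Ps) :=
  Fq.dS 5201 55 17850118055 31
  0xd19f6cb460863dbfcc6450c0f3b660383027e6789d978ae746b6b5563aae821fa203400b7c317f92a697ea03c2f4689c5f32ee96c135d6226831f0548b6cbc339a3ce3a05ac8e593e45ba59be867b2a5a356be96692891c5ed0da47e05fbe5d3db2acbea83c95685cf121705b13a74bca32503d257e8adde66adfaaab5b37bb2cecde1aa

theorem okC : ∀ x ∈ FL, ∃ CL, okL TAB.Sm2.Tits.dat (TAB.Sm2.mkRows TAB.Sm2.Tits.rA TAB.Sm2.Tits.rB) P Z CL = true ∧ x ∈ CL.map Prod.fst := by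
  rw [show FL = [CL0.map Prod.fst].flatten by decide +kernel]
  exact forall_flatten <| fa_cons (fun _ h => ⟨_, okC0, h⟩) <| fa_nil

/-- **the list** -/
theorem lst {K : Type} [Group K] [Finite K] (h : In K TAB.Sm2.Tits.dat (TAB.Sm2.mkRows TAB.Sm2.Tits.rA TAB.Sm2.Tits.rB)) :
    Lst K L :=
  lst_of_cert h (lst0 h) (l := E.l) (by decide +kernel) (SG := []) (by decide +kernel) okC (SS := [S0].flatten)
  (by decide +kernel) (by decide +kernel)

end Cfsg.Agent.SM.Sp.NTits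
end

-- part: SM/Sp/NCo2
section
/-!
# SM (S3570), sporadic socles: Co2 (helper26; generated by notes/SM/sp26/gen2.py.txt)
-/

set_option autoImplicit false
set_option Elab.async false

namespace Cfsg.Agent.SM.Sp.NCo2

open Cfsg Cfsg.Agent.TAB.Eng Cfsg.Agent.H940.Eng Cfsg.Agent.TH.Spor

/-- local data -/
def loc : List LD :=
  [⟨23, 23, [(11, 1), (23, 1)]⟩, ⟨11, 11, [(2, 1), (5, 1), (11, 1)]⟩, ⟨7, 112, [(2, 4), (3, 1), (7, 1)]⟩]

/-- the pairs which remain -/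
def L : List (ℕ × ℕ) :=
  []

/-- the candidates -/
noncomputable def SV : List (ℕ × ℕ) :=
  Fq.dP 10200961 9161768701010027 134
  0x271b85770c890039467107cf870f6f7c0519087c1bbc82e9f0d7b07bcb1f53e2192727be4d37dc1e250d73b5198c66c0ee7a8226d61cd47946b01e896a04c2dfcee5b58f638e4cdc1a58d663ec0bcedf38fd5339cad62e208597f0e9110f2edd252bc0ae2e1143e5a8fddff645302a3159df2328d430e812c742144a0e44be12d456599fcbf80f5579bb2d22438190e0dac70e03eb60465f4682cb76a52166aaea42605fe6288e852f0bd0945660183d55caf81b8e8836d976e39e678ad20b39cbbc9f68f62d0fb1e5385445ed12e4b925b0aa12e67d2f04adc590a354fcc9d8d39c5b327e356bc73db3475e0f403886827ccffbfa67a84cccc7db60304ba31ee00887cc55129a821f9046f445f6c3a11d02f868bec88ea276acdf94be8be57934f17a8da60aef6045c664a0759f202ffd2f45dabab2ccf221c0ec8b64fb2729509f9aa31571207cf1d8cbe0793f2048e52f98cfe7ddbdc17663a74616c00a506b3e5f29bc7aa7533bb8148e23840e0617b5ed0f694995d054df9843448f796789802910ae0af360bf2e7b286e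1ee81dbe73c4177a8ddc4d68fb2a498b83d47261b66c5eed026feac926735eab4a2860d77b2be42783e8a8fb0a0b66feeee732587ea850f13294feef0fd476deb8cc6a874542d77626b09f280d1765f11a1a5cf7a701c5b7601dc8d07011f7a235e626febe7cd00fa28b3c3e6c90d7281fb1ddeb5855ad8d241388dfe8999f6c815d943f2a3dd0bf630d1bb19fd1ebe5e717d974639d87f053589418f89499ed9a20aa9f49f9be70db0e40ae39a1e9fdcfc298ba78bff832c245b8050cd8b43dddec2c807326037270cd0495d6602649c6088af9accc52d39895202f61147f80f91bb0596f5ddd5af37cfd611abe60c9095e709ca02f75981126c950a8ac367b859a187b94eaac762fb8522dad3a44244cbd2c3486e12f98f19d7597fbf32c111c60ea157eb46dbb5aad6bbaadda170ff091d6cc8b368450695664c71002e07dfb764164d2dd2e415e778f0143266685fab2272d5217bd0c94d423df0f9a627139b1478930bd8f7039f364f3e8f317c95557c4b59f8abba4c86bb08bee94c3150dd4fe795c027e970ab46ba8fda0386dbf3dd37c95ce7ab048e133c91b8528207d5018772e4f9e90d432163c34e94631dd87cd6742ecd1624cc35cd24487c1ecb7422be2044aaf12dd707589214af6dd8adf442a5ecf844d9179591aeafbf55b2c85b9f571068507f305060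

/-- the data -/
noncomputable def E : Ed :=
  ⟨42305421312000, [(23, 1), (11, 1), (7, 1), (5, 3), (3, 6), (2, 18)], H940.Eng.D.o_co2, loc, 23, [], [(23, 50),
  (11, 32), (7, 21)], [60, 168, 360, 504, 660, 2520, 6048, 6072, 7920, 20160, 25920, 95040, 126000, 181440, 443520,
  604800, 1451520, 1814400, 3265920, 10200960, 13685760, 19958400, 44352000, 174182400, 239500800, 244823040,
  898128000, 9196830720], SV⟩

theorem ok1 : okEd TAB.Co2.D (TAB.Sm2.mkRows TAB.Co2.A TAB.Co2.B) E = true := by decide +kernel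

/-- the types of prime order -/
def P : List (ℕ × ℕ × ℕ) :=
  [(23, 50, 3678732288000), (11, 32, 3845947392000), (7, 21, 755453952000), (5, 13, 14101807104), (5, 14,
  70509035520), (3, 4, 90675200), (3, 5, 272025600), (2, 1, 56925), (2, 2, 1024650), (2, 3, 28690200)]

/-- the types -/
def Z : List Ze :=
  [(1, 2, 56925, [1]), (2, 2, 1024650, [2]), (3, 2, 28690200, [3]), (4, 3, 90675200, [4]), (5, 3, 272025600, [5]),
  (6, 4, 13662000, [1]), (7, 4, 344282400, [2]), (8, 4, 573804000, [2]), (9, 4, 860706000, [1]), (10, 4, 6885648000,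
  [2]), (11, 4, 6885648000, [2]), (12, 4, 33051110400, [3]), (13, 5, 14101807104, [13]), (14, 5, 70509035520, [14]),
  (15, 6, 7344691200, [4, 2]), (16, 6, 8160768000, [4, 1]), (17, 6, 9792921600, [5, 1]), (18, 6, 12241152000, [5,
  1]), (19, 6, 73446912000, [5, 2]), (20, 6, 146893824000, [5, 3]), (21, 7, 755453952000, [21]), (22, 8, 55085184000,
  [2]), (23, 8, 55085184000, [1]), (24, 8, 82627776000, [1]), (25, 8, 82627776000, [1]), (26, 8, 165255552000, [2]),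
  (27, 8, 661022208000, [2]), (28, 9, 783433728000, [4]), (29, 10, 352545177600, [13, 2]), (30, 10, 705090355200,
  [14, 1]), (31, 10, 1057635532800, [14, 3]), (32, 11, 3845947392000, [32]), (33, 12, 48964608000, [4, 1]), (34, 12,
  146893824000, [5, 2]), (35, 12, 146893824000, [4, 2]), (36, 12, 146893824000, [5, 1]), (37, 12, 440681472000, [5,
  2]), (38, 12, 440681472000, [4, 1]), (39, 12, 881362944000, [5, 2]), (40, 12, 881362944000, [4, 2]), (41, 14,
  755453952000, [21, 1]), (42, 14, 3021815808000, [21, 2]), (43, 15, 1410180710400, [14, 5]), (44, 15, 2820361420800,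
  [13, 4]), (45, 16, 1322044416000, [1]), (46, 16, 1322044416000, [1]), (47, 18, 2350301184000, [4, 1]), (48, 20,
  2115271065600, [14, 3]), (49, 20, 2115271065600, [13, 2]), (50, 23, 3678732288000, [50]), (51, 24, 1762725888000,
  [5, 1]), (52, 24, 1762725888000, [4, 2]), (53, 28, 1510907904000, [21, 1]), (54, 30, 1410180710400, [14, 5, 1]),
  (55, 30, 2820361420800, [13, 4, 2])]

/-- the prepared lists -/
noncomputable def Qq : List Fq.Lq :=
  [(23, [23, 253],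
  Fq.dN 42305421312001 6 0xc1667e62070ea26f397cff54ad302bdc2cd9780b56aab0eb04d485972cb79a3b744c,
  [(262144, 2049), (729, 1), (125, 1), (7, 1), (11, 1)]),
  (11, [11, 22, 55, 110],
  Fq.dN 42305421312001 30 0x3eff7b5a1e99cdf1e1cdcabdfe59bc8c616c19b42e8ba51d5a1c5e2c6922bb7cd6bbc4db2e65922b3f855cf6ef7264ac0097ecf3a04c21e28f2be158055c49118fc74ebb9dd79a05569d38544a4c5ad662ed0569f605227b3dfd658be5cea03216aeaf6800e244bd350fb645447c5fa092f329d5ff0d4e19e6f557a87309a238bafeff165fc5769597572af112953389329940a16015c43951451fc6fa3dacdc56be7ed0e4ec3c4caa62,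
  [(262144, 1025), (729, 129), (125, 1), (7, 1)]),
  (7, [7, 14, 21, 28, 42, 56, 84, 112, 168, 336],
  Fq.dN 338443370496001 105 0xf23e7af7c9b30ec8ba57c09a2c8f3770efcc2aba9a6bb36f6a54d9f5a824a4ea7913c6f5dfaf2009376f5403341e1a7c6c488227b401dd079b6c08b25b451402824fc20de7beee7df24085f2bbd9b9b8c299569831035bc0839e43befb9e9f1fba5b85a6c8b30d374aa3e0d0472eb08fd357fb3268b490d3d5ab4651af7b9a0d0878c3f494137e814d03c06f0b554de3aca18a3abc37618092d0aa0db762d75f3b0c6c94fc1bcbfd20194455a2924a7656ce46cd23e01f381ce35894ab19941400237b1f1a277ef140244007515c18bc0399a8ff99b0c837b88b727c0efc302ea08c8603b822f32dd007898878df7edd397b4658a9cac1e4f1abb6b292487d866c835d393a81b5314cd0c8532b68080d375b84f4e5bc1dc9298d2f0a92730d26b16952fecf42c4f4a9efe39aae075d8d0f62179b8449d4b6f9bec15709b144119c5188a0a385a9fe2fa238fb9d999ab9d6225221d41b34cdb50b4bba942d393e43f3bdfbdaa738f0eb18d6ae2af72c7d673b2eab32160f907322449cebe2ca55c37a984109849e19156675e91a73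22211aa7fa14075671f34380f0a466cfdd9016eed60f5ed58edc22f98abe68897472f7e5a9df2a785c95ac78b5759a0a11259cdab618f4c86290a219f401db94b2f12868b1dea9eed97071173785115980b986f9df70c2a97602bc04d9d87500def593816e4ec3dcddfe2c170693e5305fe820f6e6eaea54f494fc9a30297364591f4ded0753be4b8604d13bed39cd0c0d2184eea19690c0ef255c8ccd63242d984a44c125f5883e353f8aa56a0f430800b518403a7167ac0950f3bf933b8cd6bdf1515c3a42a16b2de0d57b94d7b1cf7577c144c0221e4fbb84b934b01d6fcc1c1988336d2adfe5f80661c,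
  [(729, 513), (125, 1), (11, 1), (23, 1)])]

theorem okQq : Fq.okQs E Qq = true := by decide +kernel

theorem okB1 : okB E ⟨23, 23, [(11, 1), (23, 1)]⟩ = true := by decide +kernel

/-- pieces -/
def W0 : List (ℕ × ℕ) :=
  [(6072, 1), (6072, 11), (6072, 23), (6072, 253), (10200960, 1), (10200960, 7), (10200960, 11), (10200960, 77),
  (10200960, 23), (10200960, 161), (10200960, 253), (10200960, 1771), (244823040, 1), (244823040, 7), (244823040,
  11)]

/-- pieces -/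
def W1 : List (ℕ × ℕ) :=
  [(244823040, 77), (244823040, 23), (244823040, 161), (244823040, 253), (244823040, 1771)]

/-- a certificate -/
noncomputable def c0 : Hd × Tr :=
  ((20891566080, [], []), (.bf 21 2 (.bf 13 0 (.bf 4 0 (Fq.fr 162 56 9097 14
  0x4453f252e86456aad8413f0149ee40785c91c775564afc) (Fq.fr 213 56 81615 44
  0x10cb371c399057428c03f76a7df5d58cf2be4b69c8f835d653511d4955fe1ce00b8dd0037e84e42ff18eca2b237ed42a0b77b5be5c6aca1f37598cb32d2b531abd1177d1389f013ae9bf1b402f2dd8cd71aec57213a39ce15a53)) (Fq.fr 121 56 9127 48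
  0x328a96ac5775dc847dda490823a9440153300e9ba60c95c32c28620a41f0d0c87a0e1e64f5db2985e112ee6263c74f57248ca8c1d108fe319dbcc9ee6dd79c88d9ce88c5344b69fdf9911ad48205ab)) (Fq.fr 61 56 9127 49
  0x1608c948cbffa2bcb416435442c5b47f9f1df19a937a8578415e271e2f71929de3350b161d9c9e9bbd04d92fed65b05ba6fcd7d08f534ff3d759d9910abe7a13727ab065ac62e57a8fff203d6212e636b)))

/-- a certificate -/
noncomputable def c1 : Hd × Tr :=
  ((23887872000, [], []), (Fq.fr 2 49 145 6
  0x5b687c1e3c3))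

/-- a certificate -/
noncomputable def c2 : Hd × Tr :=
  ((11943936000, [], []), (Fq.fr 2 49 145 6
  0x5b687c1e3c3))

/-- a certificate -/
noncomputable def c3 : Hd × Tr :=
  ((11147673600, [], []), (Fq.fr 2 55 165 9
  0x4e9d442eab3d45f79))

/-- a certificate -/
noncomputable def c4 : Hd × Tr :=
  ((7962624000, [], []), (Fq.fr 2 49 145 6
  0x5b687c1e3c3))

/-- a certificate -/
noncomputable def c5 : Hd × Tr :=
  ((5971968000, [], []), (Fq.fr 2 49 145 6
  0x5b687c1e3c3))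

/-- a certificate -/
noncomputable def c6 : Hd × Tr :=
  ((5573836800, [], []), (Fq.fr 346 56 244899 44
  0xda64bf2558f98e37a0a15cea037108901bec271f7efa6c1a31f69aaecabbce3a3e6743e46cc1f1ee790533e9776bc9922bd9f3b1517abd39c6963a4f97101236967e1ebe3fd1c2602759ee6951793a7bbf4b19e75e20600dc0c158ebe47c1a5cf0d9))

/-- a certificate -/
noncomputable def c7 : Hd × Tr :=
  ((4777574400, [], []), (Fq.fr 2 49 145 6
  0x5b687c1e3c3))

/-- a certificate -/
noncomputable def c8 : Hd × Tr :=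
  ((3981312000, [], []), (Fq.fr 2 49 145 6
  0x5b687c1e3c3))

/-- a certificate -/
noncomputable def c9 : Hd × Tr :=
  ((3715891200, [], []), (Fq.fr 372 56 244899 44
  0x13774ab9d868cf256912383ff38f50807c70cdee15073af7865213d7b284787b8e99420b6ec1f4e30edf54bb3d16e5510d223ce7d77b9ce4d465a47327d4dd0e8516e201e95843ff2f85d21cc0f909d5c427a50bf897239ab173f97b4784b603b7cc3))

/-- a certificate -/
noncomputable def c10 : Hd × Tr :=
  ((2985984000, [], []), (Fq.fr 2 49 145 6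
  0x5b687c1e3c3))

/-- a certificate -/
noncomputable def c11 : Hd × Tr :=
  ((2786918400, [], []), (Fq.fr 402 56 244899 43
  0x69098b8c3da79e92b7eb5ca74f4a57f05806d523db257bcb422393e8696348550e8296056d2aca4d7de6755450025bdc6f2a4f9861fee49b4145668a6021df2ba4d3eb8a00198f8221fb2eaf18dea00b6315e0fb1c0e349a87ca0396f619e4c5))

/-- a certificate -/
noncomputable def c12 : Hd × Tr :=
  ((2654208000, [], []), (Fq.fr 2 49 145 6
  0x5b687c1e3c3))

/-- a certificate -/
noncomputable def c13 : Hd × Tr :=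
  ((2388787200, [], []), (Fq.fr 2 49 145 6
  0x5b687c1e3c3))

/-- a certificate -/
noncomputable def c14 : Hd × Tr :=
  ((1990656000, [], []), (Fq.fr 2 49 145 6
  0x5b687c1e3c3))

/-- a certificate -/
noncomputable def c15 : Hd × Tr :=
  ((1857945600, [], []), (Fq.fr 891 56 81703 39
  0xd04e78d929b5cbe55af7b3df24e7fed8d89756a61a667b0ec541cb4812da4e64346893861c6264fb36c139f90610a6899efde58e9cfca1fd28480f76cd6726f240afa70071852c2f3b06a21c9504b8))

/-- a certificate -/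
noncomputable def c16 : Hd × Tr :=
  ((1592524800, [], []), (Fq.fr 2 49 145 6
  0x5b687c1e3c3))

/-- a certificate -/
noncomputable def c17 : Hd × Tr :=
  ((1492992000, [], []), (Fq.fr 2 49 145 6
  0x5b687c1e3c3))

/-- a certificate -/
noncomputable def c18 : Hd × Tr :=
  ((1393459200, [], []), (.bf 21 1 (Fq.fr 851 56 19840461 47
  0x12b06455b1019865bc885bef271cef702c2753a66087616244f61763abe6f0aaa191b4aa07f77c98cfd0de96aa5fc805772d0b121babcb8f2527a92de8b9761a0e502b2e6bbe51ad24bd460cc88038a45416f9048546d3e793a5deb19ea23723d94d6a22d4fc86619426419c4f65d7b54b874753ea7cbace62b9ffa893373638747d64043b9ca5977bb549693004a) (Fq.fr 1553 56 2204549 45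
  0x2319aa680a95a0ea8a1f6ba300026758d1ab7c98907cf2857aeb4c4c8edbe81d0e3eb13ccd25fd8d6c3e84589c35e7e89530e3625d53a40d2490365d15146e6e8cb6a37e1485be772b59228caedc511cbcd4e8f5c0549298c9e6b5b224c5d89c6f336265454404731b95c530017bec389d96d98de7b95)))

/-- a certificate -/
noncomputable def c19 : Hd × Tr :=
  ((1327104000, [], []), (Fq.fr 2 49 145 6
  0x5b687c1e3c3))

/-- a certificate -/
noncomputable def c20 : Hd × Tr :=
  ((1194393600, [], []), (Fq.fr 2 49 145 6
  0x5b687c1e3c3))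

/-- a certificate -/
noncomputable def c21 : Hd × Tr :=
  ((995328000, [], []), (Fq.fr 2 49 145 6
  0x5b687c1e3c3))

/-- certificates -/
noncomputable def CL0 : List (Hd × Tr) :=
  [c0, c1, c2, c3, c4, c5, c6, c7, c8, c9, c10, c11, c12, c13, c14, c15, c16, c17, c18, c19, c20, c21]

/-- a certificate -/
noncomputable def c22 : Hd × Tr :=
  ((928972800, [], []), (.bf 21 5 (.bf 13 5 (.bf 14 20 (Fq.fr 0 56 6613483 36
  0x141a5b0091122bbadf6b1a0df4c07cb27078a128a7411e44b3c9fc89390dfd5be73f68d573957cbde8ffdde4e4981e9505b33784b99406fbb79c9f6b590e47979707c30e89e7098d59da00f6ca57016387afce03ef392dbf6398ee0de4397a941a0836930917) (Fq.fr 0 56 734883 36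
  0x4a5bd85b17cd338ab5b959d32bc4248df49a349ea01ca7802c8a318f1e908cc7e03db5af4b67dd66289eb85ab93b1032dbd7c3a1882dbcd35893350ca03b7253ca34216f942df1e16bfe083197f0a53f59c62f1b888069f)) (Fq.fr 22143 56 6613479 37
  0xd9e9ceb2db39b2ed82107e4304c6b631fa90098ee1a8ce0af2b9541a3ebe45814f64269ffd02540ef3c653676cdd830834aef601ca2d7e6afa0110a5a4e631e0a741152aee7e6596d577ee9fbc5321be73c520e52de63f6d8e31895298c161b30f4da9097627686e4)) (Fq.fr 1071 56 2204549 43
  0x73eab323f2b13cee8bccbdb1bcae37a4b10ef4caf0f8eca2ad508c95e4b577696104a2527d5040d8b45d9decec61ebd06402eb4d8dd8df9f3b6b45514290537a89d8159c79ce714baa07377568aa3298a541ce0fecd3e2cfecd192a856c2766c0505cc18080e18c6cfc1b0e77360952ecf)))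

/-- a certificate -/
noncomputable def c23 : Hd × Tr :=
  ((796262400, [], []), (Fq.fr 2 49 145 6
  0x5b687c1e3c3))

/-- a certificate -/
noncomputable def c24 : Hd × Tr :=
  ((746496000, [], []), (Fq.fr 2 49 145 6
  0x5b687c1e3c3))

/-- certificates -/
noncomputable def CL1 : List (Hd × Tr) :=
  [c22, c23, c24]

/-- a certificate -/
noncomputable def c25 : Hd × Tr :=
  ((696729600, [], []), (.bf 21 9 (.bf 13 10 (.bf 14 35 (.bf 14 10 (Fq.fr 0 56 6613483 36
  0x141a5b0091122bbadf6b1a0df4c07cb27078a128a7411e44b3c9fc89390dfd5be73f68d573957cbde8ffdde4e4981e9505b33784b99406fbb79c9f6b590e47979707c30e89e7098d59da00f6ca57016387afce03ef392dbf6398ee0de4397a941a0836930917) (.bf 4 123 (.bf 5 213 (.bf 1 2432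
  (.bf 2 1192 (.bm 2 1 (.bm 3 1 (.bf 21 2 (Fq.fr 0 56 734883 36
  0x4a5bd85b17cd338ab5b959d32bc4248df49a349ea01ca7802c8a318f1e908cc7e03db5af4b67dd66289eb85ab93b1032dbd7c3a1882dbcd35893350ca03b7253ca34216f942df1e16bfe083197f0a53f59c62f1b888069f) (Fq.fr 125 56 27269 43
  0xa95c4221802735153f8cccca4099838bb0b72f90bf9d54bac451e836f4d9400b6029ae32e9729f5db1c4d279394d06f19ca84fce17b0a1e7839bd8562939ac41cd26e253e5cd4abd49926810a0bdaf)) (Fq.fr 495 56 734885 45
  0x11beede17ae60138f04244d8dba0e070b8812ee2e0e31a58ca867370cfbbbd43d6a690646e2fc845d76b25fb1f762463aa11cab63004b4d0ebd35cfacd99488ad005bd66c6a7f625e9614c12a19d45114cd1eae0946bd70a4f0605b245feea83a4806cb0a6d477306e893f87430)) (Fq.fr 1401 56 2204549 44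
  0x58de251dfe3db38dbc5207d19c60c5efee63d14721d8253b4c4f60f210fcd6c8c051f4e034122905323376cbdfcd22864ff8c3db71fc33ea7f5a0f23c5b0b6bed9dbed32af03bdabe37842eb01fd009c9e30910e4c074908b5c1318ddbece467ffdc145cd0f197279ef195b1f17f8ca9bc29673)) (Fq.fr 21249 56 178564229 44
  0x7d52dfcf8c4b8339554ae9af4e5ce189fe3eb0b7ea026986b36890077a439d95d8139c2863938d1ed78ae162269c120c8b456f6cde82ed771659bdcca2b694a08d1c40c739cbc16f0c01102f3137f1f30a122ffd744c36c0419392cb85720b6a626b335a045e7358006d0d1f4a32ad55dd463d1128790d0214290f9ef6fb5ffbcadad4c77b600e2ca4285191ed10b88e6809bebc325f0)) (Fq.fr 7218 56 178564227 48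
  0x1d732c3cb306c5f4eef86ab47120e204d197c8782e32c9711aa2b7a391a60474d874f841dedeb0fabdd3cff602ea2a218f52284aa65240a4ad88037431820050c02490f8f4eb428d4f38206827b5253b99d98498af571f69dee03efc80651f51b58715a31343595eaa3113d201b3ca0927a89f42cdc167e0cfd2e5cc5cb0a81c0342c433aff6cb7c317605b21d6d8b3614de2b527d64e7d4c4c9471b255125d8aa487c407)) (Fq.fr 0 56 19840517 38
  0x4935ad9bffeebdaff26b60263d7fb7bbc6a603e69af53d1c1f638f73a04326e2085161147d0fae930e0a8160b8cb58b7121f43639f2718b599dc45d928286dc563e2fcc39daf26ee33e7c10346c7d295ab8c43a05a1e6710f7e8041fa0bd9973b85606738c9ec5bef8c2b981040ccdb727ce27)) (Fq.fr 32911 56 59521443 43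
  0xdc69f0294cc176464ced46eaf69aa2a7fc8a24f7c8b42f5690e85796cac408f3538d0848ae02eeae91d2a64a71d9943846bf7f194349a276e405083014450643af094832e1df47c6eab5fbb1420fda2545befc5a98c3cb659d3e2940ade21bb9d3e5fdff51319c9dd0d546e2caaf6cc00cd5e2df02b9105dfd4cf8fc561de20cc5f875b1c65cc7b69095f))) (Fq.fr 0 56 19840515 36
  0x29e150a99f01ca5f0ebf82d9add8930a01082e1e5f2624cb95ae84f7b71af12a8281072e5a99def0b9764453f13e4722358210cb60247247d73b8d7697d9fba38c9ba55f05b9c5b956e3fca8cdf3fd33885733e3e062b78588bf7cbce7cf6a5726f5da43e0358dfb79457da8cf)) (Fq.fr 1715 56 734883 43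
  0x1e667d064cebee36d9db48667322a9d37f048793586a292dfec53fdf1dbeb5726dcefe73ba14b0445bfb3021b2d8041f5e5d29290d95c6c7f2d9831c24e9c17847198ad46e051342f1fa25aa8982c3a550b5c786b39f148894a44cda569072062f119b5761fb20653)) (Fq.fr 629 56 734885 42
  0x8b100b263b40aab0e905f34b6762b207d1349efc5f4071436354557fb0843acb4220fe2806a885e34a30499e07ae7ea38b0b22fe9255b1ba82fae5d68cf7f4942c7674fda19440aab550d2419e98cdcbddea8fb49bfc814307be5959fbca02b9d7e72e1881ce)))

/-- a certificate -/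
noncomputable def c26 : Hd × Tr :=
  ((663552000, [], []), (Fq.fr 2 49 145 6
  0x5b687c1e3c3))

/-- a certificate -/
noncomputable def c27 : Hd × Tr :=
  ((597196800, [], []), (Fq.fr 2 49 145 6
  0x5b687c1e3c3))

/-- a certificate -/
noncomputable def c28 : Hd × Tr :=
  ((530841600, [], []), (Fq.fr 2 49 145 6
  0x5b687c1e3c3))

/-- a certificate -/
noncomputable def c29 : Hd × Tr :=
  ((497664000, [], []), (Fq.fr 2 49 145 6
  0x5b687c1e3c3))

/-- certificates -/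
noncomputable def CL2 : List (Hd × Tr) :=
  [c25, c26, c27, c28, c29]

/-- a certificate -/
noncomputable def c30 : Hd × Tr :=
  ((464486400, [], []), (.bf 21 10 (.bf 13 10 (.bf 14 45 (.bf 14 15 (Fq.fr 0 56 2204491 36
  0x9a61e3526945fd6c8d4969e7c82b2ef9489de5c17227510fd4834d4805197bfc15d1d7e6254c1025d0078208f3e2bb5c8396c430d2e3e63191c5379397b2d3d5012218e361c7169c833216e76bf0dc5d8f34737c7f5feec0eed2f390eb2c7) (.bf 4 135 (.bf 5 288 (.bf 1 3248 (.bf 2 1648 (.bf 3 358 (.bm 1 1 (.bm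
  3 0 (Fq.fr 541 56 244935 39
  0x13926b5a4eba0b56c9ff27cbf5b3c6c7f31ef88240b8b42695c7458fa0e7d79e398432ec45d490720c820733d0353b212e6b743940f71bf4f61e0919036a3cfc7a9bc51eec65c91376507dbcceeca683061bc19ec48f00c) (.bm 4 1 (.bm 5 1 (.bm 7 1 (.bm 53 0 (.bm 10 1 (.bm 10 0 (Fq.fr 113 56 244935 41
  0x5928e9e60da2e9b839f7273b969f69d3b72cb3801acdf724b4de341b219443e6bb8826a32ad7a1cf64103feed95273f12404690d8df13d205e03ff7e6994443edcbc95ebb9a78f86133fb8af655bba989d73598407639442cdc6de6) (.bf 21 3 (.bf 13 5 (.bf 14 20 (.bm 1 0 (.bm 2 1 (.bm 2 0 (Fq.fr 1841 56 6613483 44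
  0x50749a0d597ea7b6878020bf179973587b8437e3a29a45bacb62f7dd11d822031d49c8049f6278fce412b046f09f1c76235d9a4a3992e80153c6e9cf69699075511adba6d4e4762a135a932204d741c47b3cd029a6124421cf9e8354cf24a0dd0626bd76a0ef53313184345d5a6c413bec5e9b1ff0299039e0c06825) (.bm 3 1 (Fq.fr 11 55 981 33
  0xdeda749e02c581dcbf6c32f0900e6369077b35a7c00e56872d2887071a641bdf33778e5ff2c23a701f) (Fq.fr 19277 56 2204493 43
  0x134e1b027fe5053decaab198c2784ee5b7f53b9911b7339f865ba20bb4c0733fa99b4b98277eceacebd08ccac68ebac335e7cfd4421df9f73cde3cb3cefac1048343755a6cc1a347c3c378e1e7587d4c669fecad40be32c3c0d4b0837a6cf87c24ca1d1bb49081c15bbaf55b50811e94ea))) (Fq.fr 6 56 734827 43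
  0x22820c3d9c02316a396d0fca3a7ea946afeed1df0d523fbb8e16116629f662ce6e73758f87d255fd22a0ffc47476d6b5027e45bf4707b72789470701e61c89117e0ccab758bf47090fb106ffe595340a7855af9992089a29068cd0fd2ec65c79369917069d7ecb0b3)) (Fq.fr 321 56 2204491 42
  0x5faea0fd80e036b0f5a28ed95c26e716c3e253ae7a770bf5eeb1d010624976fab1ec108096ead262ce36bcf1771813f23f566d209e95851d55c2a5e95ad70b17eff9b950d25d95ee7bca1857ac5a5d20df3f79a7ef60b3bd873850ef6f4973474746c6570375be5edb0ec9529114)) (Fq.fr 0 56 734883 36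
  0x4a5bd85b17cd338ab5b959d32bc4248df49a349ea01ca7802c8a318f1e908cc7e03db5af4b67dd66289eb85ab93b1032dbd7c3a1882dbcd35893350ca03b7253ca34216f942df1e16bfe083197f0a53f59c62f1b888069f)) (Fq.fr 0 56 2204547 36
  0x9a8f1786c070629ea33d764d549a439d10f941c2d5d420fbeeeea329b1ad31e698d1c3b9de0f51bb43aec7a8c63714c4b5d400be04d9a84ccde3cd21cec4554e2e55894019cad7de6d83cb43373d7f20b744cf2e99bfac8f4f02ddacefe3f)) (Fq.fr 517 56 81701 43
  0x181daf355d9344936b6de38f7c14cfac6d4dad6eb478716c113bb2229cb4e304b778917977e6aa6578a4a2ce9cd79d9a46a96c03ced4feb911e953f12fd8c0dc46a0d93e4dc7b7a7e112f14d51758966037938e8f8956c9))) (Fq.fr 161 56 6283 42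
  0x3cb4d1e3ff9d122bbee62f9c5d800fd2c8c86db7542de6229c372ef7c291f2139ec5cb1d9b581438a43fc53d00e57e2e04042b7caa2bd8ab7a2b19754043cc110baa9)) (Fq.fr 321 56 81699 43
  0xcda7890f8f8e9aa29c94aea4a64f9f50b61f537d1cfa3aaabcb6bccaf722f0a624dc0171a46c9181a8a393039a497fe796d717c4d05fd770f193273c3f77f1e39bd679b0121328098ae2c394e49dcf9d144ac6c3575785b)) (Fq.fr 295 56 81645 42
  0x85f1d569193e8f60bb8acdd24bb6438d848e71a5e0d6c54405502d648907d8235ab41a7ec44e1533597987390af5fa0456c1194c2d7d39fac556b5636b9b5c43c035a55aff454dc9c39931b6b5f81519b1bd809acef)) (Fq.fr 53 56 3071 7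
  0x21a21df43331b0df9f204)) (Fq.fr 143 56 27207 39
  0x2b8f586cdaab4b9db309a00a6549e0eac8765b84756e0b94741359b435869ddc61123057584f75ee531049be67016477df2f66e7380376086e9b1bb6e05f15a85edea1615b0fe8ce))) (Fq.fr 215 56 244995 42
  0x17446fd3ca62b00b01eabdc067bb576c2a5311cc416744bc1cca2fb532f49d7819ebc46574683ebdbce01237e019f95b00e0d29c0c6d63b26a25a5cad8810a5fcf59c513c7ba8c0260f9999920e314709a047fb6dabf7ddeaf4e5da961b9)) (Fq.fr 68191 56 19840513 43
  0x820bec2461a5e908aa8d72a0d4611f31db916f56913ce812e10f64ad78b757f4c991e95ee0b99038a20c1911d7fb60272cbf5c58d198af1b492e87b23be0239253033f77383a0c38ced04aab67314a7bbcc318ea26015aadd593896ea53fffcdfbcbeb13d24b502c624a596a2c348d381ab8ef2cd46745e972d5d6f90f6b37fdb1f9)) (Fq.fr 97367 56 535692581 42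
  0x67871b954a04915a24c6a1f04dcae1a59f025c74f591d4ed1f7eb8404c8f653c0301294869aef37b684dbcec49289d351c123e191e8f93c27e7498eebec2b09a212988120b9f29ed2564c5e51f12d1700253d2a15d2c54d793042c7d0dd7fbf5fef5f7ae91e97d0946e4b18a0918e4cd2ce16532af1eb975578d7727bbafcb89ffd8393d55cd129b96638ffef56cd6e18a69f02d70e19a38)) (Fq.fr 73401 56 178564227 45
  0x6666035900065ef27e3ca82363411bf1cec455cb4675e2e94e41e5e8ce09448c722427903cb9c90bca82901208d91fc261471324de97cbbe6598d1982d8c1a5b2ea6e90e6a80720a5ed3a0d633443e55d97676a3023e947ecb1a42e71ac7a9af9d6b3b6ee0358b73f354985a98825bf8c0382abfb20dfaa4b47cbb607fc5f63015012ef8ff3de6c99af240b40b7f44ba59b9d2d272fe2d5cc428)) (Fq.fr 0 56 2204549 38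
  0x3145baabc9ecba416dc0254d0f469dd22e1b5eb7d581452fcfc1d63d37429c83db1b42d1aae61bd1f8229906d629124ed0d4ad1e70f9c43967473e93ad0201400d7ee77147c16e0164424cbb6c5577537939b98ffcdb875247b6e681fc0825a05fdbb867)) (Fq.fr 6107 56 2204547 39
  0xbd9885d1d458247d81b71b4650e6dfd955529c8d8eeca957039cdaffa5607588b3759128618f02494f390060bc5a5254e30b072365a0ad86a96582375624ab3733571270b630bfa8c1e057e98482c7a28cd3a1b633ec13794f3413846546b4a49cd15f00b0c1c))) (Fq.fr 0 56 734883 36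
  0x4a5bd85b17cd338ab5b959d32bc4248df49a349ea01ca7802c8a318f1e908cc7e03db5af4b67dd66289eb85ab93b1032dbd7c3a1882dbcd35893350ca03b7253ca34216f942df1e16bfe083197f0a53f59c62f1b888069f)) (Fq.fr 819 56 244935 37
  0xe462decfe7623487850c1c4951309ae028d68b6641030302f98b875f0b70d992ef06239da9c53edddaa3920815ebbdf755312687876fded6f686c3daee5e3d777ed0e717e8058a27f6b3aa11fce46e552cdf4)) (Fq.fr 523 56 244997 39
  0x71c57efcd93d5d38e713e5ca4db543739bbdde734115f37298172037a59a0291f6bec60351b5e6c8dcc758fae68cb19d0f0360264887266009865913774467a96de48aa192326da96a8e816f340dbff71b872fe222cae8)))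

/-- certificates -/
noncomputable def CL3 : List (Hd × Tr) :=
  [c30]

/-- a certificate -/
noncomputable def c31 : Hd × Tr :=
  ((398131200, [], []), (Fq.fr 2 49 145 6
  0x5b687c1e3c3))

/-- a certificate -/
noncomputable def c32 : Hd × Tr :=
  ((373248000, [], []), (Fq.fr 2 49 145 6
  0x5b687c1e3c3))

/-- a certificate -/
noncomputable def c33 : Hd × Tr :=
  ((298598400, [], []), (Fq.fr 2 49 145 6
  0x5b687c1e3c3))

/-- a certificate -/
noncomputable def c34 : Hd × Tr :=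
  ((248832000, [], []), (Fq.fr 2 49 145 6
  0x5b687c1e3c3))

/-- a certificate -/
noncomputable def c35 : Hd × Tr :=
  ((199065600, [], []), (Fq.fr 2 49 145 6
  0x5b687c1e3c3))

/-- certificates -/
noncomputable def CL4 : List (Hd × Tr) :=
  [c31, c32, c33, c34, c35]

/-- a certificate -/
noncomputable def c36 : Hd × Tr :=
  ((174182400, [], []), (.bf 21 8 (.bf 13 20 (.bf 14 50 (.bf 4 228 (.bf 5 438 (.bf 1 6784 (.bf 2 3072 (.bf 3 640 (.bm
  1 1 (.bm 2 2 (.bm 3 2 (.bm 5 1 (.bm 6 1 (.bm 7 1 (.bm 8 1 (.bm 9 1 (.bm 1175 17773 (Fq.fr 0 1176 3379 2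
  0x79448e) (.bm 1243 288 (Fq.fr 150778 1244 321300725545 42
  0x2be21b749f2cbe5cd940328a0066cb10c0e6f70c6c90f785ad305515d755124db592ea36ea9989a2a4a868c9a06de3cd19c58a936e7fd05e81657d6eed2be81a15cb72a0852c969070f9a50c4fe0e143aa98d22d6bfd2e400c7efbfc9cd4d6a38e4dbf54438068886cefbdbcb1f13b8abc152b79ad3b994c7703c559272382f2c64a2a17792ba6fd96bbc09aa64b1025948b005ecec41c67a23b844edbd5b91e27833de09fb5fb4b2fc600794cd008145b5a743ba23fb4f4473a33376c2aabf83cb4e294c134dc48cf) (.bf 21 1 (.bf 5 309 (.bf 1 6144 (.bf 2 2464 (.bm 3 1 (.bm 6 0 (.bm 9 0 (.bm 10 1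
  (.bm 10 0 (Fq.fr 284 52 25231 38
  0xcbbcb103403dc75636b37607d6619145f9d63c0bb5c1a40a109637bcdc1cad21f083ebd084e055c716b43a90a55f9920da57c2ff2b964ad19f2901c468b51e63ad068892cba) (.bf 14 20 (.bf 2 2144 (.bm 3 0 (Fq.fr 453 55 80139 38
  0x82876a0b131386e99a752c154b976ccc30a19f5d97a7d60a4d912cdd92b7042d691fb9757f7f788b406e4ff0896bc1ef092383d574eda2e9db1bd8db51aa381b7b8fc2304c8a043a65321155f82) (.bm 53 0 (.bm 11 1 (.bm 13 0 (.bm 1002
  31205 (.bm 1025 253252 (.bm 1025 22318 (Fq.fr 24042052 1026 2384960530285 43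
  0x1065c620d3b2a4e05ff6f275c18e6d0682ca3755ba7c163a0263de548347926a0f952829b50a8f7454601098841eee76ca01f74d4644fba86d6417e01d09e3f27470d88cb88fa2c982d059f8f2af3a8464e8ce8913a00eaccfc3984ccc76e8265c607881b6ff545b1b6973498832770366d95118628993a9877769015569fe12a4b1ae58f48cf5764c15c4b524c75584ead03714486e00a1a21d034ba5d06a6e5fd7aef41a030e1c5734a183516cfe7900acafc15e9a364869c5cb765eee8b6efcb9542bb98b599af8b3c94aad677dbec131221615c3c0adb68f17af1c8) (.bm 1243 129534 (.bm 1243 504 (Fq.fr 13169 1244 107100241849 42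
  0x765eff0cdcb17108a5a4f7fc57163e0f40e6b698407f17dc475a7352967ee96ae16d828dfc867e99e0964330369a6137b69dc00ec5ddc2ea847dffd3afc9a3e3601b09830a87d012c1338817658c2155f59b1b6f636e57cd5e6d8b90d06117e4ed9900bd67ecd0bbe1e4c8d9abf33e043e761ba4ff3bc59ddaf3e60fa8fbd9b7bbb38fb05e75444ced3a4a7d65137135cb53c8d2f1bdf73c8614da1a9448a8e8ffb2492eb601ded9c1c64fbbd1364676d1627e161a24e860593d9ce31c4355264) (.bm 2701 1900 (Fq.fr 0 2702 6649 2
  0x224443a) (.bm 5096 10744 (.bm 5096 2629 (Fq.fr 209386 5097 16252528663 42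
  0x18e4bb4b7448619dc75186b9c5780f989939d0ae6df093303c79b16a57743e9b74a8d2f9c63c6825b0f5d235c79df7f3c2418f453f0bdf917f28dcd369b7d82b60703043f9e60cc16750203d504d7e19bdcb3ef719489ad7b56bad6cc54aa0dec0a19e5ad1be2a20608fd3dae8d931ce93f22862c990a97ccd3efabe12d27756268b5951beed92571a28c54ae4d5b19fdfcc2a5b8704a3ecd981f0cce90fa7280523a67d01225e99d1684e70025f462ef4b3b) (.bf 14 0 (Fq.fr 198 1176 15432649 43
  0x70cf2f145647a8dd7bc60d228113e90a21a013164ea4d8909ff0cabbdce2a0f13f092aed8ee95666d637761bf83fdc608487c4162e58c1c79661393e4c8a8305f4e3dcce462d4090903485e5964a0cd297f3e6a9360d6d36a0e63626178f2c38b3310790425cbdf113ed06d098517e67a0fff638ab12ef5eb29ee70c964074208) (.bf 5 264 (.bf 1 5696 (.bf 2 1888 (.bm 1 0 (.bm 2 1 (.bm 7 0 (.bm 52 0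
  (.bm 12 1 (.bm 14 0 (.bm 15 0 (.bm 16 0 (.bm 1002 30511 (.bm 1002 9294 (Fq.fr 0 1003 6994489508407 48
  0x117f615b78b4a84d0d842c06d7f93176eeec4bb8de9f7bf9bceb8a269ced1d6005f0f4cc196fd51b2c5edc5685d4c7ea12c922a03b4ebd435700f1172a66e54a89533aba4354b49a6b8b94ce927f82728c227ea1811034bb006c95c91cd123b6096bf33828224e07cd0691071606f672879b973090ef3f046754e9fc50f5f0c8cce3c02ce197d9d23f17f3f7aef5bbf8e2b226e70ce2646e6e3e2bbec5b1206caaae7f169b00a2332329347bc6af15ed0ab6d3ad49404d9c7fcee3e639795cad79baf00392dbf394bd7bc1d63645d82d3e105ae40636035ce95d9f85c9954409cc74faa92add3c4341f18abe80baf57b7ecea3885b5dcf3b8745ce98fb19fd489) (.bm 1003 10744 (Fq.fr 0 1004 21004389231625 46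
  0xd97c6efa9a09c63248129212c63066e4e4f5607e625ab018348b833f74eebf47ecf7bec981959bd7d16b4296bc6cdcf148575db267b6aacc9ab588170b843ff723386d215948775cb6b05fa6bfd7e02230f9759f1cddc3a1ea00eb44b714093e83db664ba86f9bdc1a860622de207ef6c6846b01e5de668d725b18d58e566ea156af10bdabdef91edf7952093e85de8b0e48f8b8cc6be5fce128f45782929187674475eba607e60f93dae9143f9c970032535c1417ce8e91bdb15fdb7e653c1ecea369770c0aecc24aed8487330fcbef8c1becadc987e92b8ece10b8cb082eb610583bb732ebc72554e7e03ad85f25ee7a15fc219072d0c28c76073b2a5bb) (.bm 1025 153325 (.bm 1025 58060 (Fq.fr 0 1026 2053 1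
  0x803) (.bm 1243 78343 (.bm
  5096 9114 (.bm 5096 4432 (Fq.fr 0 5097 16252528663 45
  0x544ddc5548748aed196e37fc30f1e12e4de86fbddafdd03e9c71e00e9fd20705d94240cf7e0a8e04982e4b37c6352f8877f6bfb9ef9a734ceffc8f8b34f9e30d83c5635282dee92e8e9a8e5534a83d50d81b20024f7ad11c3ebc3f8466d3c829ccea51f43585062ccf08753028b9b7ab5049507d65dbb1435d531e3ccdb10fbd22be40e22c32dfec3c171dc0e5c043e758e684aff54c9bc3048041ea5352a2b3813d28f8e76c656b0df12a0ca4e4c5eae31e163609df78b29b2bac75e250b0) (.bm 29672 2169 (.bf 14 10 (.bm 54 0 (.bm 17 0 (.bm 18 0 (.bm 19 0 (.bm 20 0 (.bm 21 0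
  (.bm 1003 21084 (Fq.fr 3061785 1004 7001463077209 47
  0x2e1e885b0c3e911b1f48b7e3a26607a823d03b3ce984a23a57cc4ff1cee9275133fce02b9d2d81034dbcb539a27fa617ba6307d0d5ae23485760cb1738fdbfb60bccdbb14bc8c47e079efd07a81b2fe05300d80ec72d6d444a7c31c09c507d456f3c37eb74dc3b94458eeca8781c04dc641aaac19090bd7813ef680f4956bec1f07652d8c7eabe613bfbeee421f95c8e3fb7b1de9c0931fe1f66ac31176cb117c1883f07cd68b10dd13f369e0da763af7818f363d3896138457b6ea409c7b5e17f054a9db76a01c2f0070194e582d45ec37546cd733088d4b6f09953f249d6a4bb7c9581965c5d66ce9a30e87c0faf23590481ef9dca62f750769a) (.bm 1025 149095 (.bm 1025 107520 (Fq.fr 0 1026 21464644772557 45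
  0x1e31ed0cf92411faa533bbe9d466f01b5f7d101f0aa6fe6c9b79a3ad04eca6eb4139577f6292a48db2ce53998ef7c9bce3a7375e962aa80094178f7bc8e7c1aaa38139a49cca8ccfc27f7e36bec84c7a59d0976fa47650e4f0301f35a0765f1607c21b5222f684fd6b885d8d522bae9ad876cbe0f63654ae3c5294a8aecf81b7296842a748d713e25d965f16be43ab298fe160b82af965c3a54e19d6e6b7fcfaad803eab2306fccea8d1203ac66c054e1c6eb063086187019307b0400adae0a277629b01e1afda87f1f044e01248c95ca1cfd18f0ba80df0fdb3cd5fa51f85b18e6f5982f80077e6db2583b5d467e1381506cb9354e42658d38) (.bm 1175 33133 (Fq.fr 0 1176 3379 2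
  0x79448e) (.bm 1243 66708 (.bm 1243 15447 (Fq.fr 0 1244 107100241849 45
  0x1c01a41b980f5d5687e2f34e52a2a92e3b418360a844c6e9a1ab7cc1f719b1a656cc6fa85a20dbf08caa460ecba500961836e32cc8409663a9e2996b9727dbe07b69c19aada53ec8ea92d771e0dd1e84d1381142f69caacee5d4be770a6e6c51130f70f6610e0ddb3f97c0288f7bcef248087d5fd881ddcc43218d19f28b2cd3e5741c9d12b7534cbfe801988d37c11ef11b42b0db641d90b1901624c51e1f7fc2a75470065f09014c90a000bf1814fcd161423eaf805e53b82f354a2327549a6df698487cf958d5c3359e46f5063) (.bm 2701 11358 (.bm 2701 4035 (Fq.fr 0 2702 6649 2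
  0x224443a) (.bm 5096 6677
  (Fq.fr 1377719 5097 146272757959 47
  0x957d3918df511f0ff98c4592446b224c370d1ba0ad741fbad6abd7f5006d6e6451f789cd589438f480b3ea5691c04da654d04de7c8aaabbe0ebcfa0c9098c78d774669ae43967bde909cb0f981317fed022b6d0715a00b7c16d412933b7fea52681ea79733545d85503b7359cb06e8595fe5242c86f4ab936cbb243b9c346aeae2eb6917608c59f89be9e7da19be7c8588a0b6ee1d3966ba524ac3553157733a5c2af89f9ba4f264c0b77da25099bf811e62fb2a18576285f591168d9581b2691534fb5240761530d646eeadde6488e161124f7661ece0db98cd) (.bf 14 5 (Fq.fr 0 1176 3529 1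
  0xdc7) (.bf 13 10 (.bf 13 5 (Fq.fr 37664 56 6613479 42
  0x32258d598675ddf60bca84f92c4b7e24c9f931b56c1371225911a6933feeabfb4409180fbda7e68075ad5e3c9c3d4b6633359786ad3b801d5dadb15b0709cc7304f85a0697a0156dcfcb87a7bebf322ff55285a4a8b26ed7b24b4db27d8ce3dcfe477fbc45b062fc376b1cc62e9e0ff1e8d8bbdf9dd1b) (.bf 4 36 (Fq.fr 2623 54 236157 44
  0xa7625babe4920e211a7282e94ef43917c3a6a26a5157fe038f445f9db6d6515fee607070a64dced00dba7a333f63ed2146992464c8f07cd3f624975742ded3208e37194d1ffe4640611193b5c32b887b8655d6ef02a27a70a2c023170fe372d6c707) (Fq.fr 14761 56 19840459 42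
  0x17de0c3fb76f349c8579c1d58b3bc2166d16d98762aef8906e3ddbe3df5f0f8898539a976b2884c1f9351915e200de70081f7ec3e85f69d789f79562710441060a6e9134b03cfc6626cb1cfd6c68536c7a3a12e5724bb7971cdfc1b43bad34478d566bc00e3cc6743e3659de66de85c39e397dc63f6a9c2539ed02c139575f)))
  (Fq.fr 0 1026 2053 1
  0x803))))) (Fq.fr 0 2702 8107 2
  0x3eaac4c))) (Fq.fr 9926529 1244 321300726789 47
  0x17f0458b1a86712ddd1ac1e7651f54702099b985e43cea659c7fe2b2ba3749850f9b693fa4d71744ce21d2376646151145de2a358193d7f4e20ab4dd09c718e7a6880977c588938e5221de686b11aa1e2c3bde0e7ea2e508fcd98334801575fe03dcc075433b85f6246acf70b40e8e7c5e2a62b4073dc3f5a70f07a58b3003dcb2a754045cd5b09b99327016d328f30c5d746071243671abb0612d010b241f32770878e20de7dbce498ad74744525b28b48bc6399846a9e4229ce92582bdccc86e818006b76f89d8f37dc8176e61afd63e8a251fdfc5ad76dd0c47224087bfb5c5)))) (Fq.fr 49341288 1026 7154881591879 46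
  0x13a14a770bd998bec2e4b77435f3e9926a3dc5bec754d811b91f4626f66083a7e44239a5e681a4c1c9dec94310751347823a04073128ccf04d25c22a333759da1905b33edc2c23bdccdd028a59098614e54b6286ab3c5047ccaeb6be162e62f155fc5c5874adf24690e5278bddeb0bc52758ff127c2c7eb25bcce71d1c3dc51f59a7fd6bdf1fcc5b1967bbe0efe00b058056e30c05be56f764cd8e80702ba8fedbf6e3da6c302f1ec6d16fa634b203cc6b23e639699ed763b5d589843701f13d68bc6960d3f17e15bfc19542a94f2134defdb67a4b9e98bf69f0a2c9d35ac28db1b67ee51efef417fe8c27b93bc7e7dbe383c574fe1a))) (Fq.fr 697 53 77271 46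
  0x268b42293e919241451c7b82e371c7fc09002d69eb6017f52bc6a482fe1fe6088d9ffede04175f6300d5b2dd81ae69c2556587f9d65d87f34f7c3096f7fab1df17a8064c5c19c2d710f903f7766b65c1701a9fa774acd6fc849c5c2cb9b)) (Fq.fr 82 56 81697 44
  0x1bd87f00c1b49a45a2202bb178955d860a250c25e8b1594be3bee942ddd634454f4e50d5e8c3aa09f0a955eb88b984f839154d2394e20b6c61993fc5b822360b40c173154e9e09f8b98e7bedacffbf084216d7f40272be18897a)) (Fq.fr 125 56 27263 47
  0xd4b0567c3739d0f89264ea5dfa00ff81b1e5200cb1231e584be13d51a9b1a439dd7a3963c8a54dcd6b3b3bdc6f195e9c09119bcf8feb9047cb41d2d9cee774729e408258d0f9579bb8cc662312ce4ea5d4f80764cc8a4)) (Fq.fr 628 54 78783 45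
  0x3c7953be67fc52dd6ce1b6531555d0a7f150f0860202c43c48c6496ca8a1efe4b277b11048cd6f0f980a734132223fe37e7cdaa1c2b096d0bd2f9df8860826cfdcb29189c1bf5b3597be30874219229f179ece7473c0ae5a1b42c2c)) (Fq.fr 54 55 3021 17
  0x16e808928596839291f9db46f9ec82ed177edbbd99b27a5182)) (Fq.fr 0 55 8965 15
  0x1eefbcfb2566812e8f564afb00cc0672fec47ed68914d71599)) (Fq.fr 273 53 25751 43
  0x22ea2513f114895b29bcfafbfd0c96e84a1dc8184af09bdcd75b198fb1f610e497f0ef69a07f429999df13326063eeb7622af864c86c48c94494c1058cf1c71ce00ab3ebca60c64643eb5a3c4af7d)) (Fq.fr 0 29673 89019 2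
  0x1d853a6af))) (Fq.fr 916996 5097 48757591083 47
  0x1a8cecde1f15ab17172002e8c69fcc791122581b06d6ad7deff68bf87267fdd302d858acdb27735d58b1c925b3231b304575bbf62952db79b1bf62a607f5a74da62ea1d719d2119d370b40f7671415e75497d5ab5b3a82e95d55df8acae4e5b6137772485b542f74f1836a4cfeeb1d4032b29753e607bfcc7738287a16ba54e9377f13944cd2ca747285b717703971aa2b6b61448bd1fb83961945fa015781e6679e4a3d15825ab5548142d926e2ed5f185de3df84ae6d1329d296622efec999ce7785ca09bfe0da1f007a29f1b1adbfe1)) (Fq.fr 6064843 1244 321300726789 47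
  0x17f0458b1a837a41c9f5a321d3a4416ec452cb3b7e118e878bf028181bf72cc5935f952d4dbc447144264cec91769f596b71af34756cb95f6ccab2d5f6cdcd09a3fba3cc0164efcb8390fdedecdfe7e0c5125d36f5581849b347e6105567db329c94b751db47bfe495b104c115a2427ec96435180a36f64b60d31900441b4d78185155488d835a24b32a33cc41a70259e12d3267ecbf5359525773f640abcf2f7429c439092ca012b14e03efc9f0fe94697132f3e629d7f1169475da272818961807ca4e83a1a958e59e5d2b0d73ef91e9fc7d6059c5d4c41dc05b062d0633913c)))
  (Fq.fr 13323647 1026 794986844455 45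
  0x7b52c28f1fab81e4d91ebd4d0d882f56f1c11a44cf8e36737db57f9dffadd017563bd1585000bd3adca21a9508c69f5da9947f9af113134c79acb5ec50da8b8fda399e862405a2b9c7c42dcf51199d55e469287f64e9a73cb4f69f93bb98576002ee657442e1507c3e05f16e885aeb8cc4483f187724aff3a9efed1b5a00ebaa0766d6fafe65b410ab42e4a28f8c7fd7cac592cac0f339ff23a36c18945dde911bf90ec7f6f3830b364df874a876da21ebe379e469cb6be80634431f2f7b8de35cb9ff74487074f3bd8e762c3ce1b041f5e20e77b6dc3912e487fddaf4505)))) (Fq.fr 29939196 1003 20983468526221 46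
  0xcfbddca91d2fd458d904d308ff278265af31e564b501c808d51fe58505dbf1b109638c6cb101a1119476fc6c61025fd172932386aef7658f4b847f5e5a3b480cde27e72feb8bb27bc1b309bf4e2512b29a8d2a51b0cdfe538dcba18607f91c2cf30bac50b48476c946c3e2c2c6a64c3afce13d396f2a1e0251a945ba71f93b42c632254c50c6fc625123ceb1af6ff854405771df32c7e939e1bc6df3082266702f27c004564af08f2392ffa1e901d35cb02c3bf7a14da7370f0bcaf7a4c2bd86ab64b16d0e0f92e62a2157eae8b74939f3a67496a769e58b6823b4953e0bf157d6f46e2b4b46b56eedb85b96e0fdbfb2ddd3d2f7b977fba822a26f3cef5fd)) (Fq.fr 0 52 157 7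
  0x66ffb95ad28a6)) (Fq.fr 0 54 78725 43
  0x5449c092650c80441fd2b3b3b15b0e4f21bdfcef2756ccf11e68670c91c5c238ecf03e3865db39604837ed0f0d4ea1b1635eb9b9f0eb367dd36034cada4e5eb6094b92a96889d968a8af1fb717fdd057fac8bb032e992cd)) (Fq.fr 162 54 8741 15
  0xa7f0b756cae827060c2ecfe8273a17387929195780438ebe2)) (Fq.fr 544 56 81701 44
  0xd4c4fc9f85d66f6b1944c8d81074318d87352d0ba3a3634ca305b4007342f51cce62a36ff113fe0ebfbd5317709b58e1f52d384eff61cec28c159117829c5295c671c41d5e6aefa00c1908921133e7a3546c418d4407bde30a5)) (Fq.fr 627 56 244997 42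
  0x4aae4441d4eb5659bfe73fb378d7f44c67114a16b9e286eec2f20aceb4aafe96c9a2c8de621f361966dc9a1d838acb115df8ee233f98974f12ef0ba8579d6d16e1d23580059012e7454145c5f19591d13509063f7045d2a667b9a64c96aa))
  (Fq.fr 367 54 26291 42
  0xe9b86ee052049d0a6cde2a844d8fffdb5d51e2779b65538e9a16c24d50b13dbc1317b0a8757ca5d15e07436a04f8f64aebf1b451574145af624afd8ab45edcdbddb39e5705c1b2d6a11f0787f3)) (Fq.fr 1501 54 236249 42
  0xf178d49bc2dd051904bac7dab67b160e188bef275c57df3241f08bae6d906a6f3b48653b77248bb2994e819021364c210b9c5fbcbfa9e80ecd05058a48a9a7997c1180dbf8fb6f919e29be939f93045b7787157567089595db3d4f896d7)) (Fq.fr 133 56 244991 41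
  0x18eff14ac8555cf1890db16b25984703e707fd8927c2ad50ede5d39e1bb81fcdec4add51bd79dfae1dce62f4ef35f76715d8402a810718b4c54ffcbd2db049efc45cd8dc206aff71fb2b68bea987a910d62912e1f3d7849bfb400aa2)) (Fq.fr 25195 56 19840517 44
  0xa1c96ef90104b9b0838ac1d45f3ff1d3d5e0884aa35bc8767ee4ed682ed260e67aeb3db8725b0e75f04701e95cb9d1964c51ae67a568f6257c92013adeb9eb9d3c7813b749db94c9da477da7d3681ba5c4153d6c4a5fd2f9a9f166c5d035ebaf07ea8264bb3aaa425f0c0cfe0564e0d7f71da3e0e575d40dc09a5d563487d2e0d836515b88)) (Fq.fr 2510 56 6613539 47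
  0x4918a812efef9b2cfcc2ff65df56834f575a4ea105573812a83f0753816dfa3bada3a8a84157903efc88a74b323a0332584b443b97b7a4c8006c644c9d5024d69d72c071361c32c609deca67002c233fb3a302358544628193ca3133e2c50762a7e149800d83e7b003cdacb0be295c42d5b21adc838162f421f063ccfaa90afadcec05f0ec)) (Fq.fr 88418 56 59521439 40
  0x34d40051a9fb05dec598d27f33202c6597eaeb3073f282298e4abb8a73d534dcacd7a78a3698fb2189732c153b29cd0e63edfaa9a9fb27eddc07ca75a8c79d13cd7a6861085576b6d4275d1d4293a8b7ab465fbb9267c103af6c475457fe7b66aa685a622cae027a419ba543bbd3f0f7ba3e94d7da834bd08e1bba2b11ac68dbdb)))) (Fq.fr 919907 5097 16252533759 40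
  0x1bd0cd4509bcb4bd5638e81c21bf9f92f5acc5b9155bd6d57c29da9b8c12e8885eaa993856568673b4d5a0617012c260ae97e184b14632ee971fa18c49c9c6486f436628e3e1e173e387091fd823d50f54c10e6b60cfebe1037e8af9985d4d87d2fa7dbe194155928de7be064d742896550d97a245ae53889e3bea63e1f687d8beca705490b9ed83624c3b15d668b2b6dd396033c5e19b693e146e9a7f5149b8629413c38be66fca3a3a))))
  (Fq.fr 584543 1244 107100243093 44
  0x11f84f2ac60b834d6a534cd40784e326aeaf187b79a3256651bc40b7eb0d8a455931f565d5fb00b3b73af1c07f2771e2f44782baf749f8066c50843a10cf8e3691aa1bd1bffee09cdc0281aa613d99d4f0fd9c6ed5d97bd14adffbb587de483f37b8d0ac91b86b6e1b9a9aad9300a951f0eada03a3fb3facd981a6166ccdc9be1da26400b613b39b97a9145670cddf01b00211ad5545147ef6bb0214af399e4e342c17d72cde72d6fe10fa2f342fb107d189745e79005352e6854e9912405b9cb00e1c49cd9d306843f5))) (Fq.fr 0 1026 794986844455 40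
  0x27016093269f1d7ca24e7ac55994bd5ac76081029fe829ecc4f7328bdf5f35dbf145f30d1aa91b443186167c8aa09e5d2cf640a30b8fe3d79848e92a2e23d4e6e3d361b62b37e969f5a2458e5df5315e328c828f9b15bacce13472adf273066e1beee3ec646cf7abac19448ebad8fb3cca85835ca4c6eb4e2b51bcf7021f76bcae478c24cf43279debe72ae986fcd826d6a2d7f10be0d500d9b67265df92c34ce068aeeea680d689006df0e6796eb8f05f17991be74f813a6381e62ae0d7c04db9ac87019146)) (Fq.fr 10689401 1003 62950405576657 44
  0x1e7324c36ac6d77b48005640d42ef8e5cb539e17d11071e70fe7109d55499be6ca4b1ff84c497f4d1fb9167fb8c6e1a6d0d88a7686142f7864b6e7b3bc81e907112577b7af81dee59d54a0451e8938bd380a18a1dc1ed6c15a2e79dba233366852d2b0c558afba6536d705d56c609362287997cbd75c9ea208c9bacad62ba9a70d2a0356d7c8e90d88e40769333db55cbcd8d57c4ab89e7e35a29ea52a53239d37585eb75f70f9d5f5a6c8f451d8bc470fcc9d515ef73fc472bc7c46e3f00a884075e55300a399b9cfc81bc2a18291627603c7b38ef5f6f60aa5fff01dfa334c39d5ea4af43dc652b64f1e75ab19d0666b55dbb4b0bf044dfecd81750))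 (Fq.fr 779 56 81695 42
  0x1a07835b202e801b05d1401f249d4b8afa9e924d2734413b19fb43423dcdae627021221541733b82e59f971c63164bcf1e1d69e415dc559d68776e0b553a194071aa6b2ac2cfd5d8f0d9cff677a975f90a42ae43e2fb)) (Fq.fr 955 54 78779 39
  0x21afb33e50e1189a5540b3c76fcbf692435e2f91ab047acc2983dfdcd119ea2e58b25992e0f7725e3e6a0fa8bc01c9db381bab4c36cda17b2bd8616630b6f99195d3f60184a75f5868668dbd4fc2469)) (Fq.fr 315 54 78779 39
  0x1d20b37181c1fd302c2d67504a87cce68727db919a82cdbfe882e51492bcc36808e232ed24790234d7510c7856ca2dba90b2fa13779b8d329cc931993a2b60fc416f085e8bc2df6b3598fe36d9b5888))) (Fq.fr 15665 56 6613541 39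
  0x138b192f6599c55735c4ac95efec59ec7f55aa359d826ee7297e4f64a19e8ca046b5a058ad934458de4e627a76579083d3fce946fe5ced51225d2cb17fbcea9155625183bb6d7fdbd1942e1ed3faee6ded94562d50b9c30796b7b887dbbf98f3077bf2ca9f16c6c7ba43f51b15257)) (Fq.fr 261 56 81629 36
  0x4881abcae106ad379b029454061cfff7c8158dbcd5478d4c7e69fb414533286a03a12f586da8669c16e90fcaddc6b913ebe5481f6c5b68469c1d7337b9d39e29eb4ecbaebb0a8b5fb8))) (Fq.fr 101 56 27263 41
  0x5f0649ba80735d9813bfb71db1178bf477fe5248fa45b46f18223fb5afc3ec275da15cdc91e5695f1f626d2db62f71464927434f8bbb1bac97240f9bc4db37952b4f03d01efd0e609f90d6e))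
  (Fq.fr 2 49 145 6
  0x646ef89f533)) (Fq.fr 62 56 81695 38
  0x64ba5b57760f894866d8cf48fd049d23e854ce8dc0e689fd430105b21a1f8bd8643961a990a5f4c47cf83b42e131b730c8ef90fc790ada7286e5eaa2fa15a5b27c36e4e08213fc5900b2298bdaa)) (Fq.fr 477 56 27213 37
  0x19d5c0c07451de702b5631ccec069a4725692b50bd3e685c26407c9e64834ce06dfe3bd8a6d80dc31cbcc92518e0e5f5cdebe5ff5ede1cbae5cc5f5bd069d78fa4aab2296)) (Fq.fr 29431 56 59521445 37
  0x101de600db79da5183d53bc8bb2605056edc60716f73f5de42f19c28f91a754449451733531e6d1d5a7f0d3ae2a5e8c7ed1ddee70db4a1957525390b06e290be6d9e42fc334eb5156ab7d5ceae5e2ae9a786099edfcc30e361646a26de64b50b11d3aa2ba833e171b7d3ee2cb93beeea609bfaaa0626c48)) (Fq.fr 142920 56 59521443 42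
  0x3fbfb7bf2b16a387d06b29a65f811599aaab5fe1f412475cb55922d0ca6c47caba5046de06f98932bee527e97ade8e53a55b7f14ad53cccb6cd4db90e22434af6f42c62f427b5798ee2bb20ed134e816630f74b7059b270f40a1aefcb44096fb8b7630be938e5732c2555a6a4e67ec22dcede1b8838641b8f0b1ce3a277be13d91c81011845dad1)) (Fq.fr 51102 56 6613535 37
  0x4bce6a14ec747e111dd2c5bc115bf371362809a730a24a0d494375da4caa129496bef93486640253d1c1f7a2d405e4c7b79ee9716ba718b7a7757eaa79ad84d5dad671fe935f9a663ca71120af320e744a9df0d0aea711c7020dd73f30775975b991c2fd3fc54720e)) (.bf 14 10 (Fq.fr 829 56 734885 40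
  0xc4fb403de628c6bdca127cfab092fb77076f2ca790d30ba52131197572fddf8ab7319e0d8ef38da6ab6436a0a8d237084e7e281bea8ebaeb909750085ac55fe50f22985dafcaf4163ce17dd68e25c99b4dd9281247ea3fe8758e245fe1f965f72e) (.bm 2 0 (Fq.fr 1147 56 244997 39
  0x111dfe8f3da17640be7c9f3f81f9405ddfbc89c36a840512a2f5255252e87776b420d21cc962d2052c5c3f7f2fee8c96e1d762bbf537f65bf14e7b10daa61d02f04f5c0409d4e3a61594ffb5d20879923c052aef15992f9) (.bm 5 0
  (Fq.fr 5557 56 734885 38
  0xcc1d1d1f2e5fd9447f6f50d0bc54d7e2ee3c3b49c9e7737ade175a358b4a0dc3e87f8186baf2b8257ad8fdf1ab81664be94cde6171d213040812cf421421443b8ade55bddd5ee080844736eb00818351e500f8f14cb26b2c80a6ca491) (.bm 8 0 (.bm 52 0 (.bm 53 0 (.bm 10 1 (.bm 10 0 (Fq.fr 259 56 27171 38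
  0xd48a4a83a1226bfcacc4d6972b5817359136081ab36917c8770f42d5cb7deab56cb9f910020b97fe0e9f1844db46a5f76029909a9871fa88de7c24a2e915b6b90d4512fbc448) (.bf 14 45 (.bf 14 25 (Fq.fr 12985 56 2204549 43
  0x53f37f52647290281191bb2dd420b4d067fe83188d4e4a472aef81161ea9fe418af1828334ecda1903bb40e7968716a3e5443e8eb99653ff789a3920adee7172b56177c319473a7ca463ad1f9d132478b134532e0ba7f7182d7b1fd67bd7057e0cf4a222edd275583ad17373c22ac73f7c) (.bf
  1 5440 (.bf 2 2656 (.bm 1 0 (Fq.fr 3553 56 734881 45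
  0x495c6d5dc5d6fc162ac55471f639a6b4e0613300af88832e5c13b9c5d45e22cf2f38d4f26dff9c6857a98901dd55327677e4908f05c051748824a97bd6fdac6bd9dcf2d6e252202e6c8c9a83fcf762a8eb522d13b5261ad79ded50c6a719997fbbda213672ae57b5501559956e4) (.bm 2 1 (.bm 3 1
  (Fq.fr 133 56 81701 44
  0x210168b940214243575e846c0eb8de3099c3b5d011ab86289bc41b3718a241297e38dd1375d3cfdb9e049470f3007e86f4568a12267c3faf4aac94bf2e36718815f63ca28ab23127480e2c201a6aa01036cc513c54f1a4cf8d58) (.bm 4 0 (.bm 6 0 (Fq.fr 1162 56 244997 43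
  0x3f8a8f2bf067fbe4ef193673cc8db5f30a43ad81070be8010de78d48b99dbe0f1250b979f8684d967964c673f9dea8a336ea3206ad32a22c7cfc41f4a9070798607f5dd680ac43db698e751ac5a7d8f992f32a3104d4255f67c2f24a347a601d) (.bm 7 0 (Fq.fr 2 55 165 9
  0x1e05226bbd0a9e571) (.bm 9 0 (Fq.fr 1457 53 55655 39
  0x7fb965e1438347708413f85a20cda19a3928988f1e59dc67153c1cc69f7c071c51aed338ac7079bc6c1db5128c8caf96ada5052419775e0c1b430077b7bd882a47ff9062f66ab023076fee867) (Fq.fr 619 56 81695 43
  0x94dce9c0682ba51526ac368fc912c44f0feb85f18451d1e71c2063ef016f0f58bee5273869d134eb3c44420944c171caf798c097d90fc65cff53835eb65805a448582bf4cbaf62eda8b7b7e1a7d7ee1b442ad82422fbc11)))) (Fq.fr 485 55 25681 41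
  0xb00ea6993e229b202998de6db6f038246b93d6d142f75b3b541f26178ddd4a9bb983b8a7de99841a6af2a952a297a550b44cbdf154e144b13c072dfb17731b594754c4fe2485ba84993ec7))) (Fq.fr 209 56 27171 43
  0x20753eda8060aa3c0baab13438f76a91a089c15966c923ae99850ccb07f9a0f324750fedda83f4b2e79b9cbfe991a83d4bfc9b8f8f8393d99e1f5e753196282b7439c6a33bae0817527d9a9e6b94578))) (Fq.fr 3517 56 2204549 40
  0xb30e87f0698f2f218a3ccc55a072e86cfe69721e9fccc5a81cd29db6d368baecbef936a3453b60756e6a27f4ff04080d237f46a975e9388eafba6062036d9d74016dd75c9cbe8e6d12dacac1012e1303ef2d8abd955fba82990886cae04f8641c1c021683f8a3d34ab)) (Fq.fr 3143 56 19840515 42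
  0xb4ba8561b133fb8e35ea9d1bc064a8258d6587a420d53b70fbef3204057b32f1b94a9a5362ffaaf190713130a911bce380c1e8d11256c96d445d7fa4d59b3b9b358cbad5c496e3208f7bc28e3788f5e1e8c0661d5480c16cd73e4b6065f93783bacf3a333cfb9db2628752e8092f648d042a2b228291491ba16eff280a3c02))) (Fq.fr 1369 54 236247 38
  0x10a6337d2b60c22f412cb52c053980c7b27d9c08201bcf98dcace6dc19a19c90281d544f1e2294b07ff4bb4e30d2404cdd248a77273cee4ca5fc9b80bbd94bd01abc38debc77f6d2f259bb90c2b65802085470a53c))) (Fq.fr 485 54 20351 40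
  0xfc1e4aa9feff6adfdc6f9bb87e351708014ea6c042004122e3677d91f384e1f279be89c28068c617117bf718d52aefe6c466b861abf7fef5a1e4abb51280dfb55c12a0c9c6fdeba)) (Fq.fr 633 56 81701 40
  0x8b43691f3ad57b775ee73c2bed1712f1daaedbed8d88cf6b63ca0befa9cf03a175671259b809dbe69e3560415456dd569900e4f0264cdc09b5839442dde265a650c4574483e869f4e7d4b13244e559842ed)) (Fq.fr 6777 55 721763 38
  0x3a1e64dfeba99ea11dc38d80dec32f5c21dc1e7bd677c25b1493053f5ee6beef2e4f772d412a16dbb904a82d7cb4f9931fbae75185ed7e5298012047fa849e75cfb439ff5f0eb87ac98007c61a7ef939b6863f096e2fdf7ebeb5692c4)) (Fq.fr 1383 56 244991 41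
  0xb11aae2afbfe444f5fc247b4047219e4c0c7a8ec822a213954f0d70412527a7307947909e9859b964481e7452d049f67f935589bfb6ce635c856a4619ff8318e0d1a51b2401356773b982d3072a1795b8f9df3abf4f639b5816dc87)))))))) (Fq.fr 837 56 81699 37
  0x7516f51ef4cf919e99d9d7423c2f5036529a9b1589e668499fdeafe983cb9a2c860e1baf21404e257ec5a1d0b0dfd1af521e5c43cdaa7de6f4766fdea809c7340f2b2fa0210717448987275)) (Fq.fr 317 56 81695 40
  0x58f8b29d4e4f49cc3c4c8ef36776b684c1259ccfa5992c8d9b3f69acfa823fd0f0cdb74cde92bfbdfa328dbef2ef2ed40d27e5b67b132489dcf0fc9978d788011afb19fb9f7453d8e3bb275e42d6c745678)) (Fq.fr 485 56 24313 37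
  0x8649984cd22d32db451dfafe25665328f15632be7f170cd835052a90f36af7b1ee86dbfc4d076d3c42f78f39719216c6a6b52822ec74e3810066bdf4a0db4a49bbd30a2)) (Fq.fr 113 56 27269 36
  0x1ced5d74ea4ccb4641a55c930c33a5362572824753b13bfb6407bf345c9f5c60bc8e2f924fe95b8e198ea3e17652fe4439657fbfc0d6144e02aba2a81ffb9da4ee59b)) (Fq.fr 377 56 81695 42
  0x9df90ecb4cee68484af4187f29ba953ccfa5d39ec56f0786efef3ebab69873cde66234738b717d06abb9bb5a21a8b0b7e30631f0f6476f593af3afd5fd92138446b1203e6b6a27b022ee15f54f1f89299c277c6f17b)) (Fq.fr 967 56 81695 38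
  0x5105bdb2562c11a4c412a0ba35b246d19193a956dff868236c4925d127ce0c79b7ac6d7b3f660aae27232046bad89de284ba9b8f865f8087df9145baa0d9dba78b4a6cc86bb53d1e8025942a506)) (Fq.fr 1103 56 81699 38
  0x589c9047a5e6ca170a2368386cf3ca52f22d7b95747258f9e2864b72f70ddab344b423e1aa79f15e54ba9f3f08f1d3a549d888ad2391e2c0753ad2b1dd7c49133eee17c2de32b442abee998b0ad)) (Fq.fr 439 56 81699 37
  0x411b0d69e5120e60e4bd0fd62f4db2f932cf086b1a0da46aad7c501843204c0094730c0543a816c6e21e23a4de02af330872c63a39e584f65d951aff3e5f3f49c13f45befc3699a36a821c2)) (Fq.fr 13565 56 6613537 44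
  0x273e8b31a9a6e48bf405342fd94e4ad1e614e731e2474aa3060306ecc3385dac255c0d1a2e10b62b8bc003551f273a1f96bb319f1688e4f562f76ea15ce6fd5ef13ca5ccce16ba494d7eaf29bfd0fda614931d706ba5a780fb7b8cc7a5df8ef4db4d235358bb830cfde3d8991800b0c3df3b0d345db6e8116dbd2ebdf)) (Fq.fr 26485 56 19840517 38
  0x420fd1354733c09251269f210afe5cb99d47d6a58118c461120ea51ee76d87838de08f39840195994bc23dfceff233263bb0f685977c80bd59c633923b1315ca7e1efbc493526ab40409142b2cf67bf85c992932a02111ca63f6ccfff9647f4c4e7147ee1f65e43c7fc0b666f044ea94c436ee)) (Fq.fr 14999 56 19840515 41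
  0x9b9ba30149f137ef045fed03f3bf3765be24672930a341584d42af573f48e78130e6f726e91dcb75aa78e8002aa36a8446ab300b4e3776707773c8956b52b4d7db7416d9a1ba3065eae2a19f98c79bda49e16fe99aa42f027110adee5c84fba67c0c2761660f6a6ca9407704354fc9545808fc2d80895327fc3e00d4)) (Fq.fr 37959 56 59521443 36
  0x5d751dae0005bc6d7f883ae1f29bf7708be66d041887df12017c261e10a83db2070c5573e7a27f8c9d8af51f31a870950b61bedbbfad9a05abb4d9bfd0c5ee5f47ba9ea926b4c6f2d1a3516bc15659e1bea87bf882d3dae282af4cd0b72c8f974f6ae4fdb95af79cebee01dd7a93112279fb8876)) (Fq.fr 321527 56 178564227 41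
  0x2a50fe2423e38bdda0d029a813cacaaf538637e64b055f05c8d196bc4b0bcb1c4b24c846ac2de00e5ecc5f9b150963e43f055792379ed5b718501d8c35d970ab053ef7b58c1c8c227ac706fdab372e77cf0234eab02b0947c96c14ae4727cbdb39932008ff9d5ef03c4f238e7729f40b53058452855698d7749db03da9de775d180d2ff421c145ecaac12b504)) (Fq.fr 12489 56 2204547 34
  0x14349d060252cda1c318543de4eb1fb830ab977da7864585608c4955207ea09f45f9787ed49eb0924f2c8cf0b9204e5be998d34dd74c8c97719fd10112721422ebac2d248a7e22ddd1d188b1d121d98f7563fee58abc44c6c1f)) (Fq.fr 4523 55 2165181 40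
  0x8ee1e36a425f5ada27189f7c45486a1a098c10ee5fe6327a1415ca467f5abcb8a261041b48bcb4d592f112c6e568ec6013377cacc1498dcefa4923c34668d4e63fe7d2cf8ca2d104ca0fea29b80c098c5bc3847d63437238294292c26bfb94daa7356b6e1fa083948)) (Fq.fr 5945 56 734885 36
  0x29bddb7c6f98665f6ad302b44c6d0d60ba847d969b629a2c02fce9138ead67e74a8ce05c7c8b988328cf9c0dd59e962892991c9c856ea482cf6753711aeb27fac4833d242f2bc601e598d02301b1cfdf558e89dc3e1178b)))

/-- certificates -/
noncomputable def CL5 : List (Hd × Tr) :=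
  [c36]

/-- a certificate -/
noncomputable def c37 : Hd × Tr :=
  ((149299200, [], []), (Fq.fr 5558 56 2204543 40
  0xd931c6bcf600ed4d396e29ad60e0072873924b29b49d444519fc43fd528b93c1dd214b50c0daf4f7065c0f2f2bce22fdbab6514d81d89f67f4a61f355ed885ad3dbfe5d112ec5ecd597e702280e4924d122f63b73aa855a8bbeb642027a6fd8c73e8b3fcb157909252))

/-- a certificate -/
noncomputable def c38 : Hd × Tr :=
  ((124416000, [], []), (Fq.fr 5102 56 2204543 39
  0x42eb03d5288dcc7d74c47b17aa2e0cda840780ab9bddf5d81b28b0b598935b1f9e9b59d8aac79ed5e3ba4473128b00686b5eeb38083d3dbc28d915307f9d6461488268066e49bed69d58cd7f6257979e5677e21e9d772d12355cae8a3378fdbfcfa54f35decdb))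

/-- a certificate -/
noncomputable def c39 : Hd × Tr :=
  ((99532800, [], []), (.bf 13 5 (.bf 14 10 (.bf 14 5 (Fq.fr 63094 56 19840511 37
  0xcf2b69a0d1a12e5e1600976b79525db0db3f0e0f1743228539f8f5450bd330f30b0051df18f5a059e0624adf7b31d2595c29ce6375e8bd4c5a518165aa220f2805f743f3f8870d26d12ca2f848c029883fcded787f1dbbdf557621b7b465183ee0913c5069ce0b8d360da1b091be76f) (.bf 4 99 (.bf 4 93 (Fq.fr 207386 56 59521439 36
  0xb934a8516ca011870164d610f36dc7cf29a7f57153cdbcfdb295ea774ca1a1c4779ea7865f2618abcbfc3cfc6377ad6bed51fa776120168c8a4aa2f0258c49d6a5f05b8d99b781520bf329cefbb3d22dad30aba34a760849e557ed40d57362c051e1fca41fa635b5947dff94b93954c34e216ff) (.bf 5 195 (.bf 5 192 (Fq.fr 146074 56 19840511 35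
  0x9299b2331accffeceeb75589d4726354f7d4528ce9cd1bc19e29d65067a8894f5d5b66fe6a36141960e58a8096e4474d1f2e3bfc6ef2a6c10987b039e76f418708a520a31e898fd670bb6950bcb1714edad37fd6eb71cd43ff79d44f2454108e2d0d735b49dcc7e99bb) (.bf 1 6944 (Fq.fr 216658 56 59521439 36
  0x187cf9d0e260285be424ae0c30f9ee81df7309c69e1fbaa56f91490b00d35a16e1fabd8952d02949dcbd4417b326ea51f8e032a7a710c52a0a5557689bf67ba86a2c4b7c7e6312384571225cb60b2da1d477349cda6cea5f9fd8d6e2769e57f0bc149e9ee78ba50f0b6d23675cafe4464c510b6) (.bf 2 2408 (Fq.fr 72968 56 19840511 35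
  0x880376712a09325085f8a1e33897530fc07466347021bbcf9f21e11f4bfe512b091621a0cb76936297a6ce9fda2c7b40339c4ea0a3f6cff772ebc4fc7f28398e330f03c2b364ea7b5621c1a1b6761669397d3c5cbc97096b8d29a161aba6b565739290831bf905ae22d) (Fq.fr 49378 56 19840511 36
  0xf88ffed1c63289f38d44aecc686e7f395643801f13218d9de7c502bb9a3ff56175035183213313479202aa96cae73387f22993c681660b3e1540afa1ca242fb3466e8eb82c8e0ca23a7001afffc53a421249eee9d68884ab7a7c21d2dea5173896357252d12264c4e97f5692f)))) (Fq.fr 1407754 56 178564223 37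
  0x3ae349d5710d0de062e0568d7d3df625bc321e16efc10e94c4cc7e4b3eb290c9fdaf78392225a16ca873a60ce21ee829dda83c3ac830a767d62d22fd550980bb77c8c938f579b9aaa87341b45aeb062313d2cacc15107a0ab35098c18b09779d7667f584d97062911d4da2f519a27da4befc025152529407ce411c2421b8b))) (Fq.fr 403570 56 59521439 37
  0xdb66af6c0109fa880a1f39d4706ef92fe7c731b39e162c4d3f15a848017670415e0e5dc493dc8fce8208a2150807bf14ee74e9cc5f4580af591d0c0f85cfb739592df804de119707e618afa116602844c72e20ceab1327febc22032c9b824416bade47c517024e86614afb6cb18147f7ffc503a420ff0c))) (Fq.fr 12492280 56 1607077631 37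
  0x55452c9174ee14946fc7b068566de952104b30543ac32c0c91583b0b1731f9f66b8dfc67ba8247f559fc79b7b6c1aec2a68b9a26c4c9050848cea92d3625f0d156642003fc86b778722e04e52861d65929a9ec22356703c0b77e1756db2d470cbc03123bf26f16006557acfb99f14c7f1ad790a9e6707c562c7dad0ec35c540b218e52cd48d5528970d4b3a86b)) (Fq.fr 50730 56 6613535 39
  0x62638fe88c4042db07fc65d48e150cacddd26024c673c1a1e7767782e47894c7129fcb264e5d244002b9e6ad5ca8aae9d3fbae9a84378517ea8fe16cd1da51fc2d6be50fb5d2575c8bf17735a99be940043d235c08a4f189e57eff9e9c26d3176498c0ea32e975bfef40113aa8b9)))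

/-- a certificate -/
noncomputable def c40 : Hd × Tr :=
  ((10200960, [(1005, 4080385), (2041192, 6120576)], [(1005, 4080385), (2041192, 6120576)]), (Fq.fr 1737 2041193 26784535553 20
  0x3894061124a187cd4fb8d83715175990b6c83d867df1a1581d2e4fe4b958fcab9d9b021332ea8fa6788657a75384b41085f39fb607dc9671bc6c94ead74bedc5125266e3b3f57abdd4a9e143ba7c57e973cd5ed695d4f))

/-- certificates -/
noncomputable def CL6 : List (Hd × Tr) :=
  [c37, c38, c39, c40]

/-- a certificate -/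
noncomputable def c41 : Hd × Tr :=
  ((244823040, [], []), (.bf 21 5 (.bf 13 0 (.bf 14 30 (.bf 14 15 (Fq.fr 7185 56 2204493 37
  0x36beee9fa7083aefece6e88d5f6b28d447fdae08e7049e790502994e29fc2e25054735059db80d8ef6fdae3bd1eac87e9deda9419f5869478115127d867152ffc7cd4a568c1eaecbc897374fece962e518140f8d9fa32fec178825ac86a3538d6da) (.bf 4 54 (.bf 5 315 (.bf 1 2304 (.bf 2 2048 (.bf 2
  1152 (Fq.fr 18103 56 6613485 38
  0x747e1bb3c4fdda103a34b3f2f68849c86498067886ecfd7c2383b6f01625da8751c4bde03636d5a594955adc04c1ff27ae743dfd9c36b3fdd1604a44bb3c918d5a47f83ffab5baef9ba710e1b4bd63aaca310bd2ffc3f986ba9fd8eed4792888ec248638a393e25821d881b) (.bf 3 64 (Fq.fr 1533 56 734825 37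
  0x63f9189ab0da260e94d3f838c2ce27f07e39dee17cb88769a51362c2257def4888ebc64b780b5fa1be3f756d14c9a3940eb44c75df20726743be05f89dd861964d85710020446dc8fa31cab48f54ac44c3289f8af99bba2b74ac) (.bm 1 0 (Fq.fr 3991 56 244939 39
  0xa5811231573ba2b0dd3f6d0f6ef47b07fb37ef245c2a94e065af7cb8f773f8ac5ba8efb8440cd3698fef0b63d415963402475a5517d07b8573014e0a17c1f6355dc468150d183f6a1e947e07ca042787aa5e8fa09acd1) (Fq.fr 391 56 81645 38
  0x3f377656970fcdeb727aecce271a615ed27265b780662ba21e27b5221ffc8084906aca8fb59b7b76a844c3ba8ac97b8e7aff1a2572fdbb2895782a9ef44c4a2a1d0d4e13f84267b0744074506ec)))) (Fq.fr 14593 56 2204549 37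
  0x1b61e999aa9d667dc6e9ff2230570f1ff313be23d27db2ba74a2b792945768c91dcde5861ec2d93af5e561ce5a62e2a6fa485c9c117ea898f4d1e06b114174b555dff5620234a0fc09bd7b8a3b07e508d4f5882f9b1f97ad4befcab1062b74762f6)) (Fq.fr 101431 56 19840457 37
  0x2f5ee0ce3025d7589e6167719484fdff22c23a9d590955b63ef12d73afa4f7a5663f59a089c0e0a8596e49d782d35b491dde6cec84f44e3f75527ea0a9d51fd0cac39dac59c5cf363cad8bcd4a8a2b0af4d3f475a68eded3ddaab368a4bdf996f8be83765882ff783d04e0f670cdb722)) (Fq.fr 85335 53 18777629 35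
  0x1c61795b3b60e743275ce0215ecd6d8b8e5054a7a38415c15fc9b6939b26160f42e1096435523b63ea38700646823b3bf233dc8c0570d3bb67b1800c7b7768a363cbf0f6b2cc9a6eb7b4427ff22992adad4298c484ddc5b7d158ff3c7ef08af76ffa20f16643763c116)) (Fq.fr 24433 56 6613485 38
  0x40a1eb762fa30c61e63c9c3c4bbc62551bec475d07605c4c678c1175bdbf57aca9a281ac59bd154d4a9b4c5408dee1071d63b2043aed0ef194ca59096620f9bce6be4d368f9da1487b9db149dd266564beafb41bfd726ee801b0fe49ef4ea31ce02229660026fa72c324c93))) (Fq.fr 6569 56 734823 37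
  0x8b610b954d06fd0835125e96e571fb39768bb737811c547e37e62de5965848225ec94be134e45738f2eba470ba3b3dc462a8944ed8d6cc27939d2c21e066829d8c97593ec0f93b0fe43d9a7f37a912ff5bce57a69d6052a08160)) (Fq.fr 2677 56 734829 37
  0x4870e4a885d7ba9abf9bf35247096275863676a400e7732a70527f627476533c09799f81f14d8fb1fb9cddb98cf5ca62371e68763a392936b7a811c10b1ae5b62059a73b5c1940456aecffea0e71c0648918a7dda682155011a9)) (Fq.fr 2381 56 244937 39
  0x4ce9843a757d476ddad814dd1e099957181a26614fb15d2eceeeb72c67fe0c08642a3399fdf83310fde80644ffb32028bf5da3ae995c78d648e88a25b073002d751f487bbb96fc7ca9606f703c405bb9af024be74dc92d)))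

/-- certificates -/
noncomputable def CL7 : List (Hd × Tr) :=
  [c41]

/-- a certificate -/
noncomputable def c42 : Hd × Tr :=
  ((174182400, [(1007, 24883201)], [(1007, 24883201)]), (.bf 21 8 (.bf 21 1 (Fq.fr 0 1008 3025 1
  0xbcf) (.bf
  13 15 (.bf 14 50 (.bf 14 10 (Fq.fr 7469 56 6613541 40
  0x5539695ed2048f84bcdd9462433df0c78fb9c6d18e4719e6f51521f5d930b562eca5685ea5c9a73e8eb58dc0b23c2cfbf61eef968587d6d447bbfee3b5544aba99f547031934b62231b62dc2c676dfb3d38ae0bca3c40898badac9eb4d1e02e683c0ed40606b9dfa6d3cc41d4bbbaf8d1e) (.bf 4 159 (.bf 5 438 (.bf 1 6208 (.bf 2 3072 (.bf 3 488 (.bm 1 1 (.bm 2 2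
  (.bm 2 0 (Fq.fr 803 56 244997 40
  0x317a89edb64a4ec8f9008605329feba318641514492c3a21a753da997f98f048a653bbc76a4ddb40bd80ef0af60472147a3aa8d79682a95426eff2feafe277f13656792bd2c73062eec154239786eb91ee818388fe928fd1fe8) (.bm 3 2 (.bm 3 0 (Fq.fr 289 56 81701 37
  0x3c8913fafb82f67a5b2411dc4781b98bd9286224995a772a430377266290172fece47ffe3aa6830c60a89266c9314e6149d277278ef71c69d01e86153e4b9cc5686c3c4828c1a2b596f5813) (.bm 4 1 (.bm 5 1 (.bm 6 1 (.bm
  7 1 (.bm 53 0 (.bm 10 1 (.bm 10 0 (Fq.fr 3721 56 734885 40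
  0x46c515ba24dce23c25d3407a9dc5443b9c1e504e3d6b36f076b3c4ae5fb0cc6e28f918c1ce398c960318e2d9c3be9018f6980e589a65b6046911c565f96272bcddab96d94dd45f71b83bb4f040247d068b6d38965babca9d8e2ad4460349a3b4272) (.bf 14 45 (.bf 14 20 (Fq.fr 2227 56 244997 39
  0x724eaab1a45f9eb4509d4684de1c3cdffbd1e89890ee3d852eeca5612ce8554b51170424b702130d4a90ec06044427b4f7bdf94f3e72bf00add264ad1bb0ff8e3692436daa8b0d07b781090f12d4712c0812974a127a43) (.bm 1 0 (Fq.fr 11221 56 2204549 41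
  0x2a503fba0373615b1ae69528e56f985dddc6ba9691305dd3431d6c8aabb7224e15f7b96b48dcae88c9c1be99d670c9457f4a1ab0da92270ecb813d82ccfb9daf8a7cc3d7c408e218073b041dc6ff73a6e5acfa8cb32b0eaf4f593a4f9f2bea1ca2725a878f2d7aa91efbbf47) (.bm 5 0 (Fq.fr 1417 56 81695 39
  0xb4ead7296a028dadac4663c45fc0ad2593aa6dc90cd5603b688b7c564d493f6523a9c6cd5625c6ffec758571fcacae43c6164508a0e9f3fec8d60f3630e2b919cdc24b8a54d645a8702a1dfec296ca2) (.bm 6 0 (Fq.fr 925 56 81695 42
  0xe0d52d423b3d6c9b207787a27bfe2eda1ace08593496c077c85f8e2d31b65fe5a14bd2951fc70d70ea0490655fe0d449037dbfe3498f1c9da5c32780d928227463d561733eb4456ac173d1b2d7e205eb37b98c4f05c) (.bm 8 0 (.bm 52 0 (.bm 11 1 (.bm 11 0 (Fq.fr 780 56 244997 42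
  0x327019d1eaca2c5c21cff73edb467913002777ee4a741e69a96b4663342f16474f174dd5e759a132633faf23bb7c17d92126e4c3b9b741b043b8b728499700787e869a1822daf76050361debb93f97b1e4265075d4ff35cabccbc7805606) (.bm 12 0 (.bf 13 5
  (.bf 13 0 (Fq.fr 9769 56 734881 43
  0x1255f4651087b46dfbcc0409e94ac9496e41c4818b1f89970cb8ca226dc00645ebbaed260121c967a3f909149a09050bc68eb8832e1650335dc50c9997bad8102105bd1f70b505fa49d9d5518f38582edb6910fea93693fdc7469c8c5c61ba0e2b8da7d1e2a3536f60) (.bf 14 40 (.bf 14 35 (Fq.fr 3999 54 708641 43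
  0x133d0c62ea19dfd7d58b38e060e876a3619e717beb264a6f0d6d504581da7cb2f376f5a90c2838c822582c78f08a011794e0f0cbb7252f38d2e4dadc715a7f22c5356d9f59d966259b33461c712b6b836642f283793c0d9d3a303d455059d726360571361f335af8d) (.bf 4 78
  (.bf 5 327 (.bf 2 2368 (.bm 3 1 (Fq.fr 13 56 9063 39
  0x3f8ef5103b3298dbdaec4ba31420a68a3d4f621e51f788228aba46bcaa70971bf11c582347d61025698e3704eca59ee4a859e357d4789ee74e2f5ed17e98c668) (Fq.fr 1031 54 236247 46
  0xa53d3d50c71f86c07df1c4e66d5d6f8512dab4c2c9624a37c680faf3f9fad9026c61abcdebb6f946502060ff64d6f994313e3f10a7302d1e38dbae830e261304494cba609778b63f7b4fdfcf0a3a9409121358d2abacdb21f40eb8b91ac4ca80113343a9df4f5))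
  (Fq.fr 14689 56 19840517 42
  0x6642d07230d144427ba8f94a739e712d081181f702f391d833c1855325e3812d85ab3ca64c8c691bea7945e41f940ac0a31eb47c63024d9dfb30d47a1f875b30cc688cf0c273310db29d6694b442f45926386105e51aad825c2d7cfe3257489d5d6e3d595b101fc3d49b463d611cf03b399569915eb38c08e2922d5220fe20)) (Fq.fr 47938 56 6613541 44
  0xb062d72c60d5b46e41f77e255c7290372ae8e60084a366e05d250ff317497b9ca62214c2e1cbffa744aa5accdf70ddd264234c370816fbc321b853783c1bc5cb412c115e1ef443e6b76a19492127969a9546cdc80d1a43b2f1800352048e6bbde23002a79a8b6aa80edc0297f7b13362e89596df556d2b0a2cc62a58)) (Fq.fr 461971 56 178564227 43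
  0x9ddf005f32134a058e5490c947ffb2cde0458b3f8bb9bd103031ffb9c02f1400cfd352c6a543e4790d6884d182a4cf28b7d5291566361b435d21d0267ac84da8166a10f1ff7c685359eaac1383f2e408fb61c70e2ad82becb1c6da54439dadf80aba46f5df9f73a8e6b302ab3d1541e0b2138b66fb3cc1be63c66ed0c06de3cf0071467fdec251f8f6a820f8b29ff48c812ff9))) (Fq.fr 233 56 27261 44
  0xc77acbd5c01a10015073890120f42f0127907b5483bde43034398615b7c0ea25346d2c240543f5dc47f55d9c7b90bca9b1c86670ef21f480a43758e28d6ff0e1f6c1a54701ddbadbd76d94914c8149927))) (Fq.fr 3051 54 708639 45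
  0x26a66da22a8a70a9c6455994e7571694cdd96221ac499702e3581dde8fb00fd43e17348897f63a27c0570bdcc75264a815042dcdc144b973fb234aab7781e87b55bb4a2543691b74aabe930a43b130c35dce33563f1b6e2abfa6bb7cc1e713becbab3fca09b41c3aef6b73178)) (Fq.fr 1303 56 244995 42
  0x22f73cb59c23f9c4e698bf59801a51d23c00da1021b31fd248f964c89686de1e2cfd5e9fb019f8d46d7ad9f2c658e5507137882bafaa9c88528212a945350b9acf56380cb6d4ef6a524a08fd972d3a039d9c466c93d692b9ae34649ff859))) (Fq.fr 112 56 27269 44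
  0x3553002c0043e89251c07a8fb17164ed20b5cb06a6eb17a1f1d72c626e4ccfbfc0e438942f158d2f3a2912de126f8d206939aa5bba2b133b1bf36af35f627bc03e91ee0d50f7cbf4b382d10b337d2b4836)) (Fq.fr 1804 55 721763 41
  0xbdcdd478ede0f17515b6470a5e9c4c07fc575a56b431c9aa9536eaf41033a79e3b999f89161a11d96691e7fa302621243f00afbacb4f9c6fcece12db1c980378259666fce9d6f9fa4e0610210bd14d63c21acccebec6631677f1155abade1a7b63657ce)) (Fq.fr 565 56 81695 41
  0x75632d258f0f481f4b27a37c1f776e54d7064653ac964fa818b5cae8562e3c7699a1e20d74f0a362bf60b27c1a7357fe06cbeb053e2e7df8f01b33188a4b48e741d0d0eba3c4ad0d2e18de90d57aaa810132027))))))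
  (Fq.fr 6925 56 2204547 38
  0x33657e5a98a3a62beb1f5f96429da4942938a31af61b586ec1a811dbf9be9d580dec3ec8dc864683f72625589b68cde18580d46dc735af42eb35f92d040826a4d8b456e8c152557c154e7b4cc80e29da70c03f2058262e05ea073ee00a965cf9fcfea53d))) (Fq.fr 351 56 27263 39
  0x246232fbbc5a124bf3606cd73807f54ecb0b75d775d7f3a156935e170432d0413d4a826a18aa42d59280cb337e62e0e7c3c24b8d6046e2194d759b7304a42d63ec8691dd9d139fea))
  (Fq.fr 723 56 81701 37
  0x533c5e404d0012df7617f059eb17c2f2becdbb9ad543bdf0c572845e4c4f560d51dc34915b00f69b0005bd3ec9013fef2121a5f43675e77f49a7741101b218a492a3beb540df794586ed3a5))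
  (Fq.fr 485 56 25433 37
  0x2c6c21e554e439e64056636c4a9440defbeabfc0bae43793feac33731dcc45431f582a78c9edd0fc2f2582264c0a51b0d52960d5a7c3e7e22324effb48a423599ba1f934)) (Fq.fr 327 56 81701 37
  0x455c6b09b2fbd692af849085020c1b4b16ceb5af18cc7f4bba678032b8aebd83e5a122bdf238dceecfd65df801132a7d92d07b52e09d74ac4702f88c419c7b1a123053c0e4e346428567b19)) (Fq.fr 479 56 81701 39
  0x59ad61845875fd6bf2d272e29008dff7fc600a85dccf489886d23175fd862571dcc3454dc422db4019bf99b28f4ef50fa417ac5c8ebcfdebaff70abf34632ec6748b27d4a319616fec2e168c4cc8b52)) (Fq.fr 341 56 81701 40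
  0x3d686d672eba38600d574275f2dc4f5313824e5890bae4cfe456fa05d8a2d6abd7dd2b9e5e55852035f8300723ff8b13f0b6978d6295fe895e2f260dc01f44cd0b12f4075f4c058130a65a80e0d634deed1))) (Fq.fr 911 56 81695 37
  0x3db79969cfc02b62882b275888c10d0c33a6dfbe8f62a1d3e12f8cfd7e6e086b503454d9130bea4e4dba4fd805f01e0ffbe895c47dc54cb1a1136af2d1c0585d07ab0e2987f72f103eb8027))) (Fq.fr 1457 55 46521 34
  0x68a2f92b55c5fded06a28414eabc84880039e3f65ecc53cbcaa426ad4efc4f2eefc069654792fde13ab7db1915e34709008f26b9191e018ff4fd1ddc374da709137d)) (Fq.fr 417 56 27263 38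
  0xc39a1eb845591e0971231769622bd55396d76507d14e759ee406e574eec9f162d9922342f54387e3f0c05a56f7700eaf5a51cf1f19d58189dafd0264cb679b6adc46ecf4bca2)) (Fq.fr 15885 56 6613537 41
  0x2b97ee6ecf756ea633feb38daaca83eb05c791b00fb6324f6433b33a9444ea07cf3b0c5676b46ed15f242d59987beabe30ce99ae3e3396130ffe5f37ad10cd7aa5f5d5f750a446c9f93039a62eb698b22875932254abcf26322debe4531a07f6dfda0fc76438c8176a517f4c3a88c79fba52219f)) (Fq.fr 26485 56 19840517 38
  0x420fd1354733c09251269f210afe5cb99d47d6a58118c461120ea51ee76d87838de08f39840195994bc23dfceff233263bb0f685977c80bd59c633923b1315ca7e1efbc493526ab40409142b2cf67bf85c992932a02111ca63f6ccfff9647f4c4e7147ee1f65e43c7fc0b666f044ea94c436ee)) (Fq.fr 170889 56 178564221 39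
  0x59d14b0b2c4de66ba2cf2951e0c8f4181dd7b3d15c9838db46eb987f93eee145701039e05926b73b4b69839b57f1d3e250b0cf869f084af00aaf15078acad5e35f554ef5249330511a5e13218134a3a831c95cc7b46c98fda88c552e78a897c4c46a59ce855234536240926b95c462a4329ec173fbba8b350fc9cc26f7e4659c3917c04bc7a)) (Fq.fr 51 56 81699 36
  0x12ce17629405b635fb9d31dde9cd31881602f9a0e36c84697c483615456f7345f034e56db8ad5b7b2502925e898dba00d26067240e043820c25fa963db904d4e1b8cdb72c262a822846)) (Fq.fr 37959 56 19840515 38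
  0x635b8e78a6dea0e4771dfd390e5b3331e17269e5b04dd9a2a1c590ef10dfb0ae48ab19c5d7ee4be559eaa8322eccf5e64fd92834e5d6f4f5f6c01547288e060ac8edb2d8517c72597e34154bafcd7a09c137ce86e30f6d27cd674c4a85095fc10f6a6d8e8be6fec756e7e222acd6393773393b))) (Fq.fr 12489 56 2204547 34
  0x14349d060252cda1c318543de4eb1fb830ab977da7864585608c4955207ea09f45f9787ed49eb0924f2c8cf0b9204e5be998d34dd74c8c97719fd10112721422ebac2d248a7e22ddd1d188b1d121d98f7563fee58abc44c6c1f)) (Fq.fr 8241 55 2165181 38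
  0x1a11d57c5076a9e59ada035a49d49724b098b9330b958228b1a1bbc68596e47f2594782bfc4082aa236a8ac84cc2343f945ab0fdb146043c9ac00419e324a2bdac7d1d0c1578f129a5d683f4d341ace4401dd28bd12fbc3b6e59bcc03fffa93b1ccc61e6))) (Fq.fr 0 1008 2017 1
  0x7df)))

/-- certificates -/
noncomputable def CL8 : List (Hd × Tr) :=
  [c42]

/-- a certificate -/
noncomputable def c43 : Hd × Tr :=
  ((884736000, [], []), (Fq.fr 2 49 145 6
  0x5b687c1e3c3))

/-- a certificate -/
noncomputable def c44 : Hd × Tr :=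
  ((442368000, [], []), (Fq.fr 2 49 145 6
  0x5b687c1e3c3))

/-- a certificate -/
noncomputable def c45 : Hd × Tr :=
  ((331776000, [], []), (Fq.fr 2 49 145 6
  0x5b687c1e3c3))

/-- a certificate -/
noncomputable def c46 : Hd × Tr :=
  ((265420800, [], []), (Fq.fr 2 49 145 6
  0x5b687c1e3c3))

/-- a certificate -/
noncomputable def c47 : Hd × Tr :=
  ((221184000, [], []), (Fq.fr 2 49 145 6
  0x5b687c1e3c3))

/-- a certificate -/
noncomputable def c48 : Hd × Tr :=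
  ((186624000, [], []), (Fq.fr 2 49 145 6
  0x5b687c1e3c3))

/-- a certificate -/
noncomputable def c49 : Hd × Tr :=
  ((176947200, [], []), (Fq.fr 2 49 145 6
  0x5b687c1e3c3))

/-- a certificate -/
noncomputable def c50 : Hd × Tr :=
  ((165888000, [], []), (Fq.fr 1690 56 734879 40
  0xb8adcd7692a94bca0718033c0f40dfe221e0b07736ccb7e0a3da52c8fba254b74843d7beea801eee3320d086353b07d4b0cb01c7da5e98b355ed858edb3ec51e347501be587e8d1ee6a72b4bf1c17942c4c381389906157a9ffeac176d0835b46d))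

/-- a certificate -/
noncomputable def c51 : Hd × Tr :=
  ((132710400, [], []), (Fq.fr 16672 56 6613535 40
  0x8f065d6d8f0c8a30d14b97b3f62bee4bfeb6b0fff05cc928dbf673c4f67ff4a5ba02fbd4487e0a2320cd12c6ccabf8cd1836d7aaa24f6af01e731585653ae2eb709a35fc2ed3307ddcd58415908514427db5f9ad421ff7c1f6f785a23274b3fece44840803a6976d5d43c56af9cdea09f2))

/-- a certificate -/
noncomputable def c52 : Hd × Tr :=
  ((244823040, [(1005, 24482305)], [(1005, 24482305)]), (Fq.fr 1383 1006 13201739 35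
  0xee80b7446cb8b65b7574ba60b19b1b1660b97b7567add4dc13713d2fca3053d3174e73f129c99c1f9ad6ae19c1891709094850cecb94ce633ba31cf93953ef7b704c2163d53c7d0175636126b55cf4dc6f2570c38ec80bcc4272b1a1d695ad668339915ca991cce))

/-- a certificate -/
noncomputable def c53 : Hd × Tr :=
  ((244823040, [(1007, 52462081)], [(1007, 52462081)]), (Fq.fr 3185 1008 13227985 35
  0xffabf8e5071bdfccddb5a789b19c15106edd48a595813ad229f190f8f2633d41f30f499cf75c7edea813e6d0c2e39349a44bc704bf5368f279a965622abf2a3a8b13f8e4b59a242a1ab107ae77849f83ab9d3e24ec8d20b58cca71f5495803453e90403a1fbb638))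

/-- a certificate -/
noncomputable def c54 : Hd × Tr :=
  ((20891566080, [], [(1, 0), (3, 0)]), (.bf 21 2 (.bf 13 0 (.bf 14 5 (.bf 4 0 (Fq.fr 162 56 9097 14
  0x4453f252e86456aad8413f0149ee40785c91c775564afc) (Fq.fr 134 56 27205 44
  0x99409375785bdce4c6aa134a3be0df987c60407de31aa8b7fc3757c97c8972fcf2b2c622cb7bc24c8c9d3f40df1ceb601def622a18442249252578e4e270df8fe3e60651f088bd68b53631b20a9600292c)) (Fq.fr 0 56 27175 46
  0xd66e52d01d2cd29a23b94ac6766ead032f9e034d5dbce8686bc0feb6b1700b9c2a007c38b469016693accf8bd7880c53eeefc1221c27834b576fc1ebc54a6c29d9e71143a29e1f4fbf47921b3a4dc3f4a8ce736ec)) (Fq.fr 283 56 27189 48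
  0x288ccce811641bc5a7216a677a0b6f25533e5218f6abf4208bcd4b4baea606866d9a91388d85fffbf4806f0595d4a13614c2c5359406a0f2619788c7eaff2e6a9a46adc629343151f9c442197cb46194e4ed5143c342c26a3)) (Fq.fr 123 56 9019 49
  0x177bf765fe44f39f51b9eda5d7d3984da2d6b00422728775bbef73e4838222e67ae95b03ea4a770948369f25455375cac13c16921f8e828a9f8b05069717cd9fe52649f6c9b1785db773b338f51afd54e)))

/-- a certificate -/
noncomputable def c55 : Hd × Tr :=
  ((898128000, [], [(1, 0)]), (Fq.fr 1 55 157 9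
  0x231e3ab98581061b2))

/-- a certificate -/
noncomputable def c56 : Hd × Tr :=
  ((898128000, [], [(3, 0)]), (Fq.fr 697 56 81647 37
  0x66723d804cb717d5b5bba318d28cbe531657fdb17984ce7154b979e8499067492d2362dee2816d74bba64705315f34a7bbb1b24a42a9e43be4fdf1d591b850ba2ba235a189d4be43e8e9ce6))

/-- certificates -/
noncomputable def CL9 : List (Hd × Tr) :=
  [c43, c44, c45, c46, c47, c48, c49, c50, c51, c52, c53, c54, c55, c56]

theorem okDq : okD E [(5, 3), (3, 6), (2, 18)] [W0, W1].flatten = true :=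
  Fq.okD_of okQq (by decide +kernel)

/-- the enumeration -/
theorem lst0 {K : Type} [Group K] [Finite K] (h : In K TAB.Co2.D (TAB.Sm2.mkRows TAB.Co2.A TAB.Co2.B)) :
    Lst K SV :=
  lst_of_enum (E := E) h ok1 (H940.Eng.D.ords_co2 base) (fun _ => List.not_mem_nil) List.mem_cons_self (dv_iff.1
  (by decide +kernel)) okB1 (l1 := [(23, 1), (11, 1), (7, 1)]) rfl (W := [W0, W1].flatten) (by decide +kernel) 
  fun _ h => ⟨_, okDq, h⟩

/-- the heads -/
noncomputable def FL : List Hd :=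
  ([CL0, CL1, CL2, CL3, CL4, CL5, CL6, CL7, CL8, CL9].flatten).map Prod.fst

/-- scripts -/
noncomputable def S0 : List ((ℕ × ℕ) × Ps) :=
  Fq.dS 4147201 127 128946955254875885 60
  0x52e6ae38edf16c6d39ec84f828fde59afd907f47575592f2544f7c4ebbc1246ddb9088d8b43604a43559ea91eea129f4291c5b56d5312878332445ddec110f2c53aa0726c3b0ddc62caa97296b96b52e3a26a2efca568363cefd124fc8f1705397a4a420809cf27da29d8aea82d87d14f5305ca9ea104ce8fde344124e10831bf147d4641c9fada33e0cfa06fc48653e53364bf38a9755ed4ee7d167e48092fdfcec9735b974ad6fab90d135783a37706b2f41cf4234b5bbc3c7aa0d7cd12eca7064e5d989ab37643d1e9f59b11a673c825ed412fd362512279b7e453fa70449418e98abcb6eb503f923ad9f39334f7e476be4de3f912abc16031f9463a1f2257dace1b0aec3f1d19a465d6e4d028bee781a38b8242989ada9120bfc5a9afdc47bba6e530c0f1bdf9a26077c9a7f5e65464c6602ab2b45580f5a58fcfa44beed3c02e7a7e6e5f005546c6969bff3cab8029dd5059ea960f1f053145626b73f09462ccfe87aee473fd3abaf2ece672c812361f332f02c8d08c2161fd74ab6e47feb411811214216ea05fad4155ca8223e15ff0cde9c3f16e394e60d24a43a50ffbe5ba57e2b6b86e0e1960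

/-- scripts -/
noncomputable def S1 : List ((ℕ × ℕ) × Ps) :=
  Fq.dS 2040193 155 77420369445471485 60
  0x4a38ab573f46191cd3ec679cda13f1ad89c84844d48075d4b5fb084c0283d8e667ade565d0ac0137ce940a960156c6433e91e65fdcea10fdf0b2299ef51b9e82f2afbf477f90cd25ad6dece48568943c2df4d4675938617ec80d99a84310da6f693c48003270e3e339d2fdc6b795aac2ccb641cc7d9ea62e913eea30f7d859b21356e859320dd2fffb826f20420c1515ee630c01dc47286dbaa69603524b321077a04a52f5e2e138e5c107756e58691a294874d56846947bde961d5170971a8202adb00a3b88857dd8094a7c85628fb8d4a2b91aead93dd3c56080e237fb9307f369cd6c5d28038b5c38c584ffcf6daf89e78f91a98b9228b302cf9268985c12bff537c3c02ecc2b1793c4bd0f7924a4cedf650369f24bd6f54d84cdd77a0b70d3d81f25e3539b8807be08b3f8afe53b5a953ff710289d4acd879c00527f7d28ce5d404950d2718f9805d8f76cff3149d8c7221ee176ec48eb8f69c031590658e48a909c27ae95bfcf8ee5b27736c4b5a370c7ac619d198b90f07e41d0b1c1a0c92eeac51b8e07da9edcfdd62b10c295267ad4b93b9d614f9aa568f40cce0daabbbce2b539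

/-- scripts -/
noncomputable def S2 : List ((ℕ × ℕ) × Ps) :=
  List.flatten [
  Fq.dS 10200961 160 399588846902784125 13
  0x11785c88cf000a36c1296dcf6b5bdf2d7e58c9c84e89e016c76e7094141e4ec548a88ba17ec82701deb52b47f3bff0dbf75163d88d60644de928f19f9db96747e98ca149e919dd5151258c6fbc89e4eebe74a15c35f122dbb5b0371bfb3b32c,
  [((898128000, 2025), (.br 3 (.kx 56) (.br 1 (.kx 55) (.ky 54))))]]

theorem okC : ∀ x ∈ FL, ∃ CL, okL TAB.Co2.D (TAB.Sm2.mkRows TAB.Co2.A TAB.Co2.B) P Z CL = true ∧ x ∈ CL.map Prod.fst :=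
  fun _ h => ⟨[CL0, CL1, CL2, CL3, CL4, CL5, CL6, CL7, CL8, CL9].flatten,
    Fq.okL_of 576460752303423503 5000000 (by decide +kernel),
    h⟩

/-- **the list** -/
theorem lst {K : Type} [Group K] [Finite K] (h : In K TAB.Co2.D (TAB.Sm2.mkRows TAB.Co2.A TAB.Co2.B)) :
    Lst K L :=
  lst_of_cert h (lst0 h) (l := E.l) (by decide +kernel) (SG := [1, 3]) (by decide +kernel) okC (SS := [S0, S1,
  S2].flatten) (by decide +kernel) (by decide +kernel)

end Cfsg.Agent.SM.Sp.NCo2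
end

-- part: SM/Sp/NCo3
section
/-!
# SM (S3570), sporadic socles: Co3 (helper26; generated by notes/SM/sp26/gen2.py.txt)
-/

set_option autoImplicit false
set_option Elab.async false

namespace Cfsg.Agent.SM.Sp.NCo3

open Cfsg Cfsg.Agent.TAB.Eng Cfsg.Agent.H940.Eng Cfsg.Agent.TH.Spor

/-- local data -/
def loc : List LD :=
  [⟨23, 23, [(11, 1), (23, 1)]⟩, ⟨11, 22, [(2, 1), (5, 1), (11, 1)]⟩, ⟨7, 252, [(2, 2), (3, 2), (7, 1)]⟩]

/-- the pairs which remain -/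
def L : List (ℕ × ℕ) :=
  []

/-- the candidates -/
noncomputable def SV : List (ℕ × ℕ) :=
  Fq.dP 10200961 9161768701010027 128
  0x8d3f871c893cd4bef6f8fadc0e7685212a10cec4bac040af3031abb2d78338f6062f0483d3a76b6a0071a6399ec27a2cbe7263e27525a76cb306601f6ed795167f861f397b1c55fdd870a70b297a763083e50c66e54ae660a06f23c6eb0d145ade4707737c4f06e7245a4bd95fda8a757449c20cfc086565ff90ad4ee1099bc9aab7f2d9201d16841cd202cf490d5ec3d0beb44c03ec3788e518f429517eb4d59b34cba5b996007b8340a4fb1b5ebc152a4e0accc70c94845c084161d3584c744a17b28a5c7e0feb82f715ff7287629c26898b749f2ad88181ef2943686191083718dcb9a32ca68d8c3a747d75ab54de158b66badc6e723338691de7ad75e008029b95a82c5fa70ece5d857a2691c183d2f6e76b304982343e168442bd4521bc0f8faaa5856e0e8b42a6761cf079c76f391a6a86f2200fd4e58f16c2bc678efbf5da384eac9b04568597c8710358cff0401d43f802df85c2514a1eb18aec2eb0dbf017eeb10786877f86fa1b3784ee718568dac4486f82e4f710e0512a5259ac4cb79a87711c575993465dc478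e7d5c9d2dcfdebb8a87cc619c3a84e1dbf9cfe9386ae8448d05daf27fd05d85023ca9902da1b3b31f26ca107d6ddf6f02b57fdf83aab2d1b306462e4c6ea4ff29d88ae57ecbf6308cdc6895f6e740cad584736b2a1220f045d399be1f75b0614689a1aafe8a5c366a6c6ba85247355b07fb4ca5d15a741fe343d0fb28fa871a4708758085b6ee7ee1e1d0cfee8b2c15a400c9254e324443f588166e151caab1b0bf736ab0eb3fd816d10115406c2c93b59228c2e1d9ed9ca1fe88d3e96616db2843eda90048442a4b69171238bc4a592e35b1324a05601e41ccc41ef2e6469966512e903a6514cd9768a85c34bd1ac9d45edacef1cfb86038010b539e6490fdd1719543da38bba1592454306c6861eb0820bdef82c1b2492d5e2bca7195328cd0df248828266358d0e48f09bc85b93a0158e8f0de969028b950f3cb651f20fd02fee6edd8632d59cc134a5bb4fca8c48c80551db3414518e41ee924f03380008e813429b3d9e34b0ba98c4e90e6d58870e1aa354fb585fabe5c161744705e92c2eb68819d2069459e26160a8f5a0eda76456a67d7b6e00d3a1e4f02df332b46cafa91863c320534a212ac294afd1ba2bc0ed204f49a0a624c29e1aa4cdecd0920fa1d9b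

/-- the data -/
noncomputable def E : Ed :=
  ⟨495766656000, [(23, 1), (11, 1), (7, 1), (5, 3), (3, 7), (2, 10)], H940.Eng.D.o_co3, loc, 23, [], [(23, 34), (11,
  23), (7, 15)], [60, 168, 360, 504, 660, 2520, 6048, 6072, 7920, 20160, 25920, 95040, 126000, 181440, 443520,
  604800, 1451520, 1814400, 3265920, 10200960, 13685760, 19958400, 44352000, 239500800, 244823040, 898128000], SV⟩

theorem ok1 : okEd TAB.Co3.D (TAB.Sm2.mkRows TAB.Co3.A TAB.Co3.B) E = true := by decide +kernel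

/-- the types of prime order -/
def P : List (ℕ × ℕ × ℕ) :=
  [(23, 34, 43110144000), (11, 23, 45069696000), (7, 15, 11803968000), (5, 8, 330511104), (5, 9, 1652555520), (3, 3,
  1416800), (3, 4, 17001600), (3, 5, 109296000), (2, 1, 170775), (2, 2, 2608200)]

/-- the types -/
def Z : List Ze :=
  [(1, 2, 170775, [1]), (2, 2, 2608200, [2]), (3, 3, 1416800, [3]), (4, 3, 17001600, [4]), (5, 3, 109296000, [5]),
  (6, 4, 21517650, [1]), (7, 4, 322764750, [1]), (8, 5, 330511104, [8]), (9, 5, 1652555520, [9]), (10, 6, 114760800,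
  [3, 1]), (11, 6, 382536000, [3, 1]), (12, 6, 2295216000, [4, 1]), (13, 6, 4590432000, [4, 2]), (14, 6, 6885648000,
  [5, 2]), (15, 7, 11803968000, [15]), (16, 8, 2582118000, [1]), (17, 8, 2582118000, [1]), (18, 8, 15492708000, [1]),
  (19, 9, 3060288000, [3]), (20, 9, 6120576000, [3]), (21, 10, 8262777600, [8, 1]), (22, 10, 24788332800, [9, 2]),
  (23, 11, 45069696000, [23]), (24, 12, 3442824000, [3, 1]), (25, 12, 10328472000, [3, 1]), (26, 12, 13771296000, [4,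
  1]), (27, 14, 35411904000, [15, 1]), (28, 15, 16525555200, [8, 3]), (29, 15, 33051110400, [9, 4]), (30, 18,
  27542592000, [3, 1]), (31, 20, 49576665600, [8, 1]), (32, 21, 23607936000, [15, 5]), (33, 22, 45069696000, [23,
  2]), (34, 23, 43110144000, [34]), (35, 24, 20656944000, [3, 1]), (36, 24, 20656944000, [3, 1]), (37, 30,
  16525555200, [8, 3, 1])]

/-- the prepared lists -/
noncomputable def Qq : List Fq.Lq :=
  [(23, [23, 253],
  Fq.dN 495766656001 6 0x226bcdde53dacd793132f7126fce382c0e9211a4b1a1796246f6b248c4c,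
  [(1024, 1), (2187, 1), (125, 1), (7, 1), (11, 1)]),
  (11, [11, 22, 55, 110],
  Fq.dN 495766656001 28 0xe2a83c9e301dfd15978428c7aa094f9f8c315f6f3539689d886383cd804b718c955b322c82d188425b888fa4a7598c97c6001321c52119be2fc94bfe0e2e6cab8fa153fe875759ee72a1891a1b580f61759b9bad6751fbd277330851d9d4ff6d3ec26bd7dbc13ab1b3f23f56d6cc8469af61db41c30a904f364c1db1c61283ea1989b9ac0054d662,
  [(1024, 1027), (2187, 129), (125, 1), (7, 1)]),
  (7, [7, 14, 21, 28, 42, 63, 84, 126, 252],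
  Fq.dN 17847599616001 107 0x4ace84a4959610792da99b0e5f305c4af8d5dc2c7ed1e7381fcedba46b82947d77c241843203805a381c5fc945a9be928881e4878a437e6393f727487390f40c439774d2a36e4f361c9f6db120a2c7b024ed8220cac83de09da74a8162fd2f53684299d416a9768dbf06d285d780efc445fbed2f5e77f92bdab56500ddb930a7dbeb05f11deec3d3ecfe4c1aa079f00f3b4f69970d9ebc1343ef925a8e94ac8c1a5f9fa7e7313de3d2daa50fa3ab9278d23195a854cdae4b3f510cddebb0b86b11254aadc2d267c31e30be67534c9148b16cf7fde6f1c3accbdf26c1ce3acdece412c8e07f6f0bf7125f4876f7d584b1ba9f1c0e7e9b10debc7843f6e6f11c3e7972d6523921b49ca7b4ff91b319b5f0cc81b191e2289c60faa50f66f34bc0194fb7ae0a8efaf6a3d8b8134ccf27599e24c8771a0ac8a031f6977f3b9b88aa2555a2b2d64e762dc9c1b4a35635f8958cf449e86b9de0d633026942a891fa1e1b2c5e3ca6c9057b0b0bb227112808c891be036e96e4219e1ad48dd7a77968586248a9374c2512821a010f1d5d1411d07d0a6a811c14f9b4750429efcb98144e6f73f3cd5eeb63c436acb8d9c816441244839a78d1643f79d697c193b368e786a8696518b15cb70d33fcf23299750e490e46393b716c04752cef78ceba9304b2d0b7d4cecb78e71b0f3ce25a39b19f943c0e6f2aa546b35096caa7daedd444467460518e8b1caee60cf379709c7b92b043cf68b612a824f3043c031bac7ecd825a10f89727b03c3f6ee72642daa4450e675b77c11de3317a0e34147d59ea8e5b3d6d940b3b09047a9bcf771e639d,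
  [(2187, 2571), (125, 1), (11, 1), (23, 1)])]

theorem okQq : Fq.okQs E Qq = true := by decide +kernel

theorem okB1 : okB E ⟨23, 23, [(11, 1), (23, 1)]⟩ = true := by decide +kernel

/-- pieces -/
def W0 : List (ℕ × ℕ) :=
  [(6072, 1), (6072, 11), (6072, 23), (6072, 253), (10200960, 1), (10200960, 7), (10200960, 11), (10200960, 77),
  (10200960, 23), (10200960, 161), (10200960, 253), (10200960, 1771), (244823040, 1), (244823040, 7), (244823040,
  11)]

/-- pieces -/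
def W1 : List (ℕ × ℕ) :=
  [(244823040, 77), (244823040, 23), (244823040, 161), (244823040, 253), (244823040, 1771)]

/-- a certificate -/
noncomputable def c0 : Hd × Tr :=
  ((6072, [(1552, 3312)], [(4, 0), (1552, 3312)]), (.bf 3 0 (.bf 4 0 (.bf 5 378 (.bf 1 0 (Fq.fr 0 1553 756311 4
  0x45490d244174f8c7d475) (Fq.fr 0 6 19 2
  0x14d))
  (Fq.fr 0 36 109 1
  0x6b)) (Fq.fr 0 1553 3107 2
  0x933a98)) (Fq.fr 149 1553 250039 5
  0x1cdf18dc09466a34dfaea03)))

/-- a certificate -/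
noncomputable def c1 : Hd × Tr :=
  ((1796256000, [], [(4, 0)]), (Fq.fr 54 37 2035 9
  0x3923838d23b159b264dbb3220))

/-- a certificate -/
noncomputable def c2 : Hd × Tr :=
  ((244823040, [], []), (Fq.fr 699 38 166205 30
  0x28dc5d52384377ff66f3a744296a53e8365aea7bd965477fff9b47ab8b8f81c54be7574f0b182fa0bde5559974c609ff2b6a477e1a2f5d3aaee9998b5f5ad9e98))

/-- a certificate -/
noncomputable def c3 : Hd × Tr :=
  ((391910400, [], []), (Fq.fr 10 38 2039 22
  0xacccf8fb8573c2a5425b3a7447a0c0c1de279fcb4195940e9b3a71740d16))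

/-- a certificate -/
noncomputable def c4 : Hd × Tr :=
  ((279936000, [], []), (Fq.fr 2 36 99 5
  0x19c295e19))

/-- a certificate -/
noncomputable def c5 : Hd × Tr :=
  ((195955200, [], []), (Fq.fr 46 38 6143 23
  0x70472f894e1dcf32bd974200f677b822e6bf2167b0f7d517b6c4d831c294d92871bf44b7))

/-- a certificate -/
noncomputable def c6 : Hd × Tr :=
  ((139968000, [], []), (Fq.fr 76 38 6131 18
  0xd3652d9216e3d30db6ef61e6806ce2867a168a4d57b5d95e27cb416e))

/-- a certificate -/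
noncomputable def c7 : Hd × Tr :=
  ((130636800, [], []), (Fq.fr 62 38 6143 23
  0x67a21faccb32d13409dfd8cf5426d32653c3576c8d5b9b70c9e7cff2d7e9ee2900541d2d))

/-- a certificate -/
noncomputable def c8 : Hd × Tr :=
  ((97977600, [], []), (Fq.fr 24 38 6143 20
  0x1eb8d49f323ccacecb2ac4c0dec2c310c1ae3dfd4228cf8f28f6724c1ebcfed))

/-- a certificate -/
noncomputable def c9 : Hd × Tr :=
  ((93312000, [], []), (Fq.fr 102 38 6131 17
  0xeb7bd552a3ca21a4fd2d2502786f04f4ae738cf1dfdbc0ec91c42))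

/-- a certificate -/
noncomputable def c10 : Hd × Tr :=
  ((69984000, [], []), (Fq.fr 102 38 6131 17
  0xeb7bd552a3ca21a4fd2d2502786f04f4ae738cf1dfdbc0ec91c42))

/-- a certificate -/
noncomputable def c11 : Hd × Tr :=
  ((65318400, [], []), (Fq.fr 60 38 6143 21
  0x2e13038562c5acc720c817bdb5efaee1104b21a980bb523c5359061ddd76976494))

/-- a certificate -/
noncomputable def c12 : Hd × Tr :=
  ((55987200, [], []), (Fq.fr 76 38 6131 18
  0xd3652d9216e3d30db6ef61d5bdbbe6cad07062dccb0c404ae7b449c2))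

/-- a certificate -/
noncomputable def c13 : Hd × Tr :=
  ((48988800, [], []), (Fq.fr 38 38 6143 20
  0x23d9204b32e8d4c0c254e418c972ab37d31680e107d8ef1bf6fa2888e29d29a))

/-- a certificate -/
noncomputable def c14 : Hd × Tr :=
  ((46656000, [], []), (Fq.fr 230 38 18455 22
  0x233d0c2e62e5795bb2c26e16780e2eb5389c30e97365f758ef15eb00eaaeafb53fc534b1cc63f9))

/-- a certificate -/
noncomputable def c15 : Hd × Tr :=
  ((43545600, [], []), (Fq.fr 180 38 18455 20
  0x1b0f7f87e0de7cd1860228905581e83abbe487e8a7fb08d3a4ca0c0894615210068eb8c))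

/-- a certificate -/
noncomputable def c16 : Hd × Tr :=
  ((34992000, [], []), (Fq.fr 46 38 6143 13
  0xe64ccd917c9d267877df2263be85018fff5cd486))

/-- a certificate -/
noncomputable def c17 : Hd × Tr :=
  ((32659200, [], []), (Fq.fr 44 38 6143 20
  0x23d904f0551df7e6dfa60707e4311690da40f36ac295baf52d77e1ee4b7d29a))

/-- a certificate -/
noncomputable def c18 : Hd × Tr :=
  ((31104000, [], []), (Fq.fr 76 38 6143 19
  0x17e6e5adcc16c53cdd26f764118001a20f13aa722ca1797061286f870f89))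

/-- a certificate -/
noncomputable def c19 : Hd × Tr :=
  ((27993600, [], []), (Fq.fr 56 38 6143 15
  0x35fd74e1b1bcaf92ea485841527231b5e360f92cc177943))

/-- a certificate -/
noncomputable def c20 : Hd × Tr :=
  ((23328000, [], []), (Fq.fr 190 32 15533 20
  0x4b690ab376c3bb30ccfa44d8d7ca6571e345ac61cac1af478db1368b8031f5c01b863))

/-- a certificate -/
noncomputable def c21 : Hd × Tr :=
  ((21772800, [], []), (Fq.fr 250 37 53933 20
  0x189ea2ca09715aded137d1edc066133dbcf15fa2d7b7154e539f048b9ef2c623cdc418c7075067))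

/-- a certificate -/
noncomputable def c22 : Hd × Tr :=
  ((18662400, [], []), (Fq.fr 756 34 148747 25
  0x2dfc4e373909deeba060608c56f0f191a3504134babdde844b8699c300034b1693f78bef77d04c2aa072e16b23100e87cdb66ccb6adc))

/-- a certificate -/
noncomputable def c23 : Hd × Tr :=
  ((17496000, [], []), (Fq.fr 0 28 85 3
  0x9379c))

/-- a certificate -/
noncomputable def c24 : Hd × Tr :=
  ((16329600, [], [(1, 0), (2, 0), (4, 0), (6, 0)]), (Fq.fr 2467 36 472381 27
  0xdd16c165e91f5fef29e014b450d3d38c73f89adbd907178fb981fdcf67f9fd8959877a750915a67c7718b4c81011399ea8b5913628c447bcca94e2bd41bf28c))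

/-- a certificate -/
noncomputable def c25 : Hd × Tr :=
  ((10200960, [], [(1, 0)]), (Fq.fr 485 38 12277 20
  0x833a68c96c34ee6e72d4a3f4f747c4e66e6b847c520cab0b0b5f72dbde4283df73c))

/-- a certificate -/
noncomputable def c26 : Hd × Tr :=
  ((10200960, [], [(2, 0)]), (Fq.fr 4373 38 108627 22
  0xd365746a8d6ecac4b0f372c9217f9d5f2b11746882b71425a819060762a4f8f6e142186befb7a6a2a191542653))

/-- a certificate -/
noncomputable def c27 : Hd × Tr :=
  ((10200960, [], [(4, 0)]), (Fq.fr 5 36 185 10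
  0x5c4e7fab980fa306839))

/-- a certificate -/
noncomputable def c28 : Hd × Tr :=
  ((10200960, [], [(6, 0)]), (Fq.fr 39365 38 973669 21
  0xc0ed8150e92c5f503a87436c1323e88ad5570901736992c8b06ff5ab0c79d21e86af1d876711ec3367a958f70537f65ad721e263))

/-- a certificate -/
noncomputable def c29 : Hd × Tr :=
  ((15552000, [], []), (Fq.fr 740 34 148747 24
  0x13ded0c782d6750ea6b9501bcfcafdb675e7a731f4eae34ae692755cee085c21afd0c10a9e8cba31ea8e34d5cbdc875d3be1d00d))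

/-- a certificate -/
noncomputable def c30 : Hd × Tr :=
  ((13996800, [], []), (Fq.fr 0 28 85 3
  0x9379c))

/-- a certificate -/
noncomputable def c31 : Hd × Tr :=
  ((11664000, [], []), (Fq.fr 740 34 148747 24
  0x13ded0c782d6750ea6b9501bcfcafdb675e7a731f4eae34ae692755cee085c21afd0c10a9e8cba31ea8e34d5cbdc875d3be1d00d))

/-- a certificate -/
noncomputable def c32 : Hd × Tr :=
  ((10886400, [], [(1, 0), (2, 0), (4, 0), (6, 0)]), (Fq.fr 17 36 1933 20
  0x1f7b48b2cbd67205a7aecb71624997512fae692de32fc078ec7ca44))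

/-- a certificate -/
noncomputable def c33 : Hd × Tr :=
  ((9331200, [], [(1, 0), (4, 0)]), (Fq.fr 36 34 5499 20
  0xb1ebf1380815009ff87b7bb0105b830f2f1c59f51740196cfd4f39383844e))

/-- a certificate -/
noncomputable def c34 : Hd × Tr :=
  ((8748000, [], []), (Fq.fr 0 28 85 3
  0x9379c))

/-- a certificate -/
noncomputable def c35 : Hd × Tr :=
  ((7776000, [], [(1, 0), (2, 0), (4, 0), (6, 0), (8, 0)]), (Fq.fr 64 34 16515 22
  0x1c3d89c0fc933a2358a3bfc3835b1fd37e227a96db97a21c622150e00c79c90cb9be4cc69d7f1))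

/-- a certificate -/
noncomputable def c36 : Hd × Tr :=
  ((10200960, [], [(8, 0)]), (Fq.fr 1457 38 37303 21
  0x1ba46f128f326dc8e8d73e2cb875c89a2fb4441bfda8a9a025077e6d658962c59ff216ac088797cc))

/-- a certificate -/
noncomputable def c37 : Hd × Tr :=
  ((6998400, [], []), (Fq.fr 0 28 85 3
  0x9379c))

/-- a certificate -/
noncomputable def c38 : Hd × Tr :=
  ((6220800, [], [(1, 0), (4, 0)]), (Fq.fr 3758 34 446179 26
  0xe181655e3bb725f64f6471a3206b0dfc480242fdf0bf67bd3f6abc8096ef128ab9dc6faf38ec709ec8ed914b0c891230f2b5756f3a6bc1d198bad59803))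

/-- a certificate -/
noncomputable def c39 : Hd × Tr :=
  ((5832000, [], [(1, 0), (4, 0)]), (Fq.fr 1100 34 148747 23
  0x79e3abc36a1787833ff879a610d34572df8cfc3afc2df66e06fe79404aa3cf46af1aefbe9835a87d7ca2a98d5fbe9f0e57b))

/-- a certificate -/
noncomputable def c40 : Hd × Tr :=
  ((5443200, [], [(1, 0), (2, 0), (4, 0), (6, 0), (8, 0)]), (Fq.fr 529 38 55391 26
  0xacff12d1273cb59e0dcf2ce91dc299934a1cc23c04552d4d4275c905f03dbc43feaa3c33c50741ba46e2bd280fd1c453ec13b4))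

/-- certificates -/
noncomputable def CL0 : List (Hd × Tr) :=
  [c0, c1, c2, c3, c4, c5, c6, c7, c8, c9, c10, c11, c12, c13, c14, c15, c16, c17, c18, c19, c20, c21, c22, c23, c24,
  c25, c26, c27, c28, c29, c30, c31, c32, c33, c34, c35, c36, c37, c38, c39, c40]

/-- a certificate -/
noncomputable def c41 : Hd × Tr :=
  ((4665600, [], [(1, 0), (4, 0), (6, 0), (8, 0)]), (.bf 8 5 (.bf 9 5 (.bf 3 234 (.bf 4 81 (.bf 5 0 (.bf 1 644 (.bf 2
  154 (.bm 34 1 (Fq.fr 268 38 18491 18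
  0x73fd933d0183a30791a7352ca2cf9d9f44bf31ab7f63c5cebb2d689e4b7b0f5) (Fq.fr 0 35 105 11
  0x39f175267feabc88f04)) (Fq.fr 556 34 148747 22
  0x2fbb222349983ef2fc148ec5a8d0bde1a527ef92004f35d25cf42b7fc893eb727d84091da6833e01e8ff2de4703954b)) (Fq.fr 3174 38 1495941 24
  0x16fff92be9c50673fae6dd6ea5feeff5972cceda7daace8edd6723bfbedb1ac6aef6f49e0ff8fe4d5c0b0c24cb2d0a521a6ae240442611e8bbea22661e2)) (Fq.fr 724 38 166241 24
  0xa39c7209384842e634f9d02ecfc03048be1a9b9fa99dcf077d74e6d7c8b383cf4ef03b9ce035d5050fcccadc1dbb1e7e2e00555)) (Fq.fr 12856 38 4487755 23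
  0x25e43c5326974b55604549a61934f303fab1abf7d8a64e5b67889a992cee76db71e0af01ee4fbebdf506e878bc874fa165e86ff6092971bb46d49ed078ee285)) (Fq.fr 18526 38 13463205 22
  0x512d93d279ffb3ca3a08b1e12745ad02704c996ba64524cacd8d0a86bc923b8b73258d4d8c2499356670facbec8e2067df02ce139f21a80698256279ffa12cca5e)) (Fq.fr 248 34 49543 20
  0x6f21735bff013a4521b4b7eae49ccdd099338eee8b5763ed0b5b6b94c98ea9a8a34bbb4d4c57ed)) (Fq.fr 880 34 148747 23
  0x705c664b5dae5b96bc56e46325946f9ed1f8749a1d1f270cf21473a49d7411d4fc584d919ba82e9763e4f3f2b1772444ec0)))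

/-- a certificate -/
noncomputable def c42 : Hd × Tr :=
  ((4374000, [], [(1, 0), (4, 0), (8, 0)]), (.bf 8 4 (.bf 9 4 (.bf 3 136 (.bf 3 106 (Fq.fr 17396 34 1338415 22
  0x651823590d3c50e7c4993a43146584eb6d9fff6ee12264c03278c49634ac9c973f4ae9bf2432caab1ed63bea10a2a18e09ea42a65875ced4) (.bf 4 55 (Fq.fr 3668 34 446175 22
  0xa95cf48a55e53b5c09d4bfe6bae72f28814163ca5d981a6aa27f0947864942b4e01ddd9dfeeb9a5c4a1746466c936465ecd665c) (.bf 5 7 (.bf 1 448 (Fq.fr 19732 34 1338471 21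
  0x35795b4c57c3f5a258bfa068946791a92c1854d14b2a5d4afbdae880c9ea46d46ccf4e3bb781661c7b8d14e160411d03fb1995d5ddd) (Fq.fr 962 34 148687 20
  0x1b1b7bdf2f3f498c8bd1b6d38bdfeb7ce7dd79475414db264fd0575e4bc54976e881a0132d4fe2a17c6486)) (Fq.fr 84 34 16555 22
  0xf3c9db3f46fef4b14ef80bbaec9eea8d251ea2ff5dc101be708f6534233ca57d5b60f14b5d54e)))) (Fq.fr 52194 34 12046029 22
  0x23ec937be2895ba58e6fe7606ba31573a80f3a4db3d11e41a634e1fe17916298e68759e4465f4e5c2e87ac6f0a2970095745bb68179275733a0e4048febcaca90e)) (Fq.fr 1410 34 148747 22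
  0x24e9177867e7aa6f7db19d036e12f6a20ccb8425f765dc91ac6b08eda2d8d1f97d7c490094f5e06cf84e07e7039535a)) (Fq.fr 802 34 148747 21
  0x16eb171029ccbbb4191b7a26d9fba84aef2622997bb7f3cad7133071f1ac07a929da97f6882063a2e2382f73316)))

/-- a certificate -/
noncomputable def c43 : Hd × Tr :=
  ((3499200, [], [(1, 0), (2, 0), (4, 0), (6, 0), (8, 0)]), (.bf 8 10 (.bf 9 5 (.bf 3 263 (.bf 4 95 (.bf 5 14 (.bf 1
  896 (.bm 3 0 (.bm 34 1 (.bm 34 0 (Fq.fr 116 38 6123 23
  0x159a0bf7a7c6eb912f2e6edcab056db246f8ef42ce0bd785584dc936540c97dc8648c037d) (.bm 35 0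
  (Fq.fr 53 38 55403 22
  0x168aac531eb0a0f357aedfcb4890b0d857158343172f90f372e492a6dd3fed878b98d2e3c5c3dfbfd47ff61) (Fq.fr 195 36 52457 21
  0x111f333bc6330a0ec2c1dab104d7432daefdb44ec4fe5a97ecf078f94aac5eefa83912785bb6a53c149))) (Fq.fr 991 37 53979 24
  0x139be5972fc06184f27971403f58305d18ef62c8c19bd43df76a3a026f97568a754da565a3fb8c3bbfa14381ba4859b)) (Fq.fr 92 38 18499 22
  0x353f799844c7799b138609a57816579ec14439d651b043b018b0ae8bfa8bee0f140d3c48944653)) (Fq.fr 197 38 166245 22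
  0x8140d04837b0ebe7c81a3e3f6673e9683bdf0bc7d5168034e35734d26df62820a004703d09a298088160851871498bc)) (Fq.fr 540 38 166241 25
  0x12473f48979fa3020ab9fc3bd7eac5a38877a4d4669ec0145b430d6de771d14d9c0e7132abbc8dbe807753eae2d4221c0bd19d091cfb)) (Fq.fr 1768 38 498667 21
  0x567bbd69bc018ebbee84f39f14f21dc689b11d53592077d51baf2029ff59a604d73e4251bde7b294467335744953fc89906)) (Fq.fr 11629 38 13463205 23
  0x5ada286570b081cd0743366d1d0f72e3b5d69f15e24c584f8ccedbeff4c82d0da29193b6599ccc7094427d5948494de0a0ad27f9c0a9eb7d18ed23cdbdcb963656e8b82f)) (Fq.fr 675 34 49543 22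
  0x2cb19d537df9e2d6c85ca035fd52fde3a6f73b54e03cedee487aaa495b1d361f8e56f4a27613e06594006c)) (Fq.fr 944 34 148747 22
  0x31174741494c830a82f8d8f82028ad0cad4dad7b06459d15240af9573ac132d59d819821a95a6ef3c3ee863ccb7123a)))

/-- certificates -/
noncomputable def CL1 : List (Hd × Tr) :=
  [c41, c42, c43]

/-- a certificate -/
noncomputable def c44 : Hd × Tr :=
  ((2916000, [], [(1, 0), (2, 0), (4, 0), (6, 0), (8, 0)]), (.bf 8 16 (.bf 9 6 (.bf 3 354 (.bf 4 144 (.bf 5 21 (.bf 1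
  896 (.bf 2 308 (.bm 3 0 (.bm 34 0 (Fq.fr 116 38 6123 21
  0x9aa7abb21f87745876a8486cec119513e23825e7ba19ff0fdf42360424d1dff859) (.bm 35 0 (Fq.fr 205 36 52457 23
  0x13e3f3af5c6b97ca4bae4b95ba250108f49c33aa0f2194cd5eb4dc67a93e591e2f560dca4191c18f9a7eef0f770) (.bm 7 0 (.bf 8 6 (.bf 9 1 (Fq.fr 24 36 5801 20
  0xbd8c57980412a03c4eec3a51f78d8c07a899ad8e82ea16d0bb4504d44b68f7)
  (Fq.fr 61 36 5801 22
  0x2d159fb6954adf806a4353c83cebc5db00f70c672dde62965bc0c758f9db4dee5f85a)) (Fq.fr 3171 36 157433 22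
  0x8765c8b522f851856dfcecf781bfbb137e8a397071f5abe5a4e9a63c0d915adb99b209f8e171eb320afa99af9958d36)) (Fq.fr 33 36 1913 19
  0x79e00376eccb3399ef8fc4a2681aee733f7adcee1b55043ebbd0)))) (Fq.fr 0 38 1495939 23
  0x64172df22e2e283e4544e4cff8515fdbbd9eea689a9a0ac5714a28595e46a485a747f13cbe4820a688867109963a3e5fb08c77a4f3ab80e65cd13e)) (Fq.fr 2077 38 498665 24
  0x3179bc82b5c0bd90914c234e09ab97b61d8280cb1a6c2c5c43f65f716a90203d623aed8e570a68a4c056a93defc2e91a9d920e272dc433d8)) (Fq.fr 153 38 55437 23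
  0x11c2a993b9639f8f8e40145a4158b8938c75cac5e94703c336a607f9454286f17c19743d3a5ecc56a8eaa0094c3)) (Fq.fr 12410 38 4487753 22
  0x5983c6c91a3e67efeb015f52f30bf91ed8551496b52d40a9f1f50f2059fa4251021e5d5f613e21b075651c1a46d9fd8fd7b1865b2a2d7fc8366cef8f)) (Fq.fr 47 38 166243 23
  0x18545ca8d4c274498d6f6eea350c5eaf401a5779686deac2076ef6d5eda98e0a91ed7c5f143505d321e5aa9ebfd83927128d)) (Fq.fr 8651 38 4487753 23
  0x3f7d376160e9edfd2100d4d67d0a570677397e7c85fa7333211350cd1e77c195e67f4a234c4e20fe0411351e84a6bce3d1b83224364843d824adc71ce58301a)) (Fq.fr 675 34 49543 22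
  0x2cb19d537df9e2d6c85ca035fd52fde3a6f73b54e03cedee487aaa495b1d361f8e56f4a27613e06594006c)) (Fq.fr 880 34 148747 23
  0x705c664b5dae5b96bc56e46325946f9ed1f8749a1d1f270cf21473a49d7411d4fc584d919ba82e9763e4f3f2b1772444ec0)))

/-- a certificate -/
noncomputable def c45 : Hd × Tr :=
  ((2332800, [], [(1, 0), (2, 0), (4, 0), (6, 0), (8, 0), (10, 0), (14, 0)]), (.bf 8 20 (.bf 3 363 (.bf 4 123 (.bf 5
  42 (.bf 1 896 (.bf 2 374 (.bm 3 0 (.bm 34 0 (Fq.fr 136 36 17465 22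
  0x204627122cefd1489e68355dac0ec7dccb7dfe25969e46b93c300d6cd553515a4c55486985f498) (.bm 5 0
  (.bm 7 0 (.bm 9 0 (.bm 11 0 (Fq.fr 2 34 16503 19
  0xc1077606b0f35dee5ce71ad630da5218441a2d06d244e0e8f0c111c22243e92cd) (Fq.fr 99 35 5641 24
  0x61c17caae9dc900d7318f9458166d74e33cd235396f7674e66c2935440d93f14d960a75b0e5)) (Fq.fr 243 37 17951 24
  0x2f527dec238927b78f0012f70d6da856dcb95b5b1b69d927e91e5863a30798bdbb9d73f5a95712e3a4f49)) (Fq.fr 29 37 5963 21
  0x7e24def94448c3fd11e9df25fca87077ba4ed97a68a0d01517b6fe2cd82d5940b3)) (Fq.fr 55 38 6123 20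
  0x6ef89ff355f4ffa81b04392023a448a75c3771b359ae71089d4213dd47d4733))) (Fq.fr 33 34 5479 21
  0x165b48357d19f1c20c8368d3d055188b16834d2e39012ccf417e580b460d3afbaf)) (Fq.fr 865 37 161867 23
  0xa980f59d8026ad11b98eba55186dc0f83aa3727bb8aeeaf4367e037280f40f0e21b644a2172af87b4c5ade591ff2102f049)) (Fq.fr 1167 36 157497 24
  0x3ff20cc96b7503252aed8eda79c62b667dee9ec6d2a082022ca6c5c8a9fb689916cdb57ad3a4fca98efd755ff029c7403919738)) (Fq.fr 454 38 166241 24
  0x9f36fa59012142e3c56b7830fb55746bc6f6c8c89e1344bd6e5a39baa57a082c2db91ce98cd7f9e0125b60108189785b0fd98b6)) (Fq.fr 541 38 166243 20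
  0x1312d7ec99993644f75b3727ed050aa60a03581078119a38319a5853c2f6e83ce406274e2271b49fc92630a)) (Fq.fr 161667 38 13463139 23
  0x173de57122ec59953dff937b4e36ad455c22c40bcc6c1793bf790ff0e3670fc147d34a1054030de36923c45b14173cd2619971235273b7b12a9c3778e7f0816d76b4964e)) (Fq.fr 16392 34 4015363 22
  0x5135fd45f99305d564e2944a905303cb9f0f37824121851f32530d44d6caf7c775d21bf81be811d34bd341261f3dd400ce0fc1fb5644040921d0667b2)))

/-- a certificate -/
noncomputable def c46 : Hd × Tr :=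
  ((10200960, [], [(10, 0)]), (.bf 8 0 (Fq.fr 29 38 6179 18
  0x4d624068d84a19f2351cde4bb353dc8226ea134e0861fba6160d1d105) (Fq.fr 99 35 5703 21
  0x1a05afa5b367023bd076960addd728e52a7c844883a94704e879dbf505ac830197)))

/-- a certificate -/
noncomputable def c47 : Hd × Tr :=
  ((10200960, [], [(14, 0)]), (.bf 8 0 (Fq.fr 287 38 55427 23
  0x2d34ed08bdbf0db6e48a8685081ceabdb81ad22ab14fa85fd17ce78c761953aa00464aef6370b31eb93fc898bbf) (Fq.fr 1457 37 31955 21
  0x1b317f03bb2a9446ad47e874dc1382c4bc1e2fcf78f6580b605a15bb28f396fcd69bdd008d0f1ea)))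

/-- certificates -/
noncomputable def CL2 : List (Hd × Tr) :=
  [c44, c45, c46, c47]

/-- a certificate -/
noncomputable def c48 : Hd × Tr :=
  ((1749600, [], [(1, 0), (2, 0), (4, 0), (6, 0), (8, 0), (10, 0), (14, 0)]), (.bf 8 30 (.bf 9 5 (.bf 3 526 (.bf 4
  148 (.bf 5 70 (.bf 1 1120 (.bf 2 440 (.bm 34 2 (.bm 34 0 (Fq.fr 660 38 55371 24
  0x2b4e6859ac3b49f220c8e0109ce75524382c7e3c909399de010bcce63d24f98a0cc0fbc6e3626cb694e483ca9f53542) (.bm 7 0 (.bm 36 1 (.bm 12 0 (.bm 13 0 (.bm 15 0 (.bf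
  3 457 (.bf 4 97 (.bf 5 49 (.bf 1 896 (.bm 3 0 (.bm 34 1 (.bm 5 0 (.bm 35 0 (Fq.fr 64 37 17981 25
  0x28ea73f0888db035ea2b2e70504b143f1db0e37ced9dac16fee6ee8309a8d2e8a5ca4ad1da3d9b5b49d706fe2) (.bm 9 0 (.bm 37 0 (Fq.fr 1747 38 166179 24
  0x273134924b14282695a8e9d05e2f099e5bdbd05f4c84dc3a93a8f6f6df36ae68750f2e7b627bbd21b4fc456b82cf4d097b4de99c) (Fq.fr 148 38 18499 27
  0xd4a61a1ef6ba1869ffe8327361637f2aa69c68dbf2d16cc9f35099667d12f420215331508511ee8d5261742967ff480)) (Fq.fr 92 36 17465 25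
  0x330124dfd36de6d7a1bd305b991bab6f61dc2a12e23372bc32e64cdc4bfa70444c31e07b4a8aaf7208528e9d))) (Fq.fr 4 38 2019 23
  0xc34c10b8561c3651f981d079340059f046837014107c52e3eab00f075d0b4e9)) (Fq.fr 161 37 3365 20
  0x504f51810eab6c4765214a8a3dc01ea123f9325b5084594fb9e875808f2)) (Fq.fr 0 34 5537 22
  0x19124f74b935a733c3fa9c338afc4d1e7dc0a0dc590c4c3b9dca1c6054c7df81c4df1)) (Fq.fr 343 35 51065 24
  0x18e7453a6f6179f17b0c2a84545c1741ae4fd8155f97570d2c0b0bc1ff648e3e7984b66af8d10f3f3edbf5d446ccd1)) (Fq.fr 50 35 51059 23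
  0xb80e0ec956d7f5769542b99a0d2c906090df181c445c553dee0641de0346cf3bbabe349060727bff1c330db6)) (Fq.fr 409 37 53915 22
  0x6a2d12fd1a2e7d2c98ef6670ecbdf1722123479cd31e0cf04513d3ba33c9195392fd3196ca6ded3955218d)) (Fq.fr 11455 37 4369661 25
  0x147ce7ffc3bc9e8f8a550b86baa5e0a29a5e52184e99e3c6496ae1056593fd2190d49879951b0957e6a9f54f1032dc4a8c22a76aef71e37d9d44b6a7a162b3b20ad2be3e4b)) (Fq.fr 673 34 148687 22
  0x35db8d4b6defaab45ed2efbb17997e150c63d1263248d01e36d005d7ecb39961c5ed952ee73e0faf57bb3705d060cc9))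
  (Fq.fr 161 35 5055 18
  0x2c17e7aaa209266c8dc315c46569265a2195a80baed023dfe1275d01)) (Fq.fr 61 35 5641 22
  0x3e300a2e8a43a8ed66e11da84d4126ef54d70d3ee502945b889becb60565fadf4285c)) (Fq.fr 161 37 4335 20
  0x25c6fe6d9f1b1539ab9ba29248d575c4481859ff2be614defde4ec26723a6)) (Fq.fr 29 38 6123 22
  0x11dcbc67fa183dfe681aec30fe281a3f67254c49ea30326cdb17adcd6c13cebbf5ae19))) (Fq.fr 161 37 2995 21
  0x5b7137e0cec536494f8f06dc4b0097d2e4f712604e44a4387e2157d17b18e)) (Fq.fr 491 37 53975 21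
  0xb4cbb38b76b08de4029e0013643e7a78b1219e04cead6f2439bdba638ec0fa47316a50d2b808f7c29b)) (Fq.fr 79 38 18501 24
  0x7e0d1722452b1e19ff1eb5ac434e2a521761958303dce628586843d01037caa258df8e0fad2407d38a79)) (Fq.fr 24 34 16553 21
  0x29e8554b74de3e5ff9bc7f0012ad200268c97f29fff63fd34616215c2e7871e2f75f9ebca7)) (Fq.fr 12101 38 1495875 19
  0x55a855e198530575a53d98e5fe8623b82934604210224559b7b698839afbb649ffb7379c9668893d44269e2aad90aebaf)) (Fq.fr 18157 38 4487753 22
  0xf69a0370fae967c28341ff8a048a4657f299f4027796b86baf81e36c46bd6d16d576c125946eec82c64338de51ee520416703d98c2a5e925bf495e0f5)) (Fq.fr 1371 33 144315 20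
  0x8da6126febd5d6a74bd68d55f6fe9214354a10d76bfbf89a3ee8af6a416890fad50ad4ad418efaae3db84)) (Fq.fr 923 36 1417207 23
  0x8efa2b640116746bb1fd1379b6d93403f8e552b5ba66c083454ba7115ab6708d79a8aa89d09d3b9660360e89c8bf3f27f218f4b5768c31cb04273)))

/-- certificates -/
noncomputable def CL3 : List (Hd × Tr) :=
  [c48]

/-- a certificate -/
noncomputable def c49 : Hd × Tr :=
  ((1458000, [], [(1, 0), (2, 0), (4, 0), (6, 0), (8, 0), (10, 0), (14, 0)]), (.bf 8 37 (.bf 9 7 (.bf 3 570 (.bf 4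
  141 (.bf 5 84 (.bf 1 896 (.bf 2 440 (.bm 3 1 (.bm 7 0 (.bm 36 1 (.bm 37 1 (.bm 12 0 (.bm 13 0 (.bf 3 450 (.bm 34 1
  (.bm 34 0 (Fq.fr 264 35 16981 23
  0x3914d6c9d9a438f9757cda5b37adaa3c4ba01ea8ec6c370ca775baab4b444c83ef864413ed6049873) (.bm 11 0 (Fq.fr 156 35 5647 21
  0x3505b6c4710a75bd0692112b8254ed08c8125725fee70d72fb8a366b03f04ddac6) (.bm 15 0 (Fq.fr 237 35 16981 23
  0xbb5f5c339d05e0ede3c5c989e5867a618e9f67875f382de36fe52f9cad36679af55aae70e68360f5)
  (Fq.fr 161 35 5193 20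
  0x16117d4cc118355303ed4b5aa129084af600f1145b8c036d2f9757aded1081)))) (Fq.fr 13121 37 261255 19
  0x3bffe0e916fc9bfb20fd854b41b70c7d77cb51e2d7597589a5a9bc1cba90566a4aa671610ec33aeb4ddffd)) (Fq.fr 1351 37 485549 24
  0x50918856a7dadd2d32f947faf0c652d777605d051433b0710d79ae75ce8a729e20caa6be0bccabb6916bb07e5a246b88b327b3fa74959833b)) (Fq.fr 127 37 6009 19
  0x5acfc02a7aff7d084cc02e08eec85cd99c57a63b833bb0f813df69943087)) (Fq.fr 79 30 4835 20
  0x128e6265083fc39cc34a05029e0851f29975bd756589d2b061c889f067d5be)) (Fq.fr 51 38 6123 24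
  0x1e70699ce651338960f6c5ec1a9e584fee88ab1a9a0e9d8095d243610cc1853dc90285080e95)) (Fq.fr 133 37 5963 22
  0x91be4df585d088bff8f2b4183e826d35cd6ee5d85bae1f502debd9cb3986c3f8842e6)) (Fq.fr 35 38 6123 21
  0xc2c922cebee3cd8743f3debb9b42a1dc001b099522408c303be963a75102c8d2cd)) (Fq.fr 15 34 1807 20
  0xfcb41e3dbbd3170cb81a071cdfbcd2cf641fbcb58e82d045c91189))
  (Fq.fr 49 37 6023 23
  0x28de354e3bd9785d5dff1bb7d2da592e6d9ef540b2eb832a2f0ba6496ce24e531ff24aef)) (Fq.fr 731 36 52457 20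
  0x4f2411d7a54801867928febc25d3d6731820dd108fca2973182fd95778999d9802567651d21fa4)) (Fq.fr 9 34 49601 21
  0x5d806adb6467ce927c5b926ab355df84417ded1de926714935f42e79fa1442605169ab353a62263849)) (Fq.fr 10243 34 1338415 19
  0x17c1d4300dcf1defb7e5b9b4ed630a48591b1fccbf6e6d0a0ac7ed5a1e898cd5fc654cecd1299b982d4f3f406cba0d83a)) (Fq.fr 9075 38 1495937 20
  0x688250b75fc14c8731da0203c17f50b5202a4219162e02e221df912d4ad2dd0793961566e73f70a330e320521f684ff4bdc9fa)) (Fq.fr 1479 33 144315 20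
  0x3bc8760f5775c1089754cafc6c25dc017275aa822ee4ceadbfc3971f0133a71a00ca89f78683236f9ddb8)) (Fq.fr 581 36 472423 22
  0x1021fb8a6b8e6f9b506b9ab427179837c8770bbbcc50e3e958ff3b8f716595dd85b32bb00104209e495c3cfbf98dad00b4aca51c)))

/-- certificates -/
noncomputable def CL4 : List (Hd × Tr) :=
  [c49]

/-- a certificate -/
noncomputable def c50 : Hd × Tr :=
  ((1166400, [], [(1, 0), (2, 0), (4, 0), (6, 0), (8, 0), (10, 0), (14, 0)]), (.bf 8 50 (.bf 9 5 (.bf 3 750 (.bf 4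
  171 (.bf 5 105 (.bf 1 1568 (.bf 2 616 (.bm 3 1 (.bm 34 2 (.bm 7 0 (.bm 9 1 (.bm 37 2 (.bm 11 1 (.bf 8 45 (.bf 4 141
  (.bf 2 594 (.bm 1002 0 (Fq.fr 0 1003 2007 1
  0x7d5) (.bm 1003 0 (Fq.fr 0 1004 2009 1
  0x7d7)
  (.bm 1004 0 (Fq.fr 0 1005 3013 2
  0x5c68c1) (.bf 9 0 (.bf 8 15 (Fq.fr 216 34 16495 18
  0x506d39cf8412ae5b9be1d261d2d91da6e5071f1af241b3fa9d4078e46b17e61) (.bf 3 216 (.bf 5 63 (.bf 5 21 (Fq.fr 344 36 17465 21
  0x2839b243e83a60b273ed26fb248ff9ab31f35b10628b6a82e2a1c2081c646abc88a95b8c0) (.bf 2 66 (.bm 3 0 (.bm 34 0 (.bm 5 0 (.bm 9 0 (Fq.fr 42 36 1913 23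
  0x26a8ad89feb846222fed7f3eaded6fb6dac8dcf8b270e86aa32043ac5462e0a) (.bm 36 1 (.bm 36 0 (Fq.fr 80 37 5963 24
  0x6c3c2a84340c4066d59e7ecfd71f80c50b20ef760e4845221aae55bea398e48fc98abbb3676) (.bm 37 0 (Fq.fr 180 38 18435 24
  0x4c0bb01bb49e6e1fc3aa4c385466686c4c363b7ed8b9e14957950991fd4bdf73cc1a3bcbb545f4b28d2d4) (Fq.fr 358 38 55371 23
  0xef848648877d63b04eed3161f4dfd8e6429015989fb8d3c05bc6e852f5f2f6664fd7a6b6379713d919a1361ef0))) (Fq.fr 2 37 5963 23
  0x6f87326030f69af19326afdaf32e4a7d2c26f911390abe2a24b13a19c3e2ffcdd52e7015))) (Fq.fr 34 36 5801 22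
  0x3499d3f7cfd09f7bcc4f7373907dc3606815002883ad14a6b785441c22d909fb51ce1)) (Fq.fr 40 35 5641 22
  0x185cc05b194dd1bd809edba49e56c144f8a607eed316ffcf5301055a0f633d0f44d7d)) (Fq.fr 170 36 17465 22
  0x15ccea5bde9959f9e97b7e6d66b630e3b2a9f1128dee8f6c30623f6e83708791e7f515bb3d740a)) (Fq.fr 324 36 17465 20
  0x6fb6a0cbd35f1a21dcfe18cf62501b9acaeb99405a4e4d9ce92b0160c65b12e7ac28f8))) (Fq.fr 22 36 1973 20
  0x1859cd57a2739487efcf1c11414d8290af6b95fbd651697c9f14127)) (Fq.fr 52960 36 4251497 20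
  0x574162efb9fb98eaffa365855d42acc75695962be333bf7980f0ceecbee8ef9429a20faf590cd9559b5ff7d0b7e5d0c0d1b1f1975eb077))) (.bf 1 1120 (.bm 34 0 (Fq.fr 32 36 5801 20
  0x23f4c40df676f0b5c1821d2dddc0702d3952d833a49bc210ffd1fa115ccbc83) (.bm 5 0 (.bm 9 0 (.bm
  11 0 (.bm 12 0 (.bm 13 0 (.bm 15 0 (.bm 16 0 (.bf 8 5 (Fq.fr 94 37 5969 18
  0x26087ed145c5446a6a116b3be990369634d056d18e3174cb31e7b0e6) (Fq.fr 471 32 46639 18
  0x43e8f240720a7e3c1414fe76ed013832243a5f909a64fa34373d3515f838a6fc681c9d)) (Fq.fr 7 1003 4388125 19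
  0x8d82531675329f1912a08c9ddd62e3a6394aa16a4c986c3338a12a129135eb8047f6b66f0ae3c5bf74e77e2304bb5a614ef123c)) (Fq.fr 1 1003 4388125 15
  0x761bc2ae8de8408d344cf0a26973c0efcc964f28f06e408e0a22f7cc97dfeae5dac5062b22be5c5f1)) (Fq.fr 5 1005 4396873 18
  0x276aafc58fd73d822e5a159400556bc56e913560482886e8a9d67242089c1f3442d79320749cc921431b50da4ba2638efd)) (Fq.fr 5 1005 39563833 19
  0x8c751bd8449a70ce4162e4366afd5ba93c9d4fb2680e3172b2435b4b91904cbcbfafd885876384559416a12e25dcb21e0166841d1f26f1d5b97d69)) (Fq.fr 1735 38 166179 24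
  0x7efde6207b5c37ee6cadb40e005f06e6c9c873e6f23091f2669be553c2aae1f3015923bf4d070febd8ef0c5c2888733dccc771d7)) (Fq.fr 235 1003 13162369 21
  0x94b6ce17f6f7c347e61bb305557d7d327db59472f5e257621d7a63645ba4d79249b7329b03ab725433f70f6cd7fd60dc716a2b660281a90560b1cba2b57))
  (Fq.fr 177 29 14071 18
  0x5de7b666c5d009e795a67c503b16c2ec6e9a8d77deedaab34c85106c9bbd5b))) (Fq.fr 731 36 52457 20
  0x58918da32ebfead9b2165fb69a03bbf364646cab71ffe989762bf870a64a9dccddf344b41925cf)))))) (Fq.fr 295 38 55433 25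
  0xa3c8eec99aa00998421dda3c4b764f9a137e0d180fd5a022924ac6082a1979b5b25e375bee4d9cd24dcd93e19720459ea)) (Fq.fr 549 34 49543 18
  0x29cfa386917440eea6889049d83054c431397e187ee367894a88c292a6237d40a299c8)) (Fq.fr 261 36 157489 22
  0xb79b436daa90acabc6e3a82cb7227a8d96de278b75eaef124abc3bc7713eccab8b66199abcce2b33ebc26f642173e1)) (Fq.fr 23 36 1913 20
  0x20677836dd15362a3c15b51489c0297d14ab41bffe4e8026d11661a)) (Fq.fr 29 38 2019 22
  0x1983043ab6d7cd67214e0674b90fd88524571338497ee2a6def8f464c2992)) (Fq.fr 39 38 2019 21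
  0x3990cd5f459b918b4b8a2d337e1110dba286214d2d1c7acef866420a56)) (Fq.fr 31 38 2061 18
  0x47a781b949a2a0b742dfa31bacd6155151055a90569f01849f)) (Fq.fr 161 35 2695 18
  0x22fd0af0e64ee63d917f4f4f80d078bac5b46234f315e4ae65d6)) (Fq.fr 19 34 1807 20
  0xfcb41e3da979fc8383c8ea4f6052c214075538fbb360265095d8c5)) (Fq.fr 483 37 53975 22
  0xb8162142ea2feb947f0e89238ace06194421b1936a48f1dd220e18747e9212324e4fefcf0e5b4c4c800234)) (Fq.fr 243 36 17465 19
  0x16a5f22e73c44b63b12c6429cc3a725bc2353c21562da546e225d0caf57ad429e77)) (Fq.fr 197 36 17525 21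
  0x5d812bfc13d659de3106bab89d34d989dda927536761c8fd76a1e874f81b39c64fb1956a1e)) (Fq.fr 1 15 31 7
  0x62a0bcfb8)) (Fq.fr 20605 38 4487753 22
  0xcc9b754d3d086a57eb10583a70a50539de587f66047051979d00e9f9b6c495d0238a6bb9110ed9492085e4ba702132cd53231e8dd4a57c129d01404eb)) (Fq.fr 3921 29 380515 19
  0x616918ea69923753b1f87627a1a11f6823f1b131f90d7e162e44aabd652d20e8b2734f1c6f4db7712ceb803)) (Fq.fr 193 36 157495 22
  0x237ea6f0ac353431de7e66e44df05bdabc8d1bed89be7f596b99560640930f5c842895aa2b36ab2cb531b42663e64ac)))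

/-- a certificate -/
noncomputable def c51 : Hd × Tr :=
  ((10200960, [(1005, 4080385), (2041192, 6120576)], [(1005, 4080385), (2041192, 6120576)]), (Fq.fr 65 2041193 992020805 11
  0xe1ce095739c744f4e0565ed8661ff2254c40666ce6f43199902d3456c5a2a5b5a2bf3decdbdfe2cb0))

/-- a certificate -/
noncomputable def c52 : Hd × Tr :=
  ((10368000, [], []), (Fq.fr 6662 34 1338475 24
  0x14e19c4800ac09e28f73a57ee71d56921f74dabe1948798fdbcffb10b434ffeea2224b0903bc06e561dc1db56c53b8172dbbded03935afe52370d5ebedd))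

/-- certificates -/
noncomputable def CL5 : List (Hd × Tr) :=
  [c50, c51, c52]

theorem okDq : okD E [(5, 3), (3, 7), (2, 10)] [W0, W1].flatten = true :=
  Fq.okD_of okQq (by decide +kernel)

/-- the enumeration -/
theorem lst0 {K : Type} [Group K] [Finite K] (h : In K TAB.Co3.D (TAB.Sm2.mkRows TAB.Co3.A TAB.Co3.B)) :
    Lst K SV :=
  lst_of_enum (E := E) h ok1 (H940.Eng.D.ords_co3 base) (fun _ => List.not_mem_nil) List.mem_cons_self (dv_iff.1
  (by decide +kernel)) okB1 (l1 := [(23, 1), (11, 1), (7, 1)]) rfl (W := [W0, W1].flatten) (by decide +kernel) 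
  fun _ h => ⟨_, okDq, h⟩

/-- the heads -/
noncomputable def FL : List Hd :=
  ([CL0, CL1, CL2, CL3, CL4, CL5].flatten).map Prod.fst

/-- scripts -/
noncomputable def S0 : List ((ℕ × ℕ) × Ps) :=
  List.flatten [
  [((6072, 276), (.br 4 (.kx 0) (.ky 1)))],
  Fq.dS 28337 71 20523588861847 22
  0x1daf5b9cc7de304aa668f9ee8533eeee9268f698f62795b24d9f59226953a4df080122276d373ce5bd7ec216e0455ae256f46dbd81156db61b29ac88e1f9d48e3e2c8fc147a50088ff9b4792d466bebd2cd8571095c3e5b28c3c83ce2e792b26d75a51e29b18eb84e2f669ff04b1b30e1962174fa0b1513c348a,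
  [((10200960, 30360), (.br 6 (.kx 28) (.br 4 (.kx 27) (.br 2 (.kx 26) (.br 1 (.kx 25) (.ky 24)))))),
  ((10200960, 31878), (.ky 29)),
  ((10200960, 35420), (.ky 30)),
  ((10200960, 42504), (.ky 31)),
  ((10200960, 45540), (.br 6 (.kx 28) (.br 4 (.kx 27) (.br 2 (.kx 26) (.br 1 (.kx 25) (.ky 32)))))),
  ((10200960, 53130), (.br 4 (.kx 27) (.br 1 (.kx 25) (.ky 33)))),
  ((10200960, 56672), (.ky 34)),
  ((10200960, 63756), (.br 8 (.kx 36) (.br 6 (.kx 28) (.br 4 (.kx 27) (.br 2 (.kx 26) (.br 1 (.kx 25) (.ky 35))))))),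
  ((10200960, 70840), (.ky 37)),
  ((10200960, 79695), (.br 4 (.kx 27) (.br 1 (.kx 25) (.ky 38)))),
  ((10200960, 85008), (.br 4 (.kx 27) (.br 1 (.kx 25) (.ky 39)))),
  ((10200960, 91080), (.br 8 (.kx 36) (.br 6 (.kx 28) (.br 4 (.kx 27) (.br 2 (.kx 26) (.br 1 (.kx 25) (.ky 40))))))),
  ((10200960, 106260), (.br 8 (.kx 36) (.br 6 (.kx 28) (.br 4 (.kx 27) (.br 1 (.kx 25) (.ky 41)))))),
  ((10200960, 113344), (.br 8 (.kx 36) (.br 4 (.kx 27) (.br 1 (.kx 25) (.ky 42))))),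
  ((10200960, 141680), (.br 8 (.kx 36) (.br 6 (.kx 28) (.br 4 (.kx 27) (.br 2 (.kx 26) (.br 1 (.kx 25) (.ky 43))))))),
  ((10200960, 170016), (.br 8 (.kx 36) (.br 6 (.kx 28) (.br 4 (.kx 27) (.br 2 (.kx 26) (.br 1 (.kx 25) (.ky 44))))))),
  ((10200960, 212520), (.br 14 (.kx 47) (.br 10 (.kx 46) (.br 8 (.kx 36) (.br 6 (.kx 28) (.br 4 (.kx 27) (.br 2 (.kx 26) (.br 1 (.kx 25) (.ky 45))))))))),
  ((10200960, 283360), (.br 14 (.kx 47) (.br 10 (.kx 46) (.br 8 (.kx 36) (.br 6 (.kx 28) (.br 4 (.kx 27) (.br 2 (.kx 26) (.br 1 (.kx 25) (.ky 48))))))))),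
  ((10200960, 340032), (.br 14 (.kx 47) (.br 10 (.kx 46) (.br 8 (.kx 36) (.br 6 (.kx 28) (.br 4 (.kx 27) (.br 2 (.kx 26) (.br 1 (.kx 25) (.ky 49))))))))),
  ((10200960, 425040), (.br 14 (.kx 47) (.br 10 (.kx 46) (.br 8 (.kx 36) (.br 6 (.kx 28) (.br 4 (.kx 27) (.br 2 (.kx 26) (.br 1 (.kx 25) (.ky 50)))))))))],
  Fq.dS 1020097 154 38460460291953443 17
  0x1848460e04330c24d9e2f525ab776aa459f6b49d4983c461991a8cdf22f6b4184457ba043c6e0d9646a4aeb07147ead542f2dec607819cb097638af95ab1ff5ded447045f29bcf49e81a22cb97f418e65ffe7e1c4d15e47b8f3737370542225b5e59c91c9fa5b112c6f4ac97e11b22779c55800571e]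

/-- scripts -/
noncomputable def S1 : List ((ℕ × ℕ) × Ps) :=
  Fq.dS 3400321 158 131531354560193287 60
  0x110adecc15f49a5e6916efa115c5bcd8fcf3e9a867e1eeccd9d279cc01d55d582347ea12d029a669b255f1c93b3b910541f15d2a5092a28a6eff74b98701a39abce5e810784da7c98275e2ef2ba2488b3999d0857c25df1344025200bbed785a8c92a9acf4382429181b95d7f6f7a6f42f417f34d151e4223212a64256075b9e92eb034e6c82da2109c012db5463571e48bdd52a0363373567fef785b95953d8e15d8234a10fe08e936a28a675dcbf9fac9167de06e3e0639b11188dd0c7f5f092b214e8ce6954d3a325ef5ce069f68fa5b32f0bd0c43632fe9ca3ba371f11ab073681a9c405b285d2f98f06b8028068be43726c176a1980eb08c4a5687946f8a3189e0d829e3ca68a28d911a66a9f92ab6dc37ddff1cdaf878935d2e75db8fbf23122fbdfb228979a3f49791644f8a8e1204ff2ec145da20490d48953361e7effc6fac01f28f9bb55776f44b85c2279d462c9f627d7cafc86bc84be0a0f120e22beba33834e750eedb512387e2fdfc54f605615446c6605f2a9347ff8b17e8d4380d61dbb28801e8d64a04254efa75a03e1963f3ce684a70d2a50343358fc0cf64a24418ddad2d7b94d34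

/-- scripts -/
noncomputable def S2 : List ((ℕ × ℕ) × Ps) :=
  Fq.dS 10200961 8 73294149608080209 8
  0x1255476d1354d7ce67c374378f410a8a23af024acf12f619fc8cac54302db44ec972cff79f393c373308706492b88af4f2f9c3ad5380eafa9

theorem okC : ∀ x ∈ FL, ∃ CL, okL TAB.Co3.D (TAB.Sm2.mkRows TAB.Co3.A TAB.Co3.B) P Z CL = true ∧ x ∈ CL.map Prod.fst :=
  fun _ h => ⟨[CL0, CL1, CL2, CL3, CL4, CL5].flatten,
    Fq.okL_of 2199023255567 600000 (by decide +kernel),
    h⟩

/-- **the list** -/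
theorem lst {K : Type} [Group K] [Finite K] (h : In K TAB.Co3.D (TAB.Sm2.mkRows TAB.Co3.A TAB.Co3.B)) :
    Lst K L :=
  lst_of_cert h (lst0 h) (l := E.l) (by decide +kernel) (SG := [1, 2, 4, 6, 8, 10, 14]) (by decide +kernel) okC (SS
  := [S0, S1, S2].flatten) (by decide +kernel) (by decide +kernel)

end Cfsg.Agent.SM.Sp.NCo3
end

-- part: SM/Sp/NJ1
section
/-!
# SM (S3570), sporadic socles: J1 (helper26; generated by notes/SM/sp26/gen2.py.txt)
-/

set_option autoImplicit false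
set_option Elab.async false

namespace Cfsg.Agent.SM.Sp.NJ1

open Cfsg Cfsg.Agent.TAB.Eng Cfsg.Agent.H940.Eng Cfsg.Agent.TH.Spor

/-- local data -/
def loc : List LD :=
  [⟨19, 19, [(2, 1), (3, 1), (19, 1)]⟩, ⟨11, 11, [(2, 1), (5, 1), (11, 1)]⟩, ⟨7, 7, [(2, 1), (3, 1), (7, 1)]⟩, ⟨5,
  60, [(2, 2), (3, 1), (5, 1)]⟩, ⟨3, 60, [(2, 2), (3, 1), (5, 1)]⟩]

/-- the pairs which remain -/
def L : List (ℕ × ℕ) :=
  []

/-- the candidates -/
def SV : List (ℕ × ℕ) :=
  []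

/-- the data -/
def E : Ed :=
  ⟨175560, [(19, 1), (11, 1), (7, 1), (5, 1), (3, 1), (2, 3)], H940.Eng.D.o_j1, loc, 56, [], [], [60, 168, 660], SV⟩

theorem ok1 : okEd TH.Spor.J1.dat TH.Spor.J1.tab E = true := by decide +kernel

theorem okB1 : okB E ⟨19, 19, [(2, 1), (3, 1), (19, 1)]⟩ = true := by decide +kernel

/-- the enumeration -/
theorem lst0 {K : Type} [Group K] [Finite K] (h : In K TH.Spor.J1.dat TH.Spor.J1.tab) :
    Lst K SV :=
  lst_of_enum (E := E) h ok1 (H940.Eng.D.ords_j1 base) (fun _ => List.not_mem_nil) List.mem_cons_self (dv_iff.1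
  (by decide +kernel)) okB1 (l1 := []) rfl (W := [].flatten) (by decide +kernel) <| forall_flatten <|
    fa_nil

end Cfsg.Agent.SM.Sp.NJ1
end

-- part: SM/Sp/NJ3
section
/-!
# SM (S3570), sporadic socles: J3 (helper26; generated by notes/SM/sp26/gen2.py.txt)
-/

set_option autoImplicit false
set_option Elab.async false

namespace Cfsg.Agent.SM.Sp.NJ3

open Cfsg Cfsg.Agent.TAB.Eng Cfsg.Agent.H940.Eng Cfsg.Agent.TH.Spor

/-- local data -/
def loc : List LD :=
  [⟨19, 19, [(3, 2), (19, 1)]⟩, ⟨17, 17, [(2, 3), (17, 1)]⟩, ⟨5, 60, [(2, 2), (3, 1), (5, 1)]⟩]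

/-- the pairs which remain -/
def L : List (ℕ × ℕ) :=
  []

/-- the candidates -/
def SV : List (ℕ × ℕ) :=
  []

/-- the data -/
def E : Ed :=
  ⟨50232960, [(19, 1), (17, 1), (5, 1), (3, 5), (2, 7)], H940.Eng.D.o_j3, loc, 85, [], [], [60, 360, 2448, 3420,
  4080, 25920], SV⟩

theorem ok1 : okEd TH.Spor.J3.dat TH.Spor.J3.tab E = true := by decide +kernel

theorem okB1 : okB E ⟨19, 19, [(3, 2), (19, 1)]⟩ = true := by decide +kernel

/-- pieces -/
def W0 : List (ℕ × ℕ) :=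
  [(3420, 1)]

theorem okD0 : okD E [(19, 1), (17, 1), (5, 1), (3, 5), (2, 7)] W0 = true := by decide +kernel

/-- the enumeration -/
theorem lst0 {K : Type} [Group K] [Finite K] (h : In K TH.Spor.J3.dat TH.Spor.J3.tab) :
    Lst K SV :=
  lst_of_enum (E := E) h ok1 (H940.Eng.D.ords_j3 base) (fun _ => List.not_mem_nil) List.mem_cons_self (dv_iff.1
  (by decide +kernel)) okB1 (l1 := []) rfl (W := [W0].flatten) (by decide +kernel) <| forall_flatten <|
    fa_cons (fun _ h => ⟨_, okD0, h⟩) <| fa_nil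

end Cfsg.Agent.SM.Sp.NJ3
end

-- part: SM/Sp/NJ4
section
/-!
# SM (S3570), sporadic socles: J4 (helper26; generated by notes/SM/sp26/gen2.py.txt)
-/

set_option autoImplicit false
set_option Elab.async false

namespace Cfsg.Agent.SM.Sp.NJ4

open Cfsg Cfsg.Agent.TAB.Eng Cfsg.Agent.H940.Eng Cfsg.Agent.TH.Spor

/-- local data -/
def loc : List LD :=
  [⟨43, 43, [(2, 1), (7, 1), (43, 1)]⟩, ⟨37, 37, [(2, 2), (3, 1), (37, 1)]⟩, ⟨31, 31, [(2, 1), (5, 1), (31, 1)]⟩,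
  ⟨29, 29, [(2, 2), (7, 1), (29, 1)]⟩, ⟨23, 23, [(2, 1), (11, 1), (23, 1)]⟩, ⟨7, 2520, [(2, 3), (3, 2), (5, 1), (7,
  1)]⟩, ⟨5, 26880, [(2, 8), (3, 1), (5, 1), (7, 1)]⟩]

/-- the pairs which remain -/
def L : List (ℕ × ℕ) :=
  []

/-- the candidates -/
def SV : List (ℕ × ℕ) :=
  []

/-- the data -/
def E : Ed :=
  ⟨86775571046077562880, [(43, 1), (37, 1), (31, 1), (29, 1), (23, 1), (11, 3), (7, 1), (5, 1), (3, 3), (2, 21)],
  H940.Eng.D.o_j4, loc, 1333, [], [], [60, 168, 360, 504, 660, 2520, 6048, 6072, 7920, 12180, 20160, 32736, 95040,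
  443520, 9999360, 10200960, 70915680, 244823040], SV⟩

theorem ok1 : okEd TAB.J4.D TAB.J4.RR E = true := by decide +kernel

theorem okB1 : okB E ⟨43, 43, [(2, 1), (7, 1), (43, 1)]⟩ = true := by decide +kernel

/-- the enumeration -/
theorem lst0 {K : Type} [Group K] [Finite K] (h : In K TAB.J4.D TAB.J4.RR) :
    Lst K SV :=
  lst_of_enum (E := E) h ok1 (H940.Eng.D.ords_j4 base) (fun _ => List.not_mem_nil) List.mem_cons_self (dv_iff.1
  (by decide +kernel)) okB1 (l1 := []) rfl (W := [].flatten) (by decide +kernel) <| forall_flatten <|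
    fa_nil

end Cfsg.Agent.SM.Sp.NJ4
end

-- part: SM/Sp/NON
section
/-!
# SM (S3570), sporadic socles: ON (helper26; generated by notes/SM/sp26/gen2.py.txt)
-/

set_option autoImplicit false
set_option Elab.async false

namespace Cfsg.Agent.SM.Sp.NON

open Cfsg Cfsg.Agent.TAB.Eng Cfsg.Agent.H940.Eng Cfsg.Agent.TH.Spor

/-- local data -/
def loc : List LD :=
  [⟨31, 31, [(3, 1), (5, 1), (31, 1)]⟩, ⟨19, 19, [(2, 1), (3, 1), (19, 1)]⟩, ⟨11, 11, [(2, 1), (5, 1), (11, 1)]⟩, ⟨5,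
  720, [(2, 4), (3, 2), (5, 1)]⟩]

/-- the pairs which remain -/
def L : List (ℕ × ℕ) :=
  []

/-- the candidates -/
def SV : List (ℕ × ℕ) :=
  []

/-- the data -/
def E : Ed :=
  ⟨460815505920, [(31, 1), (19, 1), (11, 1), (7, 3), (5, 1), (3, 4), (2, 9)], H940.Eng.D.o_opn, loc, 10944, [], [],
  [60, 168, 360, 504, 660, 2520, 6048, 7920, 14880, 20160, 25920, 95040, 175560, 181440, 443520, 1451520, 1876896,
  5515776], SV⟩

theorem ok1 : okEd TAB.ON.dON TAB.ON.tabON E = true := by decide +kernel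

theorem okB1 : okB E ⟨31, 31, [(3, 1), (5, 1), (31, 1)]⟩ = true := by decide +kernel

/-- pieces -/
def W0 : List (ℕ × ℕ) :=
  [(14880, 1)]

theorem okD0 : okD E [(31, 1), (19, 1), (11, 1), (7, 3), (5, 1), (3, 4), (2, 9)] W0 = true := by decide +kernel

/-- the enumeration -/
theorem lst0 {K : Type} [Group K] [Finite K] (h : In K TAB.ON.dON TAB.ON.tabON) :
    Lst K SV :=
  lst_of_enum (E := E) h ok1 (H940.Eng.D.ords_opn base) (fun _ => List.not_mem_nil) List.mem_cons_self (dv_iff.1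
  (by decide +kernel)) okB1 (l1 := []) rfl (W := [W0].flatten) (by decide +kernel) <| forall_flatten <|
    fa_cons (fun _ h => ⟨_, okD0, h⟩) <| fa_nil

end Cfsg.Agent.SM.Sp.NON
end

-- part: SM/Sp/NLy
section
/-!
# SM (S3570), sporadic socles: Ly (helper26; generated by notes/SM/sp26/gen2.py.txt)
-/

set_option autoImplicit false
set_option Elab.async false

namespace Cfsg.Agent.SM.Sp.NLy

open Cfsg Cfsg.Agent.TAB.Eng Cfsg.Agent.H940.Eng Cfsg.Agent.TH.Spor

/-- local data -/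
def loc : List LD :=
  [⟨67, 67, [(2, 1), (11, 1), (67, 1)]⟩, ⟨37, 37, [(2, 1), (3, 2), (37, 1)]⟩, ⟨31, 31, [(2, 1), (3, 1), (31, 1)]⟩,
  ⟨11, 66, [(2, 1), (3, 1), (5, 1), (11, 1)]⟩, ⟨7, 1008, [(2, 4), (3, 2), (7, 1)]⟩]

/-- the pairs which remain -/
def L : List (ℕ × ℕ) :=
  []

/-- the candidates -/
def SV : List (ℕ × ℕ) :=
  []

/-- the data -/
def E : Ed :=
  ⟨51765179004000000, [(67, 1), (37, 1), (31, 1), (11, 1), (7, 1), (5, 6), (3, 7), (2, 8)], H940.Eng.D.o_ly, loc,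
  2480, [], [], [60, 168, 360, 504, 660, 2520, 6048, 7920, 20160, 25920, 32736, 95040, 126000, 181440, 372000,
  443520, 604800, 1814400, 3265920, 19958400, 898128000, 5859000000], SV⟩

theorem ok1 : okEd TAB.Ly.dat TAB.Ly.tb E = true := by decide +kernel

theorem okB1 : okB E ⟨67, 67, [(2, 1), (11, 1), (67, 1)]⟩ = true := by decide +kernel

/-- the enumeration -/
theorem lst0 {K : Type} [Group K] [Finite K] (h : In K TAB.Ly.dat TAB.Ly.tb) :
    Lst K SV :=
  lst_of_enum (E := E) h ok1 (H940.Eng.D.ords_ly base) (fun _ => List.not_mem_nil) List.mem_cons_self (dv_iff.1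
  (by decide +kernel)) okB1 (l1 := []) rfl (W := [].flatten) (by decide +kernel) <| forall_flatten <|
    fa_nil

end Cfsg.Agent.SM.Sp.NLy
end

-- part: SM/Sp/NFi23
section
/-!
# SM (S3570), sporadic socles: Fi23 (helper26; generated by notes/SM/sp26/gen2.py.txt)
-/

set_option autoImplicit false
set_option Elab.async false

namespace Cfsg.Agent.SM.Sp.NFi23

open Cfsg Cfsg.Agent.TAB.Eng Cfsg.Agent.H940.Eng Cfsg.Agent.TH.Spor

/-- local data -/
def loc : List LD :=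
  [⟨23, 23, [(11, 1), (23, 1)]⟩, ⟨17, 17, [(2, 4), (17, 1)]⟩, ⟨13, 468, [(2, 2), (3, 2), (13, 1)]⟩, ⟨11, 88, [(2, 3),
  (5, 1), (11, 1)]⟩, ⟨7, 5040, [(2, 4), (3, 2), (5, 1), (7, 1)]⟩]

/-- the pairs which remain -/
def L : List (ℕ × ℕ) :=
  []

/-- the candidates -/
def SV : List (ℕ × ℕ) :=
  []

/-- the data -/
def E : Ed :=
  ⟨4089470473293004800, [(23, 1), (17, 1), (13, 1), (11, 1), (7, 1), (5, 2), (3, 13), (2, 18)], H940.Eng.D.o_fi23,
  loc, 782, [], [], [60, 168, 360, 504, 660, 1092, 2448, 2520, 4080, 5616, 6048, 6072, 7800, 7920, 9828, 20160,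
  25920, 29120, 62400, 95040, 181440, 262080, 443520, 604800, 979200, 1451520, 1814400, 3265920, 4245696, 6065280,
  10200960, 13685760, 17971200, 19958400, 174182400, 197406720, 239500800, 244823040, 251596800, 3113510400,
  4585351680, 9196830720, 47377612800, 448345497600, 4952179814400, 64561751654400], SV⟩

theorem ok1 : okEd TAB.F23.D TAB.F23.R E = true := by decide +kernel

/-- the prepared lists -/
noncomputable def Qq : List Fq.Lq :=
  [(23, [23, 253],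
  Fq.dN 4089470473293004801 6 0x7c79bd5f88581ef7d26a101cd8f4a4918ab791f06dacae12024873f9ea3171a4b860d1f974ffc5680f99a59cb744c,
  [(262144, 2049), (1594323, 131073), (25, 1), (7, 1), (11, 1), (13, 1), (17, 1)]),
  (17, [17, 34, 68, 136, 272],
  Fq.dN 4089470473293004801 20 0x1724292fcc941150d637106fd18c0eb156001b7b5159e742ecb5b38180136d7c316bfd0da514d60f4a1d66a0b744e083fdbdc8e52670ade292da6be71972d40f96bf6bff6e9250c6becb6c8988652741973806aadf98b718649e43a489905fbe32a412408b25b506abb6a0f74408b016a0615e04c7a3c671eef51df3a036ad3706a79fc754f94e323efc52c1c1bcc3c1e97d769806589a7e09f4cf,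
  [(262144, 65793), (1594323, 1), (25, 1), (7, 1), (11, 1), (13, 1), (23, 1)])]

theorem okQq : Fq.okQs E Qq = true := by decide +kernel

theorem okB1 : okB E ⟨23, 23, [(11, 1), (23, 1)]⟩ = true := by decide +kernel

/-- pieces -/
def W0 : List (ℕ × ℕ) :=
  [(6072, 1), (6072, 11), (6072, 23), (6072, 253), (10200960, 1), (10200960, 7), (10200960, 11), (10200960, 77),
  (10200960, 23), (10200960, 161), (10200960, 253), (10200960, 1771), (244823040, 1), (244823040, 7), (244823040,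
  11)]

/-- pieces -/
def W1 : List (ℕ × ℕ) :=
  [(244823040, 77), (244823040, 23), (244823040, 161), (244823040, 253), (244823040, 1771)]

theorem okDq : okD E [(5, 2), (3, 13), (2, 18)] [W0, W1].flatten = true :=
  Fq.okD_of okQq (by decide +kernel)

/-- the enumeration -/
theorem lst0 {K : Type} [Group K] [Finite K] (h : In K TAB.F23.D TAB.F23.R) :
    Lst K SV :=
  lst_of_enum (E := E) h ok1 (H940.Eng.D.ords_fi23 base) (fun _ => List.not_mem_nil) List.mem_cons_self (dv_iff.1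
  (by decide +kernel)) okB1 (l1 := [(23, 1), (17, 1), (13, 1), (11, 1), (7, 1)]) rfl (W := [W0, W1].flatten)
  (by decide +kernel) 
  fun _ h => ⟨_, okDq, h⟩

end Cfsg.Agent.SM.Sp.NFi23
end

-- part: SM/Sp/NFi24
section
/-!
# SM (S3570), sporadic socles: Fi24 (helper26; generated by notes/SM/sp26/gen2.py.txt)
-/

set_option autoImplicit false
set_option Elab.async false

namespace Cfsg.Agent.SM.Sp.NFi24

open Cfsg Cfsg.Agent.TAB.Eng Cfsg.Agent.H940.Eng Cfsg.Agent.TH.Spor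

/-- local data -/
def loc : List LD :=
  [⟨29, 29, [(2, 1), (7, 1), (29, 1)]⟩, ⟨23, 23, [(11, 1), (23, 1)]⟩, ⟨17, 17, [(2, 4), (17, 1)]⟩, ⟨13, 2808, [(2,
  3), (3, 3), (13, 1)]⟩, ⟨11, 264, [(2, 3), (3, 1), (5, 1), (11, 1)]⟩]

/-- the pairs which remain -/
def L : List (ℕ × ℕ) :=
  []

/-- the candidates -/
def SV : List (ℕ × ℕ) :=
  []

/-- the data -/
def E : Ed :=
  ⟨1255205709190661721292800, [(29, 1), (23, 1), (17, 1), (13, 1), (11, 1), (7, 3), (5, 2), (3, 16), (2, 21)],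
  H940.Eng.D.o_fi24p, loc, 8671, [], [], [60, 168, 360, 504, 660, 1092, 2448, 2520, 4080, 5616, 6048, 6072, 7800,
  7920, 9828, 12180, 20160, 25920, 29120, 58800, 62400, 95040, 181440, 262080, 443520, 604800, 979200, 1451520,
  1814400, 3265920, 4245696, 6065280, 10200960, 13685760, 17971200, 19958400, 42456960, 174182400, 197406720,
  211341312, 239500800, 244823040, 251596800, 1056706560, 3113510400, 4030387200, 4585351680, 9196830720,
  43589145600, 47377612800, 448345497600, 4952179814400, 25015379558400, 64561751654400, 4089470473293004800], SV⟩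

theorem ok1 : okEd TAB.F24.DT TAB.F24.tabT E = true := by decide +kernel

theorem okB1 : okB E ⟨29, 29, [(2, 1), (7, 1), (29, 1)]⟩ = true := by decide +kernel

/-- pieces -/
def W0 : List (ℕ × ℕ) :=
  [(12180, 1)]

theorem okD0 : okD E [(29, 1), (23, 1), (17, 1), (13, 1), (11, 1), (7, 3), (5, 2), (3, 16), (2, 21)] W0 = true := by decide +kernel

/-- the enumeration -/
theorem lst0 {K : Type} [Group K] [Finite K] (h : In K TAB.F24.DT TAB.F24.tabT) :
    Lst K SV :=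
  lst_of_enum (E := E) h ok1 (H940.Eng.D.ords_fi24p base) (fun _ => List.not_mem_nil) List.mem_cons_self (dv_iff.1
  (by decide +kernel)) okB1 (l1 := []) rfl (W := [W0].flatten) (by decide +kernel) <| forall_flatten <|
    fa_cons (fun _ h => ⟨_, okD0, h⟩) <| fa_nil

end Cfsg.Agent.SM.Sp.NFi24
end

-- part: SM/Sp/NTh
section
/-!
# SM (S3570), sporadic socles: Th (helper26; generated by notes/SM/sp26/gen2.py.txt)
-/

set_option autoImplicit false
set_option Elab.async false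

namespace Cfsg.Agent.SM.Sp.NTh

open Cfsg Cfsg.Agent.TAB.Eng Cfsg.Agent.H940.Eng Cfsg.Agent.TH.Spor

/-- local data -/
def loc : List LD :=
  [⟨31, 31, [(3, 1), (5, 1), (31, 1)]⟩, ⟨19, 19, [(2, 1), (3, 2), (19, 1)]⟩, ⟨13, 117, [(2, 2), (3, 2), (13, 1)]⟩]

/-- the pairs which remain -/
def L : List (ℕ × ℕ) :=
  []

/-- the candidates -/
def SV : List (ℕ × ℕ) :=
  []

/-- the data -/
def E : Ed :=
  ⟨90745943887872000, [(31, 1), (19, 1), (13, 1), (7, 2), (5, 3), (3, 10), (2, 15)], H940.Eng.D.o_th, loc, 248, [],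
  [], [60, 168, 360, 504, 1092, 2520, 3420, 5616, 6048, 7800, 9828, 14880, 20160, 25920, 29120, 58800, 62400, 126000,
  181440, 262080, 372000, 604800, 1451520, 1814400, 3265920, 4245696, 5515776, 6065280, 9999360, 17971200, 174182400,
  211341312, 251596800, 4585351680, 20158709760], SV⟩

theorem ok1 : okEd TAB.Th.D (TAB.Sm2.mkRows TAB.Th.rowA TAB.Th.rowB) E = true := by decide +kernel

/-- the prepared lists -/
noncomputable def Qq : List Fq.Lq :=
  [(31, [31, 93, 155, 465],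
  Fq.dN 90745943887872001 12 0xfe9e46fa23c3aaefa8011bdb64a507b7704a7191dc4f7716e7ce6df9670ae317303ff9014d14f7d491fb64ef30122c42c768ab9cefa6e7317edfaa2dcae3e1815c25bc34c8dbb0ef005aa860eb13414f5a2201bc8,
  [(32768, 33825), (59049, 1), (125, 65), (49, 1), (13, 1), (19, 1)]),
  (19, [19, 38, 57, 114, 171, 342],
  Fq.dN 90745943887872001 13 0x140a77e4ebb5b4bc81e3e0d1d945d0fba0042131b86894244370d71e7575069a6cfb4f566edd0edfc220c9530e0031e15bde932ecd7320068082f1fd89ce13a526680a6c2f42771a257dc45d1c6b52ab4a4caa6172b03111907ca2f9,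
  [(32768, 1), (59049, 1), (125, 1), (49, 1), (13, 1), (31, 1)])]

theorem okQq : Fq.okQs E Qq = true := by decide +kernel

theorem okB1 : okB E ⟨31, 31, [(3, 1), (5, 1), (31, 1)]⟩ = true := by decide +kernel

/-- pieces -/
def W0 : List (ℕ × ℕ) :=
  [(14880, 1), (14880, 31), (372000, 1), (372000, 31), (9999360, 1), (9999360, 31)]

/-- pieces -/
def W1 : List (ℕ × ℕ) :=
  [(20158709760, 1)]

/-- pieces -/
def W2 : List (ℕ × ℕ) :=
  [(20158709760, 31)]

theorem okDq : okD E [(7, 2), (5, 3), (3, 10), (2, 15)] [W0, W1, W2].flatten = true :=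
  Fq.okD_of okQq (by decide +kernel)

/-- the enumeration -/
theorem lst0 {K : Type} [Group K] [Finite K] (h : In K TAB.Th.D (TAB.Sm2.mkRows TAB.Th.rowA TAB.Th.rowB)) :
    Lst K SV :=
  lst_of_enum (E := E) h ok1 (H940.Eng.D.ords_th base) (fun _ => List.not_mem_nil) List.mem_cons_self (dv_iff.1
  (by decide +kernel)) okB1 (l1 := [(31, 1), (19, 1), (13, 1)]) rfl (W := [W0, W1, W2].flatten) (by decide +kernel)
  
  fun _ h => ⟨_, okDq, h⟩

end Cfsg.Agent.SM.Sp.NTh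
end

-- part: SM/Sp/NB
section
/-!
# SM (S3570), sporadic socles: B (helper26; generated by notes/SM/sp26/gen2.py.txt)
-/

set_option autoImplicit false
set_option Elab.async false

namespace Cfsg.Agent.SM.Sp.NB

open Cfsg Cfsg.Agent.TAB.Eng Cfsg.Agent.H940.Eng Cfsg.Agent.TH.Spor

/-- local data -/
def loc : List LD :=
  [⟨47, 47, [(23, 1), (47, 1)]⟩, ⟨31, 31, [(3, 1), (5, 1), (31, 1)]⟩, ⟨23, 46, [(2, 1), (11, 1), (23, 1)]⟩, ⟨19, 76,
  [(2, 2), (3, 2), (19, 1)]⟩, ⟨17, 1088, [(2, 6), (17, 1)]⟩, ⟨13, 3744, [(2, 5), (3, 2), (13, 1)]⟩, ⟨11, 13200, [(2,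
  4), (3, 1), (5, 2), (11, 1)]⟩]

/-- the pairs which remain -/
def L : List (ℕ × ℕ) :=
  []

/-- the candidates -/
def SV : List (ℕ × ℕ) :=
  []

/-- the data -/
def E : Ed :=
  ⟨4154781481226426191177580544000000, [(47, 1), (31, 1), (23, 1), (19, 1), (17, 1), (13, 1), (11, 1), (7, 2), (5,
  6), (3, 13), (2, 41)], H940.Eng.D.o_b, loc, 4371, [], [], [60, 168, 360, 504, 660, 1092, 2448, 2520, 3420, 4080,
  5616, 6048, 6072, 7800, 7920, 9828, 14880, 20160, 25920, 29120, 51888, 58800, 62400, 95040, 126000, 175560, 181440,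
  262080, 372000, 443520, 604800, 979200, 1451520, 1814400, 3265920, 4245696, 4680000, 5515776, 6065280, 9999360,
  10200960, 13685760, 17971200, 19958400, 42456960, 44352000, 50232960, 174182400, 197406720, 211341312, 239500800,
  244823040, 251596800, 898128000, 1056706560, 3113510400, 4585351680, 7254000000, 9196830720, 14742000000,
  20158709760, 43589145600, 47377612800, 448345497600, 495766656000, 653837184000, 4106059776000, 4952179814400,
  10461394944000, 25015379558400, 42305421312000, 64561751654400, 177843714048000, 273030912000000, 3201186852864000,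
  3311126603366400, 60822550204416000, 90745943887872000, 4089470473293004800, 4157776806543360000,
  76532479683774853939200], SV⟩

theorem ok1 : okEd TAB.B.Fin.datF TAB.B.Fin.tabB E = true := by decide +kernel

theorem okB1 : okB E ⟨47, 47, [(23, 1), (47, 1)]⟩ = true := by decide +kernel

/-- pieces -/
def W0 : List (ℕ × ℕ) :=
  [(51888, 1)]

theorem okD0 : okD E [(47, 1), (31, 1), (23, 1), (19, 1), (17, 1), (13, 1), (11, 1), (7, 2), (5, 6), (3, 13), (2, 41)] W0 = true := by decide +kernel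

/-- the enumeration -/
theorem lst0 {K : Type} [Group K] [Finite K] (h : In K TAB.B.Fin.datF TAB.B.Fin.tabB) :
    Lst K SV :=
  lst_of_enum (E := E) h ok1 (H940.Eng.D.ords_b base) (fun _ => List.not_mem_nil) List.mem_cons_self (dv_iff.1
  (by decide +kernel)) okB1 (l1 := []) rfl (W := [W0].flatten) (by decide +kernel) <| forall_flatten <|
    fa_cons (fun _ h => ⟨_, okD0, h⟩) <| fa_nil

end Cfsg.Agent.SM.Sp.NB
end

-- part: SM/Sp/NM
section
/-!
# SM (S3570), sporadic socles: M (helper26; generated by notes/SM/sp26/gen2.py.txt)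
-/

set_option autoImplicit false
set_option Elab.async false

namespace Cfsg.Agent.SM.Sp.NM

open Cfsg Cfsg.Agent.TAB.Eng Cfsg.Agent.H940.Eng Cfsg.Agent.TH.Spor

/-- local data -/
def loc : List LD :=
  [⟨71, 71, [(5, 1), (7, 1), (71, 1)]⟩, ⟨59, 59, [(29, 1), (59, 1)]⟩, ⟨47, 94, [(2, 1), (23, 1), (47, 1)]⟩, ⟨41, 41,
  [(2, 3), (5, 1), (41, 1)]⟩, ⟨31, 558, [(2, 1), (3, 2), (5, 1), (31, 1)]⟩, ⟨29, 87, [(2, 2), (3, 1), (7, 1), (29,
  1)]⟩, ⟨23, 552, [(2, 3), (3, 1), (11, 1), (23, 1)]⟩, ⟨19, 20520, [(2, 3), (3, 3), (5, 1), (19, 1)]⟩, ⟨17, 45696,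
  [(2, 7), (3, 1), (7, 1), (17, 1)]⟩]

/-- the pairs which remain -/
def L : List (ℕ × ℕ) :=
  []

/-- the candidates -/
def SV : List (ℕ × ℕ) :=
  []

/-- the data -/
def E : Ed :=
  ⟨808017424794512875886459904961710757005754368000000000, [(71, 1), (59, 1), (47, 1), (41, 1), (31, 1), (29, 1),
  (23, 1), (19, 1), (17, 1), (13, 3), (11, 2), (7, 6), (5, 9), (3, 20), (2, 46)], H940.Eng.D.o_m, loc, 196883, [],
  [], [60, 168, 360, 504, 660, 1092, 2448, 2520, 3420, 4080, 5616, 6048, 6072, 7800, 7920, 9828, 12180, 14880, 20160,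
  25920, 29120, 32736, 34440, 51888, 58800, 62400, 95040, 102660, 126000, 175560, 178920, 181440, 262080, 265680,
  372000, 443520, 604800, 979200, 1451520, 1814400, 1876896, 3265920, 4245696, 4680000, 5515776, 6065280, 9999360,
  10200960, 13685760, 17971200, 19958400, 32537600, 42456960, 44352000, 50232960, 138297600, 174182400, 197406720,
  211341312, 239500800, 244823040, 251596800, 898128000, 987033600, 1018368000, 1056706560, 1425715200, 1721606400,
  3113510400, 4030387200, 4585351680, 5859000000, 7254000000, 9196830720, 14742000000, 20158709760, 43589145600,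
  47377612800, 145926144000, 237783237120, 448345497600, 460815505920, 495766656000, 653837184000, 2317591180800,
  4106059776000, 4952179814400, 10151968619520, 10461394944000, 23499295948800, 25015379558400, 34693789777920,
  42305421312000, 50759843097600, 53443952640000, 64561751654400, 177843714048000, 273030912000000, 3201186852864000,
  3311126603366400, 21032402889738240, 24815256521932800, 60822550204416000, 65784756654489600, 90745943887872000,
  1216451004088320000, 4089470473293004800, 4157776806543360000, 25545471085854720000, 50027557148216524800,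
  51615733565620224000, 562000363888803840000, 1120527288631296000000, 12926008369442488320000,
  76532479683774853939200, 310224200866619719680000, 1255205709190661721292800, 7755605021665492992000000,
  201645730563302817792000000, 5444434725209176080384000000, 4420880996869850977271808000000,
  132626429906095529318154240000000, 4111419327088961408862781440000000, 4154781481226426191177580544000000], SV⟩

theorem ok1 : okEd TAB.M.dat TAB.M.tabM E = true := by decide +kernel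

theorem okB1 : okB E ⟨71, 71, [(5, 1), (7, 1), (71, 1)]⟩ = true := by decide +kernel

/-- pieces -/
def W0 : List (ℕ × ℕ) :=
  [(178920, 1)]

theorem okD0 : okD E [(71, 1), (59, 1), (47, 1), (41, 1), (31, 1), (29, 1), (23, 1), (19, 1), (17, 1), (13, 3), (11, 2), (7, 6), (5, 9), (3, 20), (2, 46)] W0 = true := by decide +kernel

/-- the enumeration -/
theorem lst0 {K : Type} [Group K] [Finite K] (h : In K TAB.M.dat TAB.M.tabM) :
    Lst K SV :=
  lst_of_enum (E := E) h ok1 (H940.Eng.D.ords_m base) (fun _ => List.not_mem_nil) List.mem_cons_self (dv_iff.1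
  (by decide +kernel)) okB1 (l1 := []) rfl (W := [W0].flatten) (by decide +kernel) <| forall_flatten <|
    fa_cons (fun _ h => ⟨_, okD0, h⟩) <| fa_nil

end Cfsg.Agent.SM.Sp.NM
end

-- part: SM/Sp/Main
section
/-!
# SM (S3570), sporadic socles: the 18 groups without a row (helper26)
-/

set_option autoImplicit false

namespace Cfsg.Agent.SM.Sp

open Cfsg Cfsg.Agent.TH.Spor

/-- **the 18 groups without a row** -/
theorem lsts : Lsts where
  j1 := fun _ _ _ h => NJ1.lst0 (in_j1 h)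
  j2 := fun _ _ _ h => NJ2.lst (in_j2 h)
  j3 := fun _ _ _ h => NJ3.lst0 (in_j3 h)
  j4 := fun _ _ _ h => NJ4.lst0 (in_j4 h)
  co2 := fun _ _ _ h => NCo2.lst (in_co2 h)
  co3 := fun _ _ _ h => NCo3.lst (in_co3 h)
  mcl := fun _ _ _ h => NMcL.lst (in_mcl h)
  he := fun _ _ _ h => NHe.lst (in_he h)
  ru := fun _ _ _ h => NRu.lst (in_ru h)
  on := fun _ _ _ h => NON.lst0 (in_on h)
  ly := fun _ _ _ h => NLy.lst0 (in_ly h)
  fi23 := fun _ _ _ h => NFi23.lst0 (in_fi23 TAB.F23C.inF23 h)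
  fi24 := fun _ _ _ h => NFi24.lst0 (in_fi24 TAB.F24C.inF24 h)
  hn := fun _ _ _ h => NHN.lst (in_hn h)
  th := fun _ _ _ h => NTh.lst0 (in_th h)
  b := fun _ _ _ h => NB.lst0 (in_b h)
  m := fun _ _ _ h => NM.lst0 (in_m h)
  tits := fun _ _ _ h => NTits.lst (in_tits h)

end Cfsg.Agent.SM.Sp
end
end

-- part: SM/SpB/Fix
section
set_option linter.all false
open scoped Cfsg.Agent.FastGrp

/-!
# SM (S3570), the socle `Co1` (helper83): the subgroups `Co2`, `Co3` are stabilizers; no maximal `A₅` in `Co3`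
-/

set_option autoImplicit false

namespace Cfsg.Agent.SM.SpB

open Cfsg Subgroup MulAction Module Cfsg.Agent.MonsterU.Lam2 Cfsg.Agent.H419.LeechIrr Cfsg.Agent.TAB Cfsg.Agent.TAB.Eng
  Cfsg.Agent.TAB.Use Cfsg.Agent.TH.Spor Cfsg.Agent.H219.HerSmall
open Cfsg.Spor (Co1)

theorem iso2 {S : Type} [Group S] [Finite S] (hs : IsSimpleGroup S) (hn : ¬ IsMulCommutative S)
    (h : Nat.card S = 42305421312000) : Spor.IsoCo2 S := by
  obtain ⟨g, hg, hr⟩ := Sp.NoS.name hs hn h (l := [(2, 18), (3, 6), (5, 3), (7, 1), (11, 1), (23, 1)]) (by decide +kernel)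
    (L := [.co2]) (by decide +kernel)
  obtain rfl := List.mem_singleton.1 hg
  exact hr

theorem iso3 {S : Type} [Group S] [Finite S] (hs : IsSimpleGroup S) (hn : ¬ IsMulCommutative S)
    (h : Nat.card S = 495766656000) : Spor.IsoCo3 S := by
  obtain ⟨g, hg, hr⟩ := Sp.NoS.name hs hn h (l := [(2, 10), (3, 7), (5, 3), (7, 1), (11, 1), (23, 1)]) (by decide +kernel)
    (L := [.co3]) (by decide +kernel)
  obtain rfl := List.mem_singleton.1 hg
  exact hr

variable {X A : Subgroup Co1}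

theorem lift {P : Type} [Group P] (e : X ≃* P) (hs : IsSimpleGroup X) (hn : ¬ IsMulCommutative X)
    (hM : HasCyclicSchurMultiplier P 1) : ∃ f : X →* Co0, (∀ (t : X) (x : L2), f t • x = (t : Co1) • x) ∧ ∃ g, f g ≠ 1 := by
  have := fin1
  have : Finite P := Finite.of_equiv _ e.toEquiv
  have h1 : Group.IsPerfect X := ⟨(hs.eq_bot_or_eq_top_of_normal (commutator X) inferInstance).resolve_left fun h =>
    hn ⟨⟨fun a b => commutatorElement_eq_one_iff_mul_comm.1 (mem_bot.1 (h ▸ commutator_mem_commutator (mem_top a)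
      (mem_top b)))⟩⟩⟩
  obtain ⟨η, h⟩ := H487.exists_lift_of_trivial (Group.IsPerfect.ofSurjective (f := e.toMonoidHom) e.surjective) hM
    (X.subtype.comp e.symm.toMonoidHom) (QuotientGroup.mk'_surjective (center Co0)) (QuotientGroup.ker_mk' _).le
  have h2 : ∀ t : X, (QuotientGroup.mk (η (e t)) : Co1) = t := fun t =>
    (DFunLike.congr_fun h (e t)).trans (congrArg Subtype.val (e.symm_apply_apply t))
  obtain ⟨g, hg⟩ := exists_ne (1 : X)
  exact ⟨η.comp e.toMonoidHom, fun t x => by rw [← h2 t]; rfl, g, fun k => hg (Subtype.ext (by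
    rw [← h2 g, show η (e g) = 1 from k]; rfl))⟩

theorem eq_stab {x : L2} (h : X ≤ stabilizer Co1 x) (h0 : x ≠ 0) :
    (Nat.card X = 42305421312000 → IsType 2 x ∧ X = stabilizer Co1 x) ∧
      (Nat.card X = 495766656000 → IsType 3 x ∧ X = stabilizer Co1 x) := by
  have := fin1
  have h1 := card_dvd_of_le h
  rcases (type_cases x).resolve_left h0 with k | k | k
  · rw [stab2 k] at h1
    exact ⟨fun e => ⟨k, eq_of_le_of_card_ge h (by rw [e, stab2 k])⟩, fun e => absurd (e ▸ h1) (by norm_num)⟩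
  · rw [stab3 k] at h1
    exact ⟨fun e => absurd (e ▸ h1) (by norm_num), fun e => ⟨k, eq_of_le_of_card_ge h (by rw [e, stab3 k])⟩⟩
  · rw [stab4 k] at h1
    exact ⟨fun e => absurd (e ▸ h1) (by norm_num), fun e => absurd (e ▸ h1) (by norm_num)⟩

/-- **`Co2` is a stabilizer** -/
theorem fix2 (hs : IsSimpleGroup X) (hn : ¬ IsMulCommutative X) (h : Nat.card X = 42305421312000) :
    ∃ x, IsType 2 x ∧ X = stabilizer Co1 x := by
  have := fin1
  obtain ⟨e⟩ := iso2 hs hn h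
  obtain ⟨T, -, hT, -⟩ := in_co2 (K := X) ⟨e⟩
  obtain ⟨χ, hE⟩ := Co2.deg_eq ▸ hT.degList
  obtain ⟨f, h1, h2⟩ := lift e hs hn S2044.result
  obtain ⟨v, h3, h4⟩ := exists_cl0 f (lchi_dec hE (by decide) rfl (by decide +kernel) f h2).2.ge
  exact ⟨_, (eq_stab (fun t ht => (h1 ⟨t, ht⟩ _).symm.trans (congrArg cl (h3 _))) h4).1 h⟩

theorem dec3 (hs : IsSimpleGroup X) (hn : ¬ IsMulCommutative X) (h : Nat.card X = 495766656000) :
    ∃ (f : X →* Co0) (v : leechLattice) (T : TD X Co3.D), (∀ (t : X) (x : L2), f t • x = (t : Co1) • x) ∧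
      (∀ t, f t • v = v) ∧ cl v ≠ 0 ∧ ∀ g, lchi f g = (1 + (Co3.A.getD 1 []).getD (T.ty g) 0 : ℤ) := by
  have := fin1
  obtain ⟨e⟩ := iso3 hs hn h
  obtain ⟨T, -, ⟨χ, hE, hR⟩, -⟩ := in_co3 (K := X) ⟨e⟩
  obtain ⟨f, h1, h2⟩ := lift e hs hn S2045.result
  obtain ⟨h5, h6⟩ := lchi_dec hE (by decide +kernel) (by decide +kernel) (by decide +kernel) f h2
  obtain ⟨v, h3, h4⟩ := exists_cl0 f h6.ge
  refine ⟨f, v, T, h1, h3, h4, fun g => ?_⟩
  rw [h5, hR.row (r := ([(1, 1)], Co3.A.getD 1 [])) (by decide +kernel) rfl]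
  simp

/-- **`Co3` is a stabilizer** -/
theorem fix3 (hs : IsSimpleGroup X) (hn : ¬ IsMulCommutative X) (h : Nat.card X = 495766656000) :
    ∃ x, IsType 3 x ∧ X = stabilizer Co1 x := by
  obtain ⟨f, v, -, h1, h3, h4, -⟩ := dec3 hs hn h
  exact ⟨_, (eq_stab (fun t ht => (h1 ⟨t, ht⟩ _).symm.trans (congrArg cl (h3 _))) h4).2 h⟩

/-! ### `A₅` -/

/-- an element of order five -/
def y5 : alternatingGroup (Fin 5) := ⟨Equiv.swap 4 0 * Equiv.swap 0 2 * Equiv.swap 2 3 * Equiv.swap 3 1, by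
  simp [Equiv.Perm.mem_alternatingGroup, Equiv.Perm.sign_swap']⟩

theorem conj5 : ∀ g : alternatingGroup (Fin 5), g ≠ 1 → g ^ 5 = 1 →
    ∃ c : alternatingGroup (Fin 5), g = c * y5 * c⁻¹ ∨ g = c * y5 ^ 2 * c⁻¹ := by
  (set_option synthInstance.maxSize 9000 in open scoped Cfsg.Agent.Lib.FastPerm in decide +kernel)

/-- the values -/
def psi (a b c : ℤ) (g : alternatingGroup (Fin 5)) : ℤ := if g = 1 then 24 else if g ^ 2 = 1 then a else if g ^ 3 = 1 then b else c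

theorem sub_sum (f : alternatingGroup (Fin 5) →* Co0) {a b c : ℤ} (hf : ∀ g, lchi f g = psi a b c g)
    (U : Subgroup (alternatingGroup (Fin 5))) (p : alternatingGroup (Fin 5) → Prop) [DecidablePred p] (h : ∀ g, p g ↔ g ∈ U) :
    ∑ g ∈ Finset.univ.filter p, psi a b c g = (Finset.univ.filter p).card * finrank ℂ (inv (f.comp U.subtype)) := by
  have := Fintype.ofFinite U
  have h1 := sum_lchi (f.comp U.subtype)
  have h2 : ∀ g, g ∈ Finset.univ.filter p ↔ g ∈ U := fun g => by simp [h]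
  rw [show ∑ g, lchi (f.comp U.subtype) g = ∑ g : U, lchi f g from rfl, ← Finset.sum_subtype _ h2,
    Nat.subtype_card _ h2, Finset.sum_congr rfl fun g _ => hf g] at h1
  exact_mod_cast h1

/-- `S₃` -/
def s3 : Subgroup (alternatingGroup (Fin 5)) where
  carrier := {g | (g.1 3 = 3 ∧ g.1 4 = 4) ∨ (g.1 3 = 4 ∧ g.1 4 = 3)}
  one_mem' := Or.inl ⟨rfl, rfl⟩
  mul_mem' := by
    rintro a b (⟨h1, h2⟩ | ⟨h1, h2⟩) (⟨h3, h4⟩ | ⟨h3, h4⟩) <;> simp [h1, h2, h3, h4]
  inv_mem' := by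
    rintro a (⟨h1, h2⟩ | ⟨h1, h2⟩) <;> simp [Equiv.symm_apply_eq, h1, h2]

theorem num5 : ∀ a ∈ ([8, 0] : List ℤ), ∀ b ∈ ([-3, 6, 0] : List ℤ), ∀ c ∈ ([-1, 4] : List ℤ),
    ∑ g ∈ Finset.univ.filter (fun _ => True), psi a b c g ≠ 60 ∨
      ∑ g ∈ Finset.univ.filter (fun g : alternatingGroup (Fin 5) => g.1 4 = 4), psi a b c g < 12 ∨
      2 * ∑ g ∈ Finset.univ.filter (fun g : alternatingGroup (Fin 5) => g.1 3 = 3 ∧ g.1 4 = 4), psi a b c g <
        ∑ g ∈ Finset.univ.filter (fun g : alternatingGroup (Fin 5) => (g.1 3 = 3 ∧ g.1 4 = 4) ∨ (g.1 3 = 4 ∧ g.1 4 = 3)),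
          psi a b c g := by
  decide +kernel

theorem two_le (f : alternatingGroup (Fin 5) →* Co0) {a b c : ℤ} (hf : ∀ g, lchi f g = psi a b c g)
    (ha : a ∈ ([8, 0] : List ℤ)) (hb : b ∈ ([-3, 6, 0] : List ℤ)) (hc : c ∈ ([-1, 4] : List ℤ)) {v : leechLattice}
    (hv : ∀ g, f g • v = v) (h0 : cl v ≠ 0) : 1 < finrank ℂ (inv f) := by
  have h1 := sub_sum f hf ⊤ (fun _ => True) fun g => ⟨fun _ => mem_top g, fun _ => trivial⟩
  have h2 := sub_sum f hf (stabilizer _ (4 : Fin 5)) (fun g => g.1 4 = 4) fun g => Iff.rfl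
  have h3 := sub_sum f hf (stabilizer _ (3 : Fin 5) ⊓ stabilizer _ (4 : Fin 5)) (fun g => g.1 3 = 3 ∧ g.1 4 = 4)
    fun g => Iff.rfl
  have h4 := sub_sum f hf s3 (fun g => (g.1 3 = 3 ∧ g.1 4 = 4) ∨ (g.1 3 = 4 ∧ g.1 4 = 3)) fun g => Iff.rfl
  have h5 := pos_of_fix (f.comp (stabilizer _ (4 : Fin 5)).subtype) (fun g => hv g) h0
  have h6 : finrank ℂ (inv (f.comp s3.subtype)) ≤
      finrank ℂ (inv (f.comp (stabilizer _ (3 : Fin 5) ⊓ stabilizer _ (4 : Fin 5)).subtype)) :=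
    Submodule.finrank_mono fun y hy g => hy ⟨g.1, Or.inl g.2⟩
  have h7 : finrank ℂ (inv (f.comp (⊤ : Subgroup (alternatingGroup (Fin 5))).subtype)) ≤ finrank ℂ (inv f) :=
    Submodule.finrank_mono fun y hy g => hy ⟨g, mem_top g⟩
  have h8 := pos_of_fix (f.comp (⊤ : Subgroup (alternatingGroup (Fin 5))).subtype) (fun g => hv g) h0
  rw [show Finset.card _ = 60 by (set_option synthInstance.maxSize 9000 in open scoped Cfsg.Agent.Lib.FastPerm in decide +kernel)] at h1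
  rw [show Finset.card _ = 12 by (set_option synthInstance.maxSize 9000 in open scoped Cfsg.Agent.Lib.FastPerm in decide +kernel)] at h2
  rw [show Finset.card _ = 3 by (set_option synthInstance.maxSize 9000 in open scoped Cfsg.Agent.Lib.FastPerm in decide +kernel)] at h3
  rw [show Finset.card _ = 6 by (set_option synthInstance.maxSize 9000 in open scoped Cfsg.Agent.Lib.FastPerm in decide +kernel)] at h4
  have := num5 a ha b hb c hc
  omega

/-- **no maximal subgroup `A₅`** -/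
theorem sixty (hs : IsSimpleGroup X) (hn : ¬ IsMulCommutative X) (h : Nat.card X = 495766656000)
    (hN : normalizer (X : Set Co1) ≤ X) (hA : A ⋖ X) (hc : Nat.card A = 60) (h5 : ¬ Group.IsSolvable A) : False := by
  have := fin1
  have : Fact (Nat.Prime 5) := ⟨by norm_num⟩
  obtain ⟨f, v, T, h1, h3, h4, h6⟩ := dec3 hs hn h
  obtain ⟨e⟩ := H352.Order120.alt5_of_card_60 hc h5
  let φ : alternatingGroup (Fin 5) →* X := (inclusion hA.le).comp e.symm.toMonoidHom
  have hφ : Function.Injective φ := (inclusion_injective hA.le).comp e.symm.injective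
  have o : ∀ g, Co3.D.ord (T.ty (φ g)) = orderOf g := fun g => by rw [← T.ord, orderOf_injective φ hφ]
  have cj : ∀ c g, T.ty (φ (c * g * c⁻¹)) = T.ty (φ g) := fun c g => by rw [map_mul, map_mul, map_inv, T.conj]
  have o5 : orderOf y5 = 5 := orderOf_eq_prime (by decide +kernel) (by decide +kernel)
  have k : ∀ t < Co3.D.n, (Co3.D.ord t = 1 → 1 + (Co3.A.getD 1 []).getD t 0 = 24) ∧
      (Co3.D.ord t = 2 → 1 + (Co3.A.getD 1 []).getD t 0 ∈ ([8, 0] : List ℤ)) ∧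
      (Co3.D.ord t = 3 → 1 + (Co3.A.getD 1 []).getD t 0 ∈ ([-3, 6, 0] : List ℤ)) ∧
      (Co3.D.ord t = 5 → 1 + (Co3.A.getD 1 []).getD t 0 ∈ ([-1, 4] : List ℤ) ∧ Co3.D.pwf t 2 = t) := by decide +kernel
  have k5 := (k _ (T.lt _)).2.2.2 ((o y5).trans o5)
  obtain ⟨w, h7, h8, h9⟩ := exists_cl1 (f.comp φ) (two_le (f.comp φ) (fun g => (h6 (φ g)).trans (congrArg Int.cast (by
      unfold psi
      split_ifs with a1 a2 a3
      · exact (k _ (T.lt _)).1 (by rw [o, a1, orderOf_one])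
      · obtain ⟨c, rfl⟩ := conj2 g a1 a2
        rw [cj]
      · obtain ⟨c, rfl⟩ := conj3 g a1 a3
        rw [cj]
      · obtain ⟨c, rfl | rfl⟩ := conj5 g a1 (all g a1 a2 a3)
        · rw [cj]
        · rw [cj, map_pow, T.pow, k5.2])))
    ((k _ (T.lt _)).2.1 ((o t2).trans (orderOf_eq_prime t2_sq t2_ne)))
    ((k _ (T.lt _)).2.2.1 ((o t3).trans (orderOf_eq_prime (by decide +kernel) (by decide +kernel)))) k5.1
    (fun g => h3 _) h4) (fun g => h3 _) h4
  have h10 : A ≤ X ⊓ stabilizer Co1 (cl w) := fun a ha => ⟨hA.le ha, by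
    have a1 := h1 (φ (e ⟨a, ha⟩)) (cl w)
    rw [smul_cl, show f (φ _) • w = w from h7 _] at a1
    simpa [φ] using a1.symm⟩
  rcases hA.eq_or_eq h10 inf_le_left with k1 | k1
  · have a1 : (stabilizer Co1 (cl w)).relIndex X ≤ 2 ^ 24 := by
      refine (relIndex_le_of_le_right le_top index_ne_zero_of_finite).trans ?_
      rw [relIndex_top_right, index_stabilizer, ← card_L2]
      exact Set.ncard_le_card _
    have a2 := ((stabilizer Co1 (cl w)).subgroupOf X).card_mul_index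
    rw [← inf_subgroupOf_left, Nat.card_congr (subgroupOfEquivOfLe inf_le_left).toEquiv, inf_subgroupOf_left, k1, hc,
      h] at a2
    rw [relIndex] at a1
    omega
  · obtain ⟨a1, a2⟩ := (eq_stab (inf_eq_left.1 k1) h8).2 h
    obtain ⟨a3, a4⟩ := (eq_stab (fun t ht => (h1 ⟨t, ht⟩ _).symm.trans (congrArg cl (h3 _))) h4).2 h
    obtain ⟨g, a5⟩ := a3.trans (Or.inr (Or.inl rfl)) a1
    rw [← mk_smul] at a5
    have a6 : (QuotientGroup.mk g : Co1) ∈ stabilizer Co1 (cl v) := a4 ▸ hN (mem_normalizer_fintype fun t ht => by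
      have a6 : t • cl v = cl v := (a4.le ht :)
      refine a2.ge (?_ : _ • cl w = cl w)
      rw [← a5, mul_smul, mul_smul, inv_smul_smul, a6])
    exact h9 (a5.symm.trans a6)

end Cfsg.Agent.SM.SpB
end
end
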